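import Groth.Agent.Approx60.ProjCharts
import Mathlib.AlgebraicGeometry.ProjectiveSpectrum.Proper
import Mathlib.AlgebraicGeometry.Morphisms.Proper
import Mathlib.AlgebraicGeometry.Morphisms.Flat
import Mathlib.AlgebraicGeometry.Limits

/-! The Segre embedding. -/

set_option autoImplicit false

universe u

open CategoryTheory CategoryTheory.Limits AlgebraicGeometry Opposite TopologicalSpace

noncomputable section

set_option backward.isDefEq.respectTransparency false

namespace Groth.Agent.Approx60.Segre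

open HomogeneousLocalization ProjCharts

/-- A pushout of rings is generated by the two images. -/
theorem eq_top_of_isPushout {A B C P : CommRingCat.{u}} {f : A ⟶ B} {g : A ⟶ C} {l : B ⟶ P} {r : C ⟶ P}
    (h : IsPushout f g l r) (S : Subring P) (hl : ∀ b, l b ∈ S) (hr : ∀ c, r c ∈ S) (p : P) : p ∈ S := by
  let l' : B ⟶ CommRingCat.of S := CommRingCat.ofHom (l.hom.codRestrict S hl)
  let r' : C ⟶ CommRingCat.of S := CommRingCat.ofHom (r.hom.codRestrict S hr)
  have w : f ≫ l' = g ≫ r' := by
    ext a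
    exact ConcreteCategory.congr_hom h.w a
  have e : h.desc l' r' w ≫ CommRingCat.ofHom S.subtype = 𝟙 P := by
    refine h.hom_ext ?_ ?_
    · rw [h.inl_desc_assoc, Category.comp_id]; rfl
    · rw [h.inr_desc_assoc, Category.comp_id]; rfl
  have h2 := ConcreteCategory.congr_hom e p
  have h3 : ((h.desc l' r' w p : S) : P) = p := h2
  rw [← h3]
  exact SetLike.coe_mem _

variable (R : Type u) [CommRing R] (n : ℕ)

local notation "𝒜" => CohB1.polyGrading n R

/-- The function `X_l / X_i` on the standard open. -/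
def f (i l : Fin (n + 1)) : Γ(CohB1.ProjSpace n R, U R n i) :=
  Proj.awayToSection 𝒜 (MvPolynomial.X i) (frac R n i (X₁ R n l))

theorem f_self (i : Fin (n + 1)) : f R n i i = 1 := by
  have : frac R n i (X₁ R n i) = 1 := HomogeneousLocalization.val_injective _ (by
    rw [frac, HomogeneousLocalization.val_mk, HomogeneousLocalization.val_one]
    exact Localization.mk_self_mk (M := MvPolynomial (Fin (n + 1)) R) _ _)
  rw [f, this, map_one]

theorem val_awayMap_frac (a b c : Fin (n + 1)) {x : MvPolynomial (Fin (n + 1)) R}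
    (hx : x = MvPolynomial.X a * MvPolynomial.X c) :
    (awayMap 𝒜 (X₁ R n c).2 hx (frac R n a (X₁ R n b))).val =
      Localization.mk (MvPolynomial.X b * MvPolynomial.X c)
        (⟨x, Submonoid.mem_powers x⟩ : Submonoid.powers x) := by
  rw [show frac R n a (X₁ R n b) = HomogeneousLocalization.mk ⟨1, X₁ R n b,
    ⟨MvPolynomial.X a ^ 1, by rw [pow_one]; exact (X₁ R n a).2⟩, (Submonoid.mem_powers_iff _ _).mpr ⟨1, rfl⟩⟩ by
      apply HomogeneousLocalization.val_injective
      rw [frac, HomogeneousLocalization.val_mk, HomogeneousLocalization.val_mk]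
      simp only [pow_one, X₁],
    HomogeneousLocalization.val_awayMap_mk]
  simp only [pow_one, X₁]

/-- Change of standard coordinates. -/
theorem f_cocycle (i l k : Fin (n + 1)) {O : (CohB1.ProjSpace n R).Opens} (hi : O ≤ U R n i) (hl : O ≤ U R n l) :
    (CohB1.ProjSpace n R).presheaf.map (homOfLE hi).op (f R n i k) =
      (CohB1.ProjSpace n R).presheaf.map (homOfLE hi).op (f R n i l) *
        (CohB1.ProjSpace n R).presheaf.map (homOfLE hl).op (f R n l k) := by
  let x : MvPolynomial (Fin (n + 1)) R := MvPolynomial.X i * MvPolynomial.X l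
  have hx' : x = MvPolynomial.X l * MvPolynomial.X i := mul_comm _ _
  have key : awayMap 𝒜 (X₁ R n l).2 (rfl : x = _) (frac R n i (X₁ R n k)) =
      awayMap 𝒜 (X₁ R n l).2 (rfl : x = _) (frac R n i (X₁ R n l)) *
        awayMap 𝒜 (X₁ R n i).2 hx' (frac R n l (X₁ R n k)) := by
    refine HomogeneousLocalization.val_injective _ ?_
    rw [HomogeneousLocalization.val_mul, val_awayMap_frac, val_awayMap_frac, val_awayMap_frac,
      Localization.mk_mul, Localization.mk_eq_mk_iff, Localization.r_iff_exists]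
    exact ⟨1, by simp [x]; ring⟩
  have hO : O ≤ Proj.basicOpen 𝒜 x := by
    rw [Proj.basicOpen_mul]; exact le_inf hi hl
  have e : ∀ (a c : Fin (n + 1)) (hx : x = MvPolynomial.X a * MvPolynomial.X c) (ha : O ≤ U R n a) (b : Fin (n + 1)),
      (CohB1.ProjSpace n R).presheaf.map (homOfLE ha).op (f R n a b) =
        (CohB1.ProjSpace n R).presheaf.map (homOfLE hO).op
          (Proj.awayToSection 𝒜 x (awayMap 𝒜 (X₁ R n c).2 hx (frac R n a (X₁ R n b)))) := by
    intro a c hx ha b
    have h1 := ConcreteCategory.congr_hom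
      (Proj.awayMap_awayToSection 𝒜 (f := MvPolynomial.X a) (X₁ R n c).2 hx) (frac R n a (X₁ R n b))
    refine Eq.trans ?_ (congrArg ((CohB1.ProjSpace n R).presheaf.map (homOfLE hO).op) h1).symm
    have h2 : ∀ (A B : (CohB1.ProjSpace n R).Opens) (h : B ≤ A) (h' : O ≤ B) (z : Γ(CohB1.ProjSpace n R, A)),
        (CohB1.ProjSpace n R).presheaf.map (homOfLE h').op ((CohB1.ProjSpace n R).presheaf.map (homOfLE h).op z) =
          (CohB1.ProjSpace n R).presheaf.map (homOfLE (h'.trans h)).op z := fun A B h h' z => by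
      rw [← CommRingCat.comp_apply, ← Functor.map_comp]; rfl
    exact (h2 _ _ _ hO _).symm
  rw [e i l rfl hi k, e i l rfl hi l, e l i hx' hl k]
  exact (congrArg _ ((congrArg _ key).trans (map_mul _ _ _))).trans (map_mul _ _ _)

theorem fromSpec_U (i : Fin (n + 1)) : (isAffineOpen_U R n i).fromSpec =
    Spec.map (Proj.awayToSection 𝒜 (MvPolynomial.X i)) ≫
      Proj.awayι 𝒜 (MvPolynomial.X i) (X₁ R n i).2 one_pos := by
  have hU := isAffineOpen_U R n i
  have h1 : hU.isoSpec.inv = Spec.map (Proj.awayToSection 𝒜 (MvPolynomial.X i)) ≫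
      (Proj.basicOpenIsoSpec 𝒜 (MvPolynomial.X i) (X₁ R n i).2 one_pos).inv := by
    rw [Iso.eq_comp_inv, Proj.basicOpenIsoSpec_hom]
    show hU.isoSpec.inv ≫ (U R n i).toSpecΓ ≫ _ = _
    rw [← hU.isoSpec_hom, Iso.inv_hom_id_assoc]
  show hU.isoSpec.inv ≫ (U R n i).ι = _
  rw [h1, Category.assoc, ← Proj.basicOpenIsoSpec_inv_ι]

theorem basicOpen_f (i l : Fin (n + 1)) : (CohB1.ProjSpace n R).basicOpen (f R n i l) ≤ U R n l := by
  intro x hx
  have hxi : x ∈ U R n i := (CohB1.ProjSpace n R).basicOpen_le _ hx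
  obtain ⟨p, rfl⟩ : x ∈ Set.range (isAffineOpen_U R n i).fromSpec := by
    rw [(isAffineOpen_U R n i).range_fromSpec]; exact hxi
  have h1 : p ∈ (isAffineOpen_U R n i).fromSpec ⁻¹ᵁ (CohB1.ProjSpace n R).basicOpen (f R n i l) := hx
  rw [(isAffineOpen_U R n i).fromSpec_preimage_basicOpen] at h1
  rw [fromSpec_U]
  show Spec.map (Proj.awayToSection 𝒜 (MvPolynomial.X i)) p ∈
    Proj.awayι 𝒜 (MvPolynomial.X i) (X₁ R n i).2 one_pos ⁻¹ᵁ Proj.basicOpen 𝒜 (MvPolynomial.X l)
  rw [Proj.awayι_preimage_basicOpen 𝒜 (f := (MvPolynomial.X i : MvPolynomial (Fin (n + 1)) R)) (X₁ R n i).2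
    (zero_lt_one' ℕ) (g := MvPolynomial.X l) (X₁ R n l).2 (hm' := one_pos)]
  have e : Away.isLocalizationElem (X₁ R n i).2 (X₁ R n l).2 = frac R n i (X₁ R n l) := by
    apply HomogeneousLocalization.val_injective
    simp [Away.isLocalizationElem, frac, Away.val_mk, HomogeneousLocalization.val_mk, X₁]
  exact (congrArg (fun z => Spec.map (Proj.awayToSection 𝒜 (MvPolynomial.X i)) p ∈ PrimeSpectrum.basicOpen z) e).mpr h1

variable (m : ℕ)

local notation "P" => pullback (CohB1.ProjSpace.toSpec n R) (CohB1.ProjSpace.toSpec m R)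

instance : (P).Over (Spec (CommRingCat.of R)) := ⟨pullback.fst _ _ ≫ CohB1.ProjSpace.toSpec n R⟩

/-- The first projection. -/
abbrev pr₁ : P ⟶ CohB1.ProjSpace n R := pullback.fst _ _

/-- The second projection. -/
abbrev pr₂ : P ⟶ CohB1.ProjSpace m R := pullback.snd _ _

/-- The product of two standard opens. -/
def W (ij : Fin (n + 1) × Fin (m + 1)) : (P).Opens :=
  pr₁ R n m ⁻¹ᵁ U R n ij.1 ⊓ pr₂ R n m ⁻¹ᵁ U R m ij.2

theorem isAffineOpen_W (ij : Fin (n + 1) × Fin (m + 1)) : IsAffineOpen (W R n m ij) := by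
  have H := (IsPullback.of_hasPullback (CohB1.ProjSpace.toSpec n R) (CohB1.ProjSpace.toSpec m R)).flip
  have h := Scheme.Hom.isPullback_resLE H (US := ⊤) (UT := U R n ij.1) (UX := U R m ij.2)
    (UY := W R n m ij) (by simp) (by simp) (inf_comm _ _)
  have : IsAffine _ := isAffineOpen_U R n ij.1
  have : IsAffine _ := isAffineOpen_U R m ij.2
  have : IsAffine ((⊤ : (Spec (CommRingCat.of R)).Opens) : Scheme.{u}) := isAffineOpen_top _
  exact .of_isIso h.isoPullback.hom

theorem const_appLE {k : ℕ} (g : P ⟶ CohB1.ProjSpace k R)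
    (hg : g ≫ CohB1.ProjSpace.toSpec k R = pullback.fst _ _ ≫ CohB1.ProjSpace.toSpec n R)
    (V : (CohB1.ProjSpace k R).Opens) (O : (P).Opens) (h : O ≤ g ⁻¹ᵁ V) (r : R) :
    g.appLE V O h (const (k := R) (CohB1.ProjSpace k R) V r) = const (k := R) P O r := by
  show g.appLE V O h (Scheme.Hom.appLE _ ⊤ V _ ((Scheme.ΓSpecIso (CommRingCat.of R)).inv r)) =
    Scheme.Hom.appLE _ ⊤ O _ ((Scheme.ΓSpecIso (CommRingCat.of R)).inv r)
  rw [← CommRingCat.comp_apply, Scheme.Hom.appLE_comp_appLE]
  have e : g ≫ (CohB1.ProjSpace k R ↘ Spec (CommRingCat.of R)) = P ↘ Spec (CommRingCat.of R) := hg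
  simp only [e]

/-- The coordinates on the product of two standard opens. -/
def coord (ij kl : Fin (n + 1) × Fin (m + 1)) : Γ(P, W R n m ij) :=
  (pr₁ R n m).appLE (U R n ij.1) (W R n m ij) inf_le_left (f R n ij.1 kl.1) *
    (pr₂ R n m).appLE (U R m ij.2) (W R n m ij) inf_le_right (f R m ij.2 kl.2)

theorem idx_eq : (n + 1) * (m + 1) = n * m + n + m + 1 := by ring

/-- The indexing of the coordinates. -/
def e : Fin (n * m + n + m + 1) ≃ Fin (n + 1) × Fin (m + 1) :=
  (finCongr (idx_eq n m).symm).trans finProdFinEquiv.symm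

/-- The Segre embedding over a ring. -/
theorem exists_segre_ring :
    ∃ φ : P ⟶ CohB1.ProjSpace (n * m + n + m) R, IsImmersion φ ∧
      φ ≫ CohB1.ProjSpace.toSpec (n * m + n + m) R = pullback.fst _ _ ≫ CohB1.ProjSpace.toSpec n R := by
  let p₁ := pr₁ R n m
  let p₂ := pr₂ R n m
  refine ProjCharts.exists_immersion (k := R) (X := P) (N := n * m + n + m)
    (fun ij : ULift.{u} (Fin (n + 1) × Fin (m + 1)) => W R n m ij.down) (fun ij => isAffineOpen_W R n m ij.down)
    ?_ (fun ij t => coord R n m ij.down (e n m t)) (fun ij => (e n m).symm ij.down) ?_ ?_ ?_ ?_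
  · refine top_le_iff.1 fun x _ => ?_
    obtain ⟨i, hi⟩ := exists_mem_U R n (p₁ x)
    obtain ⟨j, hj⟩ := exists_mem_U R m (p₂ x)
    exact Opens.mem_iSup.2 ⟨⟨i, j⟩, hi, hj⟩
  · intro ij
    simp only [Equiv.apply_symm_apply, coord, f_self, map_one, mul_one]
  · intro ij x
    obtain ⟨⟨i, j⟩⟩ := ij
    let ev := MvPolynomial.eval₂Hom (const (k := R) P (W R n m (i, j)))
      (fun t => coord R n m (i, j) (e n m t))
    suffices x ∈ ev.range from this
    have H := (IsPullback.of_hasPullback (CohB1.ProjSpace.toSpec n R) (CohB1.ProjSpace.toSpec m R)).flip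
    have := isIso_pushoutSection_of_isAffineOpen H (US := ⊤) (UT := U R n i) (UX := U R m j)
      (UY := W R n m (i, j)) (by simp) (by simp) (inf_comm _ _) (isAffineOpen_top _)
      (isAffineOpen_U R n i) (isAffineOpen_U R m j)
    refine eq_top_of_isPushout ((isIso_pushoutSection_iff H (by simp) (by simp) (inf_comm _ _)).1 this) _ ?_ ?_ x
    · intro b
      obtain ⟨p, rfl⟩ := exists_eval₂_eq R m j b
      refine ⟨MvPolynomial.rename (fun l => (e n m).symm (i, l)) p, ?_⟩
      simp only [ev, MvPolynomial.coe_eval₂Hom, MvPolynomial.eval₂_rename]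
      rw [MvPolynomial.eval₂_comp_left]
      congr 1
      · exact RingHom.ext fun r => (const_appLE R n m p₂ pullback.condition.symm _ _ _ r).symm
      · funext l
        simp only [Function.comp_apply, Equiv.apply_symm_apply, coord, f_self, map_one, one_mul]
        rfl
    · intro c
      obtain ⟨p, rfl⟩ := exists_eval₂_eq R n i c
      refine ⟨MvPolynomial.rename (fun l => (e n m).symm (l, j)) p, ?_⟩
      simp only [ev, MvPolynomial.coe_eval₂Hom, MvPolynomial.eval₂_rename]
      rw [MvPolynomial.eval₂_comp_left]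
      congr 1
      · exact RingHom.ext fun r => (const_appLE R n m p₁ rfl _ _ _ r).symm
      · funext l
        simp only [Function.comp_apply, Equiv.apply_symm_apply, coord, f_self, map_one, mul_one]
        rfl
  · intro ij ij' t
    simp only [coord, Equiv.apply_symm_apply, map_mul]
    set O := W R n m ij.down ⊓ W R n m ij'.down
    have main : ∀ {k : ℕ} (g : P ⟶ CohB1.ProjSpace k R) (i i' l : Fin (k + 1))
        (h : W R n m ij.down ≤ g ⁻¹ᵁ U R k i) (h' : W R n m ij'.down ≤ g ⁻¹ᵁ U R k i'),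
        (P).presheaf.map (homOfLE (inf_le_left : O ≤ W R n m ij.down)).op (g.appLE (U R k i) _ h (f R k i l)) =
          (P).presheaf.map (homOfLE (inf_le_left : O ≤ W R n m ij.down)).op (g.appLE (U R k i) _ h (f R k i i')) *
            (P).presheaf.map (homOfLE (inf_le_right : O ≤ W R n m ij'.down)).op
              (g.appLE (U R k i') _ h' (f R k i' l)) := by
      intro k g i i' l h h'
      have hO : O ≤ g ⁻¹ᵁ (U R k i ⊓ U R k i') := fun y hy => ⟨h hy.1, h' hy.2⟩
      have h3 := congrArg (g.appLE (U R k i ⊓ U R k i') O hO)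
        (f_cocycle R k i i' l (inf_le_left : U R k i ⊓ U R k i' ≤ _) inf_le_right)
      simp only [map_mul, ← CommRingCat.comp_apply, Scheme.Hom.map_appLE] at h3
      simp only [← CommRingCat.comp_apply, Scheme.Hom.appLE_map]
      exact h3
    rw [main p₁ ij.down.1 ij'.down.1 (e n m t).1 inf_le_left inf_le_left,
      main p₂ ij.down.2 ij'.down.2 (e n m t).2 inf_le_right inf_le_right]
    ring
  · intro ij ij' x hx
    simp only [coord, Equiv.apply_symm_apply, Scheme.basicOpen_mul] at hx
    have main : ∀ {k : ℕ} (g : P ⟶ CohB1.ProjSpace k R) (i l : Fin (k + 1))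
        (h : W R n m ij'.down ≤ g ⁻¹ᵁ U R k i),
        x ∈ (P).basicOpen (g.appLE (U R k i) _ h (f R k i l)) → g x ∈ U R k l := by
      intro k g i l h hx'
      rw [Scheme.Hom.appLE, CommRingCat.comp_apply, Scheme.basicOpen_res] at hx'
      have := hx'.2
      rw [← Scheme.preimage_basicOpen] at this
      exact basicOpen_f R k i l this
    exact ⟨main p₁ _ _ inf_le_left hx.1, main p₂ _ _ inf_le_right hx.2⟩

end Groth.Agent.Approx60.Segre

namespace Groth.Agent.Approx60.Segre

theorem isProper_toSpec (R : Type u) [CommRing R] (n : ℕ) : IsProper (CohB1.ProjSpace.toSpec n R) := by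
  classical
  let 𝒜' := CohB1.polyGrading n R
  have hsurj : Function.Surjective (algebraMap R (𝒜' 0)) := fun p => by
    have h := p.2
    simp only [𝒜', CohB1.polyGrading, MvPolynomial.mem_homogeneousSubmodule] at h
    refine ⟨MvPolynomial.coeff 0 p.1, Subtype.ext ?_⟩
    rw [SetLike.GradeZero.coe_algebraMap, MvPolynomial.algebraMap_eq,
      ← MvPolynomial.homogeneousComponent_zero, MvPolynomial.homogeneousComponent_of_mem h, if_pos rfl]
  have : IsScalarTower R (𝒜' 0) (MvPolynomial (Fin (n + 1)) R) :=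
    IsScalarTower.of_algebraMap_eq (R := R) (S := 𝒜' 0) (A := MvPolynomial (Fin (n + 1)) R) fun r => rfl
  have : Algebra.FiniteType (𝒜' 0) (MvPolynomial (Fin (n + 1)) R) :=
    Algebra.FiniteType.of_restrictScalars_finiteType R (𝒜' 0) _
  have : IsClosedImmersion (Spec.map (CommRingCat.ofHom (algebraMap R (𝒜' 0)))) :=
    IsClosedImmersion.spec_of_surjective _ hsurj
  exact MorphismProperty.comp_mem _ _ _ (inferInstance : IsProper (Proj.toSpecZero 𝒜')) inferInstance

theorem isProper_toBase (n : ℕ) (S : Scheme.{u}) : IsProper (CohB1.ProjSpaceOver.toBase n S) :=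
  MorphismProperty.pullback_snd _ _ (isProper_toSpec (ULift.{u} ℤ) n)

theorem exists_segre_ring_closed (R : Type u) [CommRing R] (n m : ℕ) :
    ∃ φ : pullback (CohB1.ProjSpace.toSpec n R) (CohB1.ProjSpace.toSpec m R) ⟶
        CohB1.ProjSpace (n * m + n + m) R, IsClosedImmersion φ ∧
      φ ≫ CohB1.ProjSpace.toSpec (n * m + n + m) R = pullback.fst _ _ ≫ CohB1.ProjSpace.toSpec n R := by
  obtain ⟨φ, hφ, hw⟩ := exists_segre_ring R n m
  refine ⟨φ, ?_, hw⟩
  have := isProper_toSpec R n
  have := isProper_toSpec R m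
  have := isProper_toSpec R (n * m + n + m)
  have : IsProper (φ ≫ CohB1.ProjSpace.toSpec (n * m + n + m) R) := by rw [hw]; infer_instance
  have : UniversallyClosed φ := UniversallyClosed.of_comp_of_isSeparated φ (CohB1.ProjSpace.toSpec (n * m + n + m) R)
  exact IsClosedImmersion.of_isPreimmersion φ φ.isClosedMap.isClosed_range

/-- The Segre embedding over any base. -/
theorem exists_segre (S : Scheme.{u}) (n m : ℕ) :
    ∃ φ : pullback (CohB1.ProjSpaceOver.toBase n S) (CohB1.ProjSpaceOver.toBase m S) ⟶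
        CohB1.ProjSpaceOver (n * m + n + m) S,
      IsClosedImmersion φ ∧ φ ≫ CohB1.ProjSpaceOver.toBase (n * m + n + m) S =
        pullback.fst (CohB1.ProjSpaceOver.toBase n S) (CohB1.ProjSpaceOver.toBase m S) ≫
          CohB1.ProjSpaceOver.toBase n S := by
  let T := specULiftZIsTerminal.{u}.from S
  let a := CohB1.ProjSpace.toSpec n (ULift.{u} ℤ)
  let b := CohB1.ProjSpace.toSpec m (ULift.{u} ℤ)
  let c := CohB1.ProjSpace.toSpec (n * m + n + m) (ULift.{u} ℤ)
  obtain ⟨φ, hφ, hw⟩ := exists_segre_ring_closed (ULift.{u} ℤ) n m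
  let q : pullback (CohB1.ProjSpaceOver.toBase n S) (CohB1.ProjSpaceOver.toBase m S) ⟶ pullback a b :=
    pullback.lift (pullback.fst _ _ ≫ pullback.fst a T) (pullback.snd _ _ ≫ pullback.fst b T)
      (specULiftZIsTerminal.hom_ext _ _)
  let t := pullback.fst (CohB1.ProjSpaceOver.toBase n S) (CohB1.ProjSpaceOver.toBase m S) ≫
    CohB1.ProjSpaceOver.toBase n S
  have hq : IsPullback q t (pullback.fst a b ≫ a) T := by
    refine IsPullback.of_isLimit' ⟨specULiftZIsTerminal.hom_ext _ _⟩ (PullbackCone.IsLimit.mk _ (fun s =>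
      pullback.lift (pullback.lift (s.fst ≫ pullback.fst a b) s.snd (specULiftZIsTerminal.hom_ext _ _))
        (pullback.lift (s.fst ≫ pullback.snd a b) s.snd (specULiftZIsTerminal.hom_ext _ _))
        (by simp [CohB1.ProjSpaceOver.toBase])) (fun s => ?_) (fun s => ?_) (fun s l h1 h2 => ?_))
    · apply pullback.hom_ext <;> (simp [q]; exact pullback.lift_fst _ _ _)
    · simp [t, CohB1.ProjSpaceOver.toBase]
    · apply pullback.hom_ext <;> apply pullback.hom_ext
      · simpa [q] using congrArg (fun z => z ≫ pullback.fst a b) h1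
      · simpa [t, CohB1.ProjSpaceOver.toBase] using h2
      · simpa [q] using congrArg (fun z => z ≫ pullback.snd a b) h1
      · have := pullback.condition (f := CohB1.ProjSpaceOver.toBase n S) (g := CohB1.ProjSpaceOver.toBase m S)
        simp only [CohB1.ProjSpaceOver.toBase] at this
        simpa [t, CohB1.ProjSpaceOver.toBase, ← this] using h2
  refine ⟨pullback.lift (q ≫ φ) t (specULiftZIsTerminal.hom_ext _ _), ?_, pullback.lift_snd _ _ _⟩
  have h := IsPullback.of_right (h₁₁ := pullback.lift (q ≫ φ) t (specULiftZIsTerminal.hom_ext _ _))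
    (by rw [hw]; exact (show IsPullback q (pullback.lift (q ≫ φ) t (specULiftZIsTerminal.hom_ext _ _) ≫
      pullback.snd c T) (pullback.fst a b ≫ a) T by rw [pullback.lift_snd]; exact hq).flip)
    (pullback.lift_fst _ _ _) (IsPullback.of_hasPullback c T).flip
  exact MorphismProperty.of_isPullback h.flip hφ

end Groth.Agent.Approx60.Segre
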