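import Groth.Agent.Approx60.ProjCharts
import Mathlib.AlgebraicGeometry.Morphisms.FiniteType
import Mathlib.AlgebraicGeometry.Morphisms.Flat
import Mathlib.AlgebraicGeometry.Limits

/-! An affine piece of a scheme of finite type inside projective space, with a disjoint section. -/

set_option autoImplicit false

universe u

open CategoryTheory CategoryTheory.Limits AlgebraicGeometry Opposite TopologicalSpace

noncomputable section

set_option backward.isDefEq.respectTransparency false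
set_option backward.defeqAttrib.useBackward true

namespace Groth.Agent.Approx60.Chow

open ProjCharts

/-- The integers, in any universe. -/
abbrev Zu : Type u := ULift.{u} ℤ

/-- Every scheme lies over `Spec ℤ`. -/
abbrev overZ (X : Scheme.{u}) : X.Over (Spec (CommRingCat.of Zu.{u})) := ⟨specULiftZIsTerminal.from X⟩

theorem exists_piece {X S : Scheme.{u}} (f : X ⟶ S) [LocallyOfFiniteType f] (W : X.Opens) (hW : IsAffineOpen W)
    (V : S.Opens) (hV : IsAffineOpen V) (hWV : W ≤ f ⁻¹ᵁ V) :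
    ∃ (n : ℕ) (j : (W : Scheme.{u}) ⟶ CohB1.ProjSpaceOver n S) (O : (CohB1.ProjSpaceOver n S).Opens)
      (jO : (W : Scheme.{u}) ⟶ (O : Scheme.{u})) (σ : S ⟶ CohB1.ProjSpaceOver n S),
      IsClosedImmersion jO ∧ jO ≫ O.ι = j ∧ j ≫ CohB1.ProjSpaceOver.toBase n S = W.ι ≫ f ∧
        σ ≫ CohB1.ProjSpaceOver.toBase n S = 𝟙 S ∧ σ ⁻¹ᵁ O = ⊥ := by
  classical
  let φ := f.appLE V W hWV
  obtain ⟨k, b, hb⟩ : ∃ (k : ℕ) (b : Fin k → Γ(X, W)),
      ∀ T : Subring Γ(X, W), (∀ v, φ v ∈ T) → (∀ i, b i ∈ T) → ∀ x, x ∈ T := by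
    have h := f.finiteType_appLE hV hW hWV
    algebraize [φ.hom]
    obtain ⟨k, g, hg⟩ := Algebra.FiniteType.iff_quotient_mvPolynomial''.1
      (inferInstance : Algebra.FiniteType Γ(S, V) Γ(X, W))
    refine ⟨k, fun i => g (MvPolynomial.X i), fun T h1 h2 x => ?_⟩
    obtain ⟨p, rfl⟩ := hg x
    induction p using MvPolynomial.induction_on with
    | C r => rw [show g (MvPolynomial.C r) = φ r from g.commutes r]; exact h1 r
    | add p q hp hq => rw [map_add]; exact add_mem hp hq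
    | mul_X p i hp => rw [map_mul]; exact mul_mem hp (h2 i)
  letI := overZ X
  letI := overZ (Spec (CommRingCat.of Zu.{u}))
  let N := k + 1
  let X₀ : MvPolynomial (Fin (N + 1)) Zu.{u} := MvPolynomial.X 0
  let a : Fin (N + 1) → Γ(X, W) := Fin.cases 1 (Fin.cases 0 b)
  have hu : IsUnit (MvPolynomial.eval₂Hom (const (k := Zu.{u}) X W) a X₀) :=
    isUnit_eval_X _ _ _ (by simp [a])
  let ev := awayEval (MvPolynomial.eval₂Hom (const (k := Zu.{u}) X W) a) X₀ hu
  let m : (W : Scheme.{u}) ⟶ CohB1.ProjSpace N Zu.{u} := chart W a X₀ (X₁ Zu.{u} N 0).2 one_pos hu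
  let p₁ : CohB1.ProjSpaceOver N S ⟶ CohB1.ProjSpace N Zu.{u} := pullback.fst _ _
  let j : (W : Scheme.{u}) ⟶ CohB1.ProjSpaceOver N S :=
    pullback.lift m (W.ι ≫ f) (specULiftZIsTerminal.hom_ext _ _)
  let U₀ := U Zu.{u} N 0
  let O : (CohB1.ProjSpaceOver N S).Opens := p₁ ⁻¹ᵁ U₀ ⊓ CohB1.ProjSpaceOver.toBase N S ⁻¹ᵁ V
  have hOaff : IsAffineOpen O := by
    have H := (IsPullback.of_hasPullback (CohB1.ProjSpace.toSpec N Zu.{u}) (specULiftZIsTerminal.from S)).flip
    have h := Scheme.Hom.isPullback_resLE H (US := ⊤) (UT := U₀) (UX := V) (UY := O) (by simp) (by simp)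
      (inf_comm _ _)
    have : IsAffine _ := isAffineOpen_U Zu.{u} N 0
    have : IsAffine _ := hV
    have : IsAffine ((⊤ : (Spec (CommRingCat.of Zu.{u})).Opens) : Scheme.{u}) := isAffineOpen_top _
    exact .of_isIso h.isoPullback.hom
  have hjp : j ≫ p₁ = m := pullback.lift_fst _ _ _
  have hjt : j ≫ CohB1.ProjSpaceOver.toBase N S = W.ι ≫ f := pullback.lift_snd _ _ _
  have hjO : Set.range j ⊆ Set.range O.ι := by
    rw [Scheme.Opens.range_ι]
    rintro _ ⟨x, rfl⟩
    refine ⟨?_, ?_⟩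
    · show (j ≫ p₁) x ∈ U₀
      rw [hjp]
      exact (Proj.opensRange_awayι _ _ (X₁ Zu.{u} N 0).2 one_pos).le ⟨_, rfl⟩
    · show (j ≫ CohB1.ProjSpaceOver.toBase N S) x ∈ V
      rw [hjt]
      exact hWV x.2
  let jO : (W : Scheme.{u}) ⟶ (O : Scheme.{u}) := IsOpenImmersion.lift O.ι j hjO
  have hjO' : jO ≫ O.ι = j := IsOpenImmersion.lift_fac _ _ _
  let aι := Proj.awayι (CohB1.polyGrading N Zu.{u}) X₀ (X₁ Zu.{u} N 0).2 one_pos
  let qT : (O : Scheme.{u}) ⟶ Spec (CommRingCat.of _) := IsOpenImmersion.lift aι (O.ι ≫ p₁) (by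
    rintro _ ⟨x, rfl⟩
    exact (Proj.opensRange_awayι _ _ (X₁ Zu.{u} N 0).2 one_pos).ge x.2.1)
  have hqT : jO ≫ qT = W.toSpecΓ ≫ Spec.map (CommRingCat.ofHom ev) := by
    rw [← cancel_mono aι, Category.assoc, IsOpenImmersion.lift_fac, reassoc_of% hjO', hjp, Category.assoc]
    rfl
  have hqV : jO ≫ (CohB1.ProjSpaceOver.toBase N S).resLE V O inf_le_right = f.resLE V W hWV := by
    rw [← cancel_mono V.ι, Category.assoc, Scheme.Hom.resLE_comp_ι, Scheme.Hom.resLE_comp_ι,
      reassoc_of% hjO', hjt]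
  have hcl : IsClosedImmersion jO := by
    have : IsAffine (O : Scheme.{u}) := hOaff
    have : IsAffine (W : Scheme.{u}) := hW
    refine IsClosedImmersion.of_surjective_of_isAffine _ fun z => ?_
    suffices ∀ y, y ∈ (jO.appTop.hom.range).comap W.topIso.inv.hom by
      have h2 := this (W.topIso.hom z)
      simp only [Subring.mem_comap, RingHom.mem_range] at h2
      obtain ⟨w, hw⟩ := h2
      exact ⟨w, hw.trans (Iso.hom_inv_id_apply W.topIso z)⟩
    refine hb _ (fun v => ?_) (fun i => ?_)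
    · have h := ConcreteCategory.congr_hom (congrArg Scheme.Hom.appTop hqV) (V.topIso.inv v)
      simp only [Scheme.Hom.comp_appTop, CommRingCat.comp_apply] at h
      refine ⟨((CohB1.ProjSpaceOver.toBase N S).resLE V O inf_le_right).appTop (V.topIso.inv v), h.trans ?_⟩
      have h2 := ConcreteCategory.congr_hom (Scheme.Hom.resLE_app_top f (U := V) (V := W) (e := hWV)) (V.topIso.inv v)
      simp only [CommRingCat.comp_apply, Iso.inv_hom_id_apply] at h2
      exact h2
    · let z := frac Zu.{u} N 0 (X₁ Zu.{u} N i.succ.succ)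
      have h := ConcreteCategory.congr_hom (congrArg Scheme.Hom.appTop hqT)
        ((Scheme.ΓSpecIso (CommRingCat.of _)).inv z)
      simp only [Scheme.Hom.comp_appTop, CommRingCat.comp_apply, Scheme.Opens.toSpecΓ_appTop] at h
      refine ⟨qT.appTop ((Scheme.ΓSpecIso (CommRingCat.of _)).inv z), h.trans ?_⟩
      rw [← CommRingCat.comp_apply ((Scheme.ΓSpecIso _).inv), ← Scheme.ΓSpecIso_inv_naturality,
        CommRingCat.comp_apply, Iso.inv_hom_id_apply]
      refine congrArg W.topIso.inv ?_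
      show ev z = b i
      exact (awayEval_frac _ a 0 (by simp [a]) hu i.succ.succ).trans (by simp [a])
  -- the disjoint section
  let d : Fin (N + 1) → Γ(Spec (CommRingCat.of Zu.{u}), ⊤) := fun i => if i = 1 then 1 else 0
  have hd : IsUnit (MvPolynomial.eval₂Hom (const (k := Zu.{u}) (Spec (CommRingCat.of Zu.{u})) ⊤) d
      (MvPolynomial.X 1 : MvPolynomial (Fin (N + 1)) Zu.{u})) := isUnit_eval_X _ _ _ (by simp [d])
  let pt : ((⊤ : (Spec (CommRingCat.of Zu.{u})).Opens) : Scheme.{u}) ⟶ CohB1.ProjSpace N Zu.{u} :=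
    chart ⊤ d _ (X₁ Zu.{u} N 1).2 one_pos hd
  let σ : S ⟶ CohB1.ProjSpaceOver N S :=
    pullback.lift (specULiftZIsTerminal.from S ≫ (Spec (CommRingCat.of Zu.{u})).topIso.inv ≫ pt) (𝟙 S)
      (specULiftZIsTerminal.hom_ext _ _)
  refine ⟨N, j, O, jO, σ, hcl, hjO', hjt, pullback.lift_snd _ _ _, eq_bot_iff.2 fun s hs => ?_⟩
  have h1 : (σ ≫ p₁) s ∈ U₀ := hs.1
  rw [show σ ≫ p₁ = _ from pullback.lift_fst _ _ _] at h1
  have h2 := chart_mem (k := Zu.{u}) (⊤ : (Spec (CommRingCat.of Zu.{u})).Opens) (isAffineOpen_top _) d 1 0 (by simp [d]) hd _ h1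
  rw [show d 0 = 0 from if_neg (Fin.succ_ne_zero (0 : Fin (k + 1))).symm, Scheme.basicOpen_zero] at h2
  exact h2.elim

end Groth.Agent.Approx60.Chow
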