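import Groth.Agent.Approx60.Absolute
import Groth.Agent.Lim60.ClosedImmStage
import Groth.Agent.LimTop61.IdealGlue
import Groth.Agent.SchBasics.FPCancel

set_option autoImplicit false
set_option backward.isDefEq.respectTransparency false
set_option backward.defeqAttrib.useBackward true

/-! A scheme locally of finite type over a base sits in a scheme of finite presentation. -/

universe u

open CategoryTheory CategoryTheory.Limits AlgebraicGeometry Opposite TopologicalSpace

namespace Groth.Agent.Approx60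

/-- The product with a scheme over the integers. -/
noncomputable abbrev prodZ (X S : Scheme.{u}) : Scheme.{u} := pullback (toZ X) (toZ S)

noncomputable abbrev prodZmap {X Y S T : Scheme.{u}} (a : X ⟶ Y) (b : S ⟶ T) : prodZ X S ⟶ prodZ Y T :=
  pullback.lift (pullback.fst _ _ ≫ a) (pullback.snd _ _ ≫ b) (specULiftZIsTerminal.hom_ext _ _)

lemma isPullback_prodZmap_left {X Y : Scheme.{u}} (a : X ⟶ Y) (S : Scheme.{u}) :
    IsPullback (prodZmap a (𝟙 S)) (pullback.fst (toZ X) (toZ S)) (pullback.fst (toZ Y) (toZ S)) a := by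
  refine IsPullback.of_right (h₁₂ := pullback.snd (toZ Y) (toZ S)) (h₂₂ := toZ Y) (v₁₃ := toZ S) ?_
    (pullback.lift_fst _ _ _) (IsPullback.of_hasPullback (toZ Y) (toZ S)).flip
  rw [pullback.lift_snd, Category.comp_id, show a ≫ toZ Y = toZ X from specULiftZIsTerminal.hom_ext _ _]
  exact (IsPullback.of_hasPullback (toZ X) (toZ S)).flip

lemma isPullback_prodZmap_right (X : Scheme.{u}) {S T : Scheme.{u}} (b : S ⟶ T) :
    IsPullback (prodZmap (𝟙 X) b) (pullback.snd (toZ X) (toZ S)) (pullback.snd (toZ X) (toZ T)) b := by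
  refine IsPullback.of_right (h₁₂ := pullback.fst (toZ X) (toZ T)) (h₂₂ := toZ T) (v₁₃ := toZ X) ?_
    (pullback.lift_snd _ _ _) (IsPullback.of_hasPullback (toZ X) (toZ T))
  rw [pullback.lift_fst, Category.comp_id, show b ≫ toZ T = toZ S from specULiftZIsTerminal.hom_ext _ _]
  exact IsPullback.of_hasPullback (toZ X) (toZ S)

lemma isAffineOpen_box {X S : Scheme.{u}} {U : X.Opens} (hU : IsAffineOpen U) {W : S.Opens}
    (hW : IsAffineOpen W) :
    IsAffineOpen (pullback.fst (toZ X) (toZ S) ⁻¹ᵁ U ⊓ pullback.snd (toZ X) (toZ S) ⁻¹ᵁ W) := by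
  have : IsAffine (U : Scheme.{u}) := hU
  have : IsAffine (W : Scheme.{u}) := hW
  let m : prodZ U W ⟶ prodZ X S := pullback.map (toZ (U : Scheme.{u})) (toZ (W : Scheme.{u})) (toZ X) (toZ S) U.ι W.ι
    (𝟙 _) (specULiftZIsTerminal.hom_ext _ _) (specULiftZIsTerminal.hom_ext _ _)
  have : IsOpenImmersion m := inferInstance
  have : IsAffineHom (toZ (U : Scheme.{u})) := inferInstance
  have e : m.opensRange = pullback.fst (toZ X) (toZ S) ⁻¹ᵁ U ⊓ pullback.snd (toZ X) (toZ S) ⁻¹ᵁ W := by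
    refine SetLike.coe_injective ?_
    rw [Scheme.Hom.coe_opensRange, Scheme.Pullback.range_map, Scheme.Opens.range_ι, Scheme.Opens.range_ι]
    rfl
  exact e ▸ isAffineOpen_opensRange m

lemma preimage_box {X P Y S : Scheme.{u}} (p : X ⟶ P) (a : P ⟶ Y) (b : P ⟶ S) {a' : X ⟶ Y} {b' : X ⟶ S}
    (ha : p ≫ a = a') (hb : p ≫ b = b') (U : Y.Opens) (W : S.Opens) :
    p ⁻¹ᵁ (a ⁻¹ᵁ U ⊓ b ⁻¹ᵁ W) = a' ⁻¹ᵁ U ⊓ b' ⁻¹ᵁ W := by
  subst ha hb; rfl

theorem quasiSeparated_toZ (X : Scheme.{u}) [QuasiSeparatedSpace X] : QuasiSeparated (toZ X) :=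
  (quasiSeparated_iff_quasiSeparatedSpace (toZ X)).mpr inferInstance

variable {I : Type u} [SmallCategory I] [IsCofiltered I] (D : I ⥤ Scheme.{u}) (c : Cone D)

/-- The products of the stages with a scheme. -/
noncomputable def prodDiagram (S : Scheme.{u}) : I ⥤ Scheme.{u} where
  obj j := prodZ (D.obj j) S
  map a := prodZmap (D.map a) (𝟙 S)
  map_id j := by apply pullback.hom_ext <;> simp
  map_comp a b := by apply pullback.hom_ext <;> simp

noncomputable def prodCone (S : Scheme.{u}) : Cone (prodDiagram D S) where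
  pt := prodZ c.pt S
  π := { app := fun j => prodZmap (c.π.app j) (𝟙 S)
         naturality := fun j k a => by dsimp [prodDiagram]; apply pullback.hom_ext <;> simp }

noncomputable def isLimitProdCone (hc : IsLimit c) (S : Scheme.{u}) : IsLimit (prodCone D c S) :=
  have : IsConnected I := IsCofiltered.isConnected _
  isLimitOfIsPullbackOfIsConnected (F := prodDiagram D S) (G := D)
    { app := fun j => pullback.fst (toZ (D.obj j)) (toZ S)
      naturality := fun j k a => pullback.lift_fst _ _ _ } (prodCone D c S) c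
    { hom := pullback.fst (toZ c.pt) (toZ S), w := fun j => (pullback.lift_fst _ _ _).symm }
    (fun j => isPullback_prodZmap_left (c.π.app j) S) hc

instance isAffineHom_prodDiagram [∀ (i j : I) (a : i ⟶ j), IsAffineHom (D.map a)] (S : Scheme.{u}) {i j : I}
    (a : i ⟶ j) : IsAffineHom ((prodDiagram D S).map a) :=
  MorphismProperty.of_isPullback (isPullback_prodZmap_left (D.map a) S).flip
    (inferInstance : IsAffineHom (D.map a))

include c in
/-- A morphism locally of finite type out of a limit embeds, at a stage, as a closed subscheme of a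
quasi-compact open of the product. -/
theorem exists_closedImmersion_stage (hc : IsLimit c) (hD : Good D) {S : Scheme.{u}} (f : c.pt ⟶ S)
    [LocallyOfFiniteType f] :
    ∃ (b : I) (O : (prodZ (D.obj b) S).Opens) (_ : IsCompact (O : Set (prodZ (D.obj b) S : Scheme.{u})))
      (j : c.pt ⟶ O), IsClosedImmersion j ∧ j ≫ O.ι ≫ pullback.snd _ _ = f ∧
      j ≫ O.ι ≫ pullback.fst _ _ = c.π.app b := by
  classical
  have : ∀ (a b : I) (g : a ⟶ b), IsAffineHom (D.map g) := hD.aff
  have : ∀ a, CompactSpace (D.obj a) := hD.compact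
  have : ∀ a, QuasiSeparatedSpace (D.obj a) := fun a =>
    have := hD.lft a; quasiSeparatedSpace_of_lft_toZ (D.obj a)
  have : CompactSpace c.pt := Scheme.compactSpace_of_isLimit D c hc
  let pr : ∀ k, c.pt ⟶ D.obj k := fun k => c.π.app k
  have hpr : ∀ {k l : I} (g : k ⟶ l), pr k ≫ D.map g = pr l := fun g => c.w g
  have hloc : ∀ x : c.pt, ∃ (i : I) (V : (D.obj i).Opens) (W : S.Opens), IsAffineOpen V ∧ IsAffineOpen W ∧
      x ∈ pr i ⁻¹ᵁ V ∧ pr i ⁻¹ᵁ V ≤ f ⁻¹ᵁ W := by
    intro x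
    obtain ⟨_, ⟨W, hW, rfl⟩, hxW, -⟩ := S.isBasis_affineOpens.exists_subset_of_mem_open (Set.mem_univ (f x)) isOpen_univ
    obtain ⟨_, ⟨i, V, hV, rfl⟩, hxV, hle⟩ :=
      Opens.isBasis_iff_nbhd.mp (isBasis_preimage_isAffineOpen D c hc) (show x ∈ f ⁻¹ᵁ W from hxW)
    exact ⟨i, V, W, hV, hW, hxV, hle⟩
  choose i V W hV hW hxV hle using hloc
  obtain ⟨s, hs⟩ := CompactSpace.elim_nhds_subcover (fun x => SetLike.coe (pr (i x) ⁻¹ᵁ V x : c.pt.Opens))
    (fun x => (pr (i x) ⁻¹ᵁ V x).2.mem_nhds (hxV x))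
  obtain ⟨b, hb⟩ := IsCofiltered.inf_objs_exists (s.image i)
  let φ : ∀ x : s, b ⟶ i x.1 := fun x => (hb (Finset.mem_image_of_mem i x.2)).some
  let Vb : s → (D.obj b).Opens := fun x => D.map (φ x) ⁻¹ᵁ V x.1
  have hVb : ∀ x, IsAffineOpen (Vb x) := fun x => (hV x.1).preimage _
  let box : s → (prodZ (D.obj b) S).Opens := fun x =>
    pullback.fst (toZ (D.obj b)) (toZ S) ⁻¹ᵁ Vb x ⊓ pullback.snd (toZ (D.obj b)) (toZ S) ⁻¹ᵁ W x.1
  have hbox : ∀ x, IsAffineOpen (box x) := fun x => isAffineOpen_box (hVb x) (hW x.1)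
  let O : (prodZ (D.obj b) S).Opens := ⨆ x, box x
  have hOc : IsCompact (O : Set (prodZ (D.obj b) S : Scheme.{u})) := by
    rw [Opens.coe_iSup]; exact isCompact_iUnion fun x => (hbox x).isCompact
  have : IsAffineHom (c.π.app b) := isAffineHom_π_app D c hc b
  have haffπ : IsAffineHom ((prodCone D c S).π.app b) :=
    MorphismProperty.of_isPullback (isPullback_prodZmap_left (c.π.app b) S).flip
      (inferInstance : IsAffineHom (c.π.app b))
  let Γf : c.pt ⟶ prodZ c.pt S := pullback.lift (𝟙 _) f (specULiftZIsTerminal.hom_ext _ _)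
  let M : prodZ c.pt S ⟶ prodZ (D.obj b) S := prodZmap (pr b) (𝟙 S)
  have haffM : IsAffineHom M := haffπ
  let p : c.pt ⟶ prodZ (D.obj b) S := Γf ≫ M
  have hp1 : p ≫ pullback.fst _ _ = pr b := by simp [p, Γf, M]
  have hp2 : p ≫ pullback.snd _ _ = f := by simp [p, Γf, M]
  have hpbox : ∀ x, p ⁻¹ᵁ box x = pr b ⁻¹ᵁ Vb x := fun x => by
    have e : pr b ⁻¹ᵁ Vb x = pr (i x.1) ⁻¹ᵁ V x.1 := by
      show pr b ⁻¹ᵁ D.map (φ x) ⁻¹ᵁ V x.1 = _
      rw [← Scheme.Hom.comp_preimage, hpr]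
    exact (preimage_box p (pullback.fst (toZ (D.obj b)) (toZ S)) (pullback.snd (toZ (D.obj b)) (toZ S))
      hp1 hp2 (Vb x) (W x.1)).trans (inf_eq_left.mpr (e.le.trans (hle x.1)))
  have hcov : p ⁻¹ᵁ O = ⊤ := by
    refine top_le_iff.mp fun z _ => ?_
    obtain ⟨x, hx, hz⟩ := Set.mem_iUnion₂.mp (hs.ge (Set.mem_univ z))
    have hz' : z ∈ pr b ⁻¹ᵁ D.map (φ ⟨x, hx⟩) ⁻¹ᵁ V x := by
      rw [← Scheme.Hom.comp_preimage, hpr]; exact hz
    exact Opens.mem_iSup.mpr ⟨⟨x, hx⟩, (hpbox ⟨x, hx⟩).ge hz'⟩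
  let h : c.pt ⟶ (M ⁻¹ᵁ O : Scheme.{u}) :=
    IsOpenImmersion.lift (M ⁻¹ᵁ O).ι Γf (by
      rintro _ ⟨z, rfl⟩
      rw [Scheme.Opens.range_ι]
      exact hcov.ge (Set.mem_univ z))
  have hh : h ≫ (M ⁻¹ᵁ O).ι = Γf := IsOpenImmersion.lift_fac _ _ _
  have hcl : IsClosedImmersion h := by
    let U : s → (M ⁻¹ᵁ O : Scheme.{u}).Opens := fun x => (M ⁻¹ᵁ O).ι ⁻¹ᵁ (M ⁻¹ᵁ box x)
    refine IsZariskiLocalAtTarget.of_iSup_eq_top (P := @IsClosedImmersion) U ?_ fun x => ?_
    · simp only [U, ← Scheme.Hom.preimage_iSup]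
      exact Scheme.Opens.ι_preimage_self _
    have hUaff : IsAffineOpen (U x) := by
      refine ((hbox x).preimage M).preimage_of_isOpenImmersion _ ?_
      rw [Scheme.Opens.opensRange_ι]
      exact Scheme.Hom.preimage_mono _ (le_iSup box x)
    have : IsAffine (U x : Scheme.{u}) := hUaff
    let g : (U x : Scheme.{u}) ⟶ c.pt := (U x).ι ≫ (M ⁻¹ᵁ O).ι ≫ pullback.fst (toZ c.pt) (toZ S)
    have hg : g ≫ pr b = ((U x).ι ≫ (M ⁻¹ᵁ O).ι ≫ M) ≫ pullback.fst _ _ := by
      simp [g, M]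
    have e1 : h ⁻¹ᵁ U x = pr b ⁻¹ᵁ Vb x := by
      refine Eq.trans ?_ (hpbox x)
      show h ⁻¹ᵁ (M ⁻¹ᵁ O).ι ⁻¹ᵁ M ⁻¹ᵁ box x = (Γf ≫ M) ⁻¹ᵁ box x
      rw [← Scheme.Hom.comp_preimage, hh, ← Scheme.Hom.comp_preimage]
    have hgle : ∀ y, g y ∈ (h ⁻¹ᵁ U x : c.pt.Opens) := by
      intro y
      rw [e1]
      show pr b (g y) ∈ Vb x
      have hy : M ((M ⁻¹ᵁ O).ι ((U x).ι y)) ∈ box x := y.2
      rw [← Scheme.Hom.comp_apply, hg]
      exact hy.1
    let g' : (U x : Scheme.{u}) ⟶ (h ⁻¹ᵁ U x : Scheme.{u}) := IsOpenImmersion.lift (h ⁻¹ᵁ U x).ι g (by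
      rintro _ ⟨y, rfl⟩
      rw [Scheme.Opens.range_ι]
      exact hgle y)
    have e : (h ∣_ U x) ≫ g' = 𝟙 _ := by
      rw [← cancel_mono (h ⁻¹ᵁ U x).ι, Category.assoc, IsOpenImmersion.lift_fac, Category.id_comp]
      simp [g, reassoc_of% hh, Γf]
    have : IsClosedImmersion ((h ∣_ U x) ≫ g') := by rw [e]; infer_instance
    have : IsSeparated g' := by
      have : IsSeparated (g' ≫ toZ _) :=
        (specULiftZIsTerminal.hom_ext (g' ≫ toZ _) (toZ (U x : Scheme.{u}))) ▸ inferInstance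
      exact IsSeparated.of_comp g' (toZ _)
    exact IsClosedImmersion.of_comp (h ∣_ U x) g'
  let h : c.pt ⟶ (opensCone (prodDiagram D S) (prodCone D c S) b O).pt := h
  have : IsClosedImmersion h := hcl
  have hh : h ≫ ((prodCone D c S).π.app b ⁻¹ᵁ O).ι = Γf := hh
  have : CompactSpace ((opensDiagram (prodDiagram D S) b O).obj (Over.mk (𝟙 b))) :=
    isCompact_iff_compactSpace.mp (QuasiCompact.isCompact_preimage (f := (prodDiagram D S).map (𝟙 b)) _ O.2 hOc)
  have : LocallyOfFiniteType (h ≫ (opensCone (prodDiagram D S) (prodCone D c S) b O).π.app (Over.mk (𝟙 b))) := by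
    have : LocallyOfFiniteType ((h ≫ (opensCone (prodDiagram D S) (prodCone D c S) b O).π.app (Over.mk (𝟙 b))) ≫
        ((prodDiagram D S).map (𝟙 b) ⁻¹ᵁ O).ι ≫ pullback.snd _ _) := by
      have e : (h ≫ (opensCone (prodDiagram D S) (prodCone D c S) b O).π.app (Over.mk (𝟙 b))) ≫
          ((prodDiagram D S).map (𝟙 b) ⁻¹ᵁ O).ι ≫ pullback.snd _ _ = f := by
        refine Eq.trans ?_ hp2
        simp [p, reassoc_of% hh]
        rfl
      rw [e]; infer_instance
    exact locallyOfFiniteType_of_comp _ (((prodDiagram D S).map (𝟙 b) ⁻¹ᵁ O).ι ≫ pullback.snd _ _)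
  obtain ⟨k, -, hk⟩ := Groth.Agent.Lim60.exists_isClosedImmersion_stage (opensDiagram (prodDiagram D S) b O)
    (opensCone (prodDiagram D S) (prodCone D c S) b O) (isLimitOpensCone _ _ (isLimitProdCone D c hc S) b O)
    (Over.mk (𝟙 b)) h
  refine ⟨k.left, (prodDiagram D S).map k.hom ⁻¹ᵁ O,
    QuasiCompact.isCompact_preimage (f := (prodDiagram D S).map k.hom) _ O.2 hOc,
    h ≫ (opensCone (prodDiagram D S) (prodCone D c S) b O).π.app k, hk, ?_, ?_⟩
  · have hh' : h ≫ (prodZmap (c.π.app b) (𝟙 S) ⁻¹ᵁ O).ι = Γf := hh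
    simp [prodCone]
    exact ((reassoc_of% hh') _).trans (by simp [Γf])
  · have hh' : h ≫ (prodZmap (c.π.app b) (𝟙 S) ⁻¹ᵁ O).ι = Γf := hh
    simp [prodCone]
    exact ((reassoc_of% hh') _).trans (by simp [Γf])

/-- The structure map of the product is of finite presentation. -/
theorem lfp_snd_prodZ (X S : Scheme.{u}) [LocallyOfFiniteType (toZ X)] :
    LocallyOfFinitePresentation (pullback.snd (toZ X) (toZ S)) := by
  have : IsNoetherianRing (ULift.{u} ℤ) := isNoetherianRing_of_ringEquiv ℤ ULift.ringEquiv.symm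
  have : LocallyOfFinitePresentation (toZ X) :=
    LocallyOfFinitePresentation.iff_locallyOfFiniteType.mpr inferInstance
  exact MorphismProperty.pullback_snd (P := @LocallyOfFinitePresentation) _ _ this

theorem S2077 {X S : Scheme.{u}} (f : X ⟶ S) [LocallyOfFiniteType f]
    [CompactSpace X] [QuasiSeparatedSpace X] :
    ∃ (X' : Scheme.{u}) (f' : X' ⟶ S) (j : X ⟶ X'), LocallyOfFinitePresentation f' ∧ QuasiCompact f' ∧
      QuasiSeparated f' ∧ IsImmersion j ∧ j ≫ f' = f := by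
  obtain ⟨J, _, _, D, π, hD, ⟨hl⟩⟩ := exists_approximation X
  obtain ⟨b, O, -, j, hj, hj2, -⟩ := exists_closedImmersion_stage D (Cone.mk X π) hl hD f
  have := hD.lft b
  have := hD.compact b
  have := quasiSeparatedSpace_of_lft_toZ (D.obj b)
  have : QuasiCompact (toZ (D.obj b)) := inferInstance
  have := quasiSeparated_toZ (D.obj b)
  exact ⟨prodZ (D.obj b) S, pullback.snd _ _, j ≫ O.ι, lfp_snd_prodZ _ _, inferInstance, inferInstance,
    inferInstance, by rw [Category.assoc]; exact hj2⟩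

theorem exists_closedImmersion_fp {X S : Scheme.{u}} (f : X ⟶ S) [LocallyOfFiniteType f]
    [CompactSpace X] [QuasiSeparatedSpace X] [QuasiSeparatedSpace S] :
    ∃ (X' : Scheme.{u}) (f' : X' ⟶ S) (j : X ⟶ X'), LocallyOfFinitePresentation f' ∧ QuasiCompact f' ∧
      QuasiSeparated f' ∧ CompactSpace X' ∧ QuasiSeparatedSpace X' ∧ IsClosedImmersion j ∧ j ≫ f' = f := by
  obtain ⟨J, _, _, D, π, hD, ⟨hl⟩⟩ := exists_approximation X
  obtain ⟨b, O, hO, j, hj, hj2, -⟩ := exists_closedImmersion_stage D (Cone.mk X π) hl hD f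
  have := hD.lft b
  have := hD.compact b
  have := quasiSeparatedSpace_of_lft_toZ (D.obj b)
  have := quasiSeparated_toZ (D.obj b)
  have := lfp_snd_prodZ (D.obj b) S
  have : CompactSpace (O : Scheme.{u}) := isCompact_iff_compactSpace.mp hO
  have hqs : QuasiSeparated (O.ι ≫ pullback.snd (toZ (D.obj b)) (toZ S)) := inferInstance
  have : QuasiSeparatedSpace (O : Scheme.{u}) :=
    quasiSeparatedSpace_of_quasiSeparated (O.ι ≫ pullback.snd (toZ (D.obj b)) (toZ S))
  exact ⟨O, O.ι ≫ pullback.snd _ _, j, inferInstance, inferInstance, hqs, inferInstance, inferInstance, hj, hj2⟩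

theorem S2078 {X S : Scheme.{u}} (f : X ⟶ S) [LocallyOfFiniteType f]
    [CompactSpace X] [QuasiSeparatedSpace X] [QuasiSeparatedSpace S] :
    ∃ (X' : Scheme.{u}) (f' : X' ⟶ S) (j : X ⟶ X'), LocallyOfFinitePresentation f' ∧ QuasiCompact f' ∧
      QuasiSeparated f' ∧ IsClosedImmersion j ∧ j ≫ f' = f := by
  obtain ⟨X', f', j, h1, h2, h3, -, -, h4, h5⟩ := exists_closedImmersion_fp f
  exact ⟨X', f', j, h1, h2, h3, h4, h5⟩

theorem S0591 {I : Type u} [SmallCategory I] [IsCofiltered I]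
    (D : I ⥤ Scheme.{u}) (c : Limits.Cone D) (hc : Limits.IsLimit c)
    [∀ (i j : I) (f : i ⟶ j), IsAffineHom (D.map f)] [∀ i, CompactSpace (D.obj i)]
    [∀ i, QuasiSeparatedSpace (D.obj i)] (X : Scheme.{u}) (f : X ⟶ c.pt)
    [LocallyOfFinitePresentation f] [QuasiCompact f] [QuasiSeparated f] :
    ∃ (i : I) (Xi : Scheme.{u}) (fi : Xi ⟶ D.obj i) (g : X ⟶ Xi),
      LocallyOfFinitePresentation fi ∧ QuasiCompact fi ∧ QuasiSeparated fi ∧
      IsPullback g f fi (c.π.app i) := by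
  obtain ⟨i₀⟩ := IsCofiltered.nonempty (C := I)
  have : IsAffineHom (c.π.app i₀) := isAffineHom_π_app D c hc i₀
  have : QuasiCompact (c.π.app i₀) := inferInstance
  have : QuasiSeparated (c.π.app i₀) := inferInstance
  have : CompactSpace c.pt := QuasiCompact.compactSpace_of_compactSpace (c.π.app i₀)
  have : QuasiSeparatedSpace c.pt := quasiSeparatedSpace_of_quasiSeparated (c.π.app i₀)
  have : CompactSpace X := QuasiCompact.compactSpace_of_compactSpace f
  have : QuasiSeparatedSpace X := quasiSeparatedSpace_of_quasiSeparated f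
  obtain ⟨J, _, _, DX, π, hDX, ⟨hl⟩⟩ := exists_approximation X
  obtain ⟨b, O, hO, j, hj, hj2, -⟩ := exists_closedImmersion_stage DX (Cone.mk X π) hl hDX f
  have := hDX.lft b
  have := hDX.compact b
  have := quasiSeparatedSpace_of_lft_toZ (DX.obj b)
  have := quasiSeparated_toZ (DX.obj b)
  have : QuasiCompact (toZ (DX.obj b)) := inferInstance
  let T := DX.obj b
  let P : I ⥤ Scheme.{u} :=
    { obj := fun i => prodZ T (D.obj i)
      map := fun a => prodZmap (𝟙 T) (D.map a)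
      map_id := fun i => by apply pullback.hom_ext <;> simp
      map_comp := fun a a' => by apply pullback.hom_ext <;> simp }
  let cP : Cone P :=
    { pt := prodZ T c.pt
      π := { app := fun i => prodZmap (𝟙 T) (c.π.app i)
             naturality := fun i k a => by dsimp [P]; apply pullback.hom_ext <;> simp } }
  have : IsConnected I := IsCofiltered.isConnected _
  have hP : IsLimit cP := isLimitOfIsPullbackOfIsConnected (F := P) (G := D)
    { app := fun i => pullback.snd (toZ T) (toZ (D.obj i))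
      naturality := fun i k a => pullback.lift_snd _ _ _ } cP c
    { hom := pullback.snd (toZ T) (toZ c.pt), w := fun i => (pullback.lift_snd _ _ _).symm }
    (fun i => isPullback_prodZmap_right T (c.π.app i)) hc
  have hPaff : ∀ (i k : I) (a : i ⟶ k), IsAffineHom (P.map a) := fun i k a =>
    MorphismProperty.of_isPullback (isPullback_prodZmap_right T (D.map a)).flip
      (inferInstance : IsAffineHom (D.map a))
  have hPc : ∀ i, CompactSpace (P.obj i) := fun i =>
    QuasiCompact.compactSpace_of_compactSpace (pullback.snd (toZ T) (toZ (D.obj i)))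
  have hPq : ∀ i, QuasiSeparatedSpace (P.obj i) := fun i =>
    quasiSeparatedSpace_of_quasiSeparated (pullback.snd (toZ T) (toZ (D.obj i)))
  obtain ⟨i, Oi, hOi, rfl⟩ := exists_preimage_eq P cP hP O hO
  have hObjC : ∀ k : Over i, CompactSpace ((opensDiagram P i Oi).obj k) := fun k =>
    isCompact_iff_compactSpace.mp (QuasiCompact.isCompact_preimage (f := P.map k.hom) _ Oi.2 hOi)
  have hObjQ : ∀ k : Over i, QuasiSeparatedSpace ((opensDiagram P i Oi).obj k) := fun k =>
    (isQuasiSeparated_iff_quasiSeparatedSpace _ (P.map _ ⁻¹ᵁ _).2).mp (.of_quasiSeparatedSpace _)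
  let j' : X ⟶ (opensCone P cP i Oi).pt := j
  have hj' : IsClosedImmersion j' := hj
  have := lfp_snd_prodZ T c.pt
  have : LocallyOfFinitePresentation j' := by
    have : LocallyOfFinitePresentation (j' ≫ (cP.π.app i ⁻¹ᵁ Oi).ι ≫ pullback.snd (toZ T) (toZ c.pt)) := by
      rw [show j' ≫ (cP.π.app i ⁻¹ᵁ Oi).ι ≫ pullback.snd (toZ T) (toZ c.pt) = f from hj2]; infer_instance
    exact Groth.Agent.SchBasics.locallyOfFinitePresentation_of_comp j'
      ((cP.π.app i ⁻¹ᵁ Oi).ι ≫ pullback.snd (toZ T) (toZ c.pt))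
  let e : X ≅ j'.ker.subscheme := asIso (j'.toImage)
  have : LocallyOfFinitePresentation j'.ker.subschemeι := by
    have : LocallyOfFinitePresentation (e.hom ≫ j'.ker.subschemeι) := by
      simp only [e, asIso_hom, Scheme.Hom.toImage_imageι]; infer_instance
    exact (MorphismProperty.cancel_left_of_respectsIso @LocallyOfFinitePresentation e.hom _).mp this
  obtain ⟨n, Jn, hJn, hJ⟩ := LimTop61.exists_idealSheaf_descend (opensDiagram P i Oi) (opensCone P cP i Oi)
    (isLimitOpensCone P cP hP i Oi) j'.ker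
  let fi : Jn.subscheme ⟶ D.obj n.left :=
    Jn.subschemeι ≫ (P.map n.hom ⁻¹ᵁ Oi).ι ≫ pullback.snd (toZ T) (toZ (D.obj n.left))
  have hsnd := lfp_snd_prodZ T (D.obj n.left)
  have : CompactSpace ((P.map n.hom ⁻¹ᵁ Oi : (P.obj n.left).Opens) : Scheme.{u}) := hObjC n
  have : CompactSpace Jn.subscheme := QuasiCompact.compactSpace_of_compactSpace Jn.subschemeι
  have hlfp : LocallyOfFinitePresentation fi := by
    have h1 : LocallyOfFinitePresentation ((P.map n.hom ⁻¹ᵁ Oi).ι ≫ pullback.snd (toZ T) (toZ (D.obj n.left))) :=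
      inferInstance
    exact MorphismProperty.comp_mem @LocallyOfFinitePresentation _ _ hJn h1
  have hqs : QuasiSeparated fi := by
    have : QuasiSeparated ((P.map n.hom ⁻¹ᵁ Oi).ι ≫ pullback.snd (toZ T) (toZ (D.obj n.left))) := inferInstance
    exact inferInstanceAs (QuasiSeparated (Jn.subschemeι ≫ _))
  have sq1 : IsPullback ((cP.π.app n.left).resLE (P.map n.hom ⁻¹ᵁ Oi) (cP.π.app i ⁻¹ᵁ Oi)
      (by rw [← Scheme.Hom.comp_preimage, cP.w])) (cP.π.app i ⁻¹ᵁ Oi).ι (P.map n.hom ⁻¹ᵁ Oi).ι (cP.π.app n.left) :=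
    IsOpenImmersion.isPullback _ _ _ _ (by simp)
      (by simp only [Scheme.Opens.opensRange_ι, ← Scheme.Hom.comp_preimage, cP.w])
  let π' : (opensCone P cP i Oi).pt ⟶ (opensDiagram P i Oi).obj n := (opensCone P cP i Oi).π.app n
  let q : (Jn.comap π').subscheme ⟶ Jn.subscheme := (Jn.comapIso π').hom ≫ pullback.snd π' Jn.subschemeι
  have sq0 : IsPullback q (Jn.comap π').subschemeι Jn.subschemeι π' :=
    (IsPullback.of_hasPullback π' Jn.subschemeι).flip.of_iso (Jn.comapIso π').symm (Iso.refl _) (Iso.refl _)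
      (Iso.refl _) (by simp only [q, Iso.symm_hom, Iso.inv_hom_id_assoc, Iso.refl_hom, Category.comp_id])
      (by simp only [Iso.symm_hom, Scheme.IdealSheafData.comapIso_inv_subschemeι, Iso.refl_hom, Category.comp_id])
      (by simp) (by simp)
  have sq := sq0.paste_vert (sq1.paste_vert (isPullback_prodZmap_right T (c.π.app n.left)))
  refine ⟨n.left, Jn.subscheme, fi, ?_, hlfp, inferInstance, hqs, ?_⟩
  · exact e.hom ≫ eqToHom (congrArg Scheme.IdealSheafData.subscheme hJ.symm) ≫ q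
  · let E : X ≅ (Jn.comap π').subscheme := e ≪≫ eqToIso (congrArg Scheme.IdealSheafData.subscheme hJ.symm)
    refine sq.of_iso E.symm (Iso.refl _) (Iso.refl _) (Iso.refl _) ?_ ?_ (by simp [fi]) (by simp)
    · rw [← Iso.cancel_iso_hom_left E]; simp [E]
    · rw [← Iso.cancel_iso_hom_left E]
      simp only [Iso.symm_hom, Iso.hom_inv_id_assoc, Iso.refl_hom, Category.comp_id]
      refine Eq.trans ?_ hj2
      have key : ∀ (K L : (opensCone P cP i Oi).pt.IdealSheafData) (h : K = L),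
          eqToHom (congrArg Scheme.IdealSheafData.subscheme h) ≫ L.subschemeι = K.subschemeι := by
        rintro K L rfl; simp
      show (e.hom ≫ eqToHom (congrArg Scheme.IdealSheafData.subscheme hJ.symm)) ≫ (Jn.comap π').subschemeι ≫ _ ≫ _ = j' ≫ _ ≫ _
      rw [Category.assoc, ← Category.assoc (eqToHom (congrArg Scheme.IdealSheafData.subscheme hJ.symm)), key _ _ hJ.symm, ← Category.assoc e.hom]
      simp [e]
      rfl

end Groth.Agent.Approx60
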