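import Groth.Agent.Approx60.Directed
import Groth.Agent.Approx60.ImmStage
import Groth.Agent.Lim60.EvSep
import Mathlib.CategoryTheory.Limits.Constructions.Over.Connected

set_option autoImplicit false
set_option backward.isDefEq.respectTransparency false
set_option backward.defeqAttrib.useBackward true

/-! Closed subschemes as limits of closed subschemes of finite presentation. -/

universe u

open CategoryTheory CategoryTheory.Limits AlgebraicGeometry Opposite TopologicalSpace

namespace Groth.Agent.Approx60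

/-- Sections over the preimage of an affine open come from a stage. -/
theorem exists_appLE_π_eq {I : Type u} [SmallCategory I] [IsCofiltered I] (D : I ⥤ Scheme.{u}) (c : Cone D)
    (hc : IsLimit c) [∀ (i j : I) (a : i ⟶ j), IsAffineHom (D.map a)] {k : I} {V : (D.obj k).Opens}
    (hV : IsAffineOpen V) (s : Γ(c.pt, c.π.app k ⁻¹ᵁ V)) :
    ∃ (j : I) (φ : j ⟶ k) (s' : Γ(D.obj j, D.map φ ⁻¹ᵁ V)),
      (c.π.app j).appLE (D.map φ ⁻¹ᵁ V) (c.π.app k ⁻¹ᵁ V)
        (by rw [← Scheme.Hom.comp_preimage, c.w]) s' = s := by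
  have : ∀ j : Over k, IsAffine ((opensDiagram D k V).obj j) := fun j => hV.preimage (D.map j.hom)
  obtain ⟨j, t, ht⟩ := exists_appTop_π_eq_of_isAffine_of_isLimit _ _ (isLimitOpensCone D c hc k V)
    ((c.π.app k ⁻¹ᵁ V).topIso.inv s)
  refine ⟨j.left, j.hom, (D.map j.hom ⁻¹ᵁ V).topIso.hom t, ?_⟩
  have e : (opensCone D c k V).π.app j = (c.π.app j.left).resLE (D.map j.hom ⁻¹ᵁ V) (c.π.app k ⁻¹ᵁ V)
      (by rw [← Scheme.Hom.comp_preimage, c.w]) := rfl
  rw [e, Scheme.Hom.appTop, Scheme.Hom.resLE_app_top] at ht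
  simp only [CommRingCat.comp_apply] at ht
  exact (ConcreteCategory.bijective_of_isIso (c.π.app k ⁻¹ᵁ V).topIso.inv).1 ht

lemma appLE_mem_ideal_iff {Y Z : Scheme.{u}} (L : Y.IdealSheafData) (p : Y ⟶ Z) {W : Z.Opens} {U : Y.Opens}
    (h : p ⁻¹ᵁ W = U) (hU : IsAffineOpen U) (hpW : IsAffineOpen (p ⁻¹ᵁ W)) (e : U ≤ p ⁻¹ᵁ W) (x : Γ(Z, W)) :
    p.appLE W U e x ∈ L.ideal ⟨U, hU⟩ ↔ p.app W x ∈ L.ideal ⟨_, hpW⟩ := by
  subst h
  rw [Scheme.Hom.appLE_eq_app]

section

variable {I : Type u} [SmallCategory I] [IsCofiltered I] {D : I ⥤ Scheme.{u}} {Y : Scheme.{u}}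
  (π : (Functor.const I).obj Y ⟶ D)

/-- The ideal generated by the stage `i` part of an ideal sheaf. -/
noncomputable def stageIdeal (K : Y.IdealSheafData) (i : I) : Y.IdealSheafData :=
  (K.map (π.app i : Y ⟶ D.obj i)).comap (π.app i)

lemma stageIdeal_le (K : Y.IdealSheafData) (i : I) : stageIdeal π K i ≤ K :=
  Scheme.IdealSheafData.le_map_iff_comap_le.mp le_rfl

omit [IsCofiltered I] in
lemma stageIdeal_mono (K : Y.IdealSheafData) {i j : I} (a : i ⟶ j) : stageIdeal π K j ≤ stageIdeal π K i := by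
  have e : (π.app i : Y ⟶ D.obj i) ≫ D.map a = π.app j := by simpa using (π.naturality a).symm
  unfold stageIdeal
  rw [← e, Scheme.IdealSheafData.map_comp, Scheme.IdealSheafData.comap_comp]
  exact Scheme.IdealSheafData.comap_mono _ (Scheme.IdealSheafData.le_map_iff_comap_le.mp le_rfl)

theorem le_iSup_stageIdeal (hl : IsLimit (Cone.mk Y π)) [∀ (i j : I) (a : i ⟶ j), IsAffineHom (D.map a)]
    [∀ i, QuasiSeparatedSpace (D.obj i)] (K : Y.IdealSheafData) : K ≤ ⨆ i, stageIdeal π K i := by
  intro U s hs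
  obtain ⟨U, hU⟩ := U
  obtain ⟨k, V, hV, rfl⟩ := exists_isAffineOpen_preimage_eq D (Cone.mk Y π) hl U hU
  obtain ⟨j, φ, s', rfl⟩ := exists_appLE_π_eq D (Cone.mk Y π) hl hV s
  let p : Y ⟶ D.obj j := π.app j
  have : IsAffineHom p := isAffineHom_π_app D (Cone.mk Y π) hl j
  let W : (D.obj j).affineOpens := ⟨D.map φ ⁻¹ᵁ V, hV.preimage _⟩
  have hpW : p ⁻¹ᵁ W.1 = (π.app k : Y ⟶ D.obj k) ⁻¹ᵁ V := by
    show p ⁻¹ᵁ D.map φ ⁻¹ᵁ V = _
    rw [← Scheme.Hom.comp_preimage, show p ≫ D.map φ = π.app k by simpa using (π.naturality φ).symm]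
  have hK : s' ∈ (K.map p).ideal W := by
    rw [Scheme.IdealSheafData.ideal_map_of_isAffineHom, Ideal.mem_comap]
    exact (appLE_mem_ideal_iff K p hpW hU (W.2.preimage p) hpW.ge s').mp hs
  have h1 : s' ∈ ((stageIdeal π K j).map p).ideal W :=
    Scheme.IdealSheafData.le_map_iff_comap_le.mpr le_rfl W hK
  rw [Scheme.IdealSheafData.ideal_map_of_isAffineHom, Ideal.mem_comap] at h1
  exact (appLE_mem_ideal_iff (⨆ i, stageIdeal π K i) p hpW hU (W.2.preimage p) hpW.ge s').mpr
    (le_iSup (stageIdeal π K) j _ h1)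

end

/-- A closed subscheme of a qcqs scheme is a limit of closed subschemes of finite presentation. -/
theorem exists_closed_limit {X Y : Scheme.{u}} (ι : X ⟶ Y) [IsClosedImmersion ι] [CompactSpace Y]
    [QuasiSeparatedSpace Y] :
    ∃ (α : Type u) (_ : Preorder α) (_ : IsDirected α (fun a b => a ≤ b)) (_ : Nonempty α)
      (D : αᵒᵖ ⥤ Over Y) (π : (Functor.const αᵒᵖ).obj (Over.mk ι) ⟶ D),
      Nonempty (IsLimit (Cone.mk (Over.mk ι) π)) ∧
      (∀ i, IsClosedImmersion (D.obj i).hom ∧ LocallyOfFinitePresentation (D.obj i).hom) ∧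
      (∀ (i j : αᵒᵖ) (a : i ⟶ j), IsClosedImmersion (D.map a).left) ∧
      (∀ i, IsClosedImmersion (π.app i).left) := by
  obtain ⟨J, _, _, E, τ, hE, ⟨hl⟩⟩ := exists_approximation Y
  obtain ⟨α, _, _, _, G, _⟩ := exists_directed_initial J
  let F := G ⋙ E
  let p : (Functor.const αᵒᵖ).obj Y ⟶ F := ((Cone.mk Y τ).whisker G).π
  have hp : IsLimit (Cone.mk Y p) := (Functor.Initial.isLimitWhiskerEquiv G _).symm hl
  have : ∀ (i j : αᵒᵖ) (a : i ⟶ j), IsAffineHom (F.map a) := fun i j a => hE.aff _ _ _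
  have : ∀ i, QuasiSeparatedSpace (F.obj i) := fun i =>
    have := hE.lft (G.obj i); quasiSeparatedSpace_of_lft_toZ (E.obj (G.obj i))
  let K := ι.ker
  let J' := stageIdeal p K
  let D : αᵒᵖ ⥤ Over Y :=
    { obj := fun i => Over.mk (J' i).subschemeι
      map := fun a => Over.homMk (Scheme.IdealSheafData.inclusion (stageIdeal_mono p K a))
        (Scheme.IdealSheafData.inclusion_subschemeι _)
      map_id := fun i => by
        apply Over.OverMorphism.ext
        simp [← cancel_mono (J' i).subschemeι, J']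
      map_comp := fun {i j k} a b => by
        apply Over.OverMorphism.ext
        simp [← cancel_mono (J' k).subschemeι, J'] }
  let lf : ∀ i, X ⟶ (J' i).subscheme := fun i => IsClosedImmersion.lift (J' i).subschemeι ι
    (by rw [Scheme.IdealSheafData.ker_subschemeι]; exact stageIdeal_le p K i)
  have hlf : ∀ i, lf i ≫ (J' i).subschemeι = ι := fun i => IsClosedImmersion.lift_fac _ _ _
  let π : (Functor.const αᵒᵖ).obj (Over.mk ι) ⟶ D :=
    { app := fun i => Over.homMk (lf i) (hlf i)
      naturality := fun i j a => by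
        apply Over.OverMorphism.ext
        rw [← cancel_mono (J' j).subschemeι]
        simp [D, hlf] }
  have hle : ∀ s : Cone D, ι.ker ≤ s.pt.hom.ker := fun s => by
    refine (le_iSup_stageIdeal p hp K).trans (iSup_le fun i => ?_)
    let q : s.pt.left ⟶ (J' i).subscheme := (s.π.app i).left
    have e : q ≫ (J' i).subschemeι = s.pt.hom := Over.w (s.π.app i)
    rw [← e]
    exact (Scheme.IdealSheafData.ker_subschemeι (J' i)).ge.trans (Scheme.Hom.le_ker_comp _ _)
  have hlim : IsLimit (Cone.mk (Over.mk ι) π) :=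
    { lift := fun s => Over.homMk (IsClosedImmersion.lift ι s.pt.hom (hle s)) (IsClosedImmersion.lift_fac _ _ _)
      fac := fun s i => by
        apply Over.OverMorphism.ext
        rw [← cancel_mono (J' i).subschemeι]
        simp only [Over.comp_left, Category.assoc, π, Over.homMk_left, hlf, IsClosedImmersion.lift_fac]
        exact (Over.w (s.π.app i)).symm
      uniq := fun s m _ => by
        apply Over.OverMorphism.ext
        rw [← cancel_mono ι]
        simp only [Over.homMk_left, IsClosedImmersion.lift_fac]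
        exact Over.w m }
  refine ⟨α, inferInstance, inferInstance, inferInstance, D, π, ⟨hlim⟩, fun i => ⟨inferInstanceAs (IsClosedImmersion (J' i).subschemeι), ?_⟩,
    fun i j a => ?_, fun i => ?_⟩
  · let q : Y ⟶ F.obj i := p.app i
    let L := K.map q
    have := hE.lft (G.obj i)
    have : IsLocallyNoetherian (F.obj i) := isLocallyNoetherian_of_lft_toZ (E.obj (G.obj i))
    have : LocallyOfFinitePresentation L.subschemeι :=
      LocallyOfFinitePresentation.iff_locallyOfFiniteType.mpr inferInstance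
    have : LocallyOfFinitePresentation (pullback.fst q L.subschemeι) :=
      MorphismProperty.pullback_fst (P := @LocallyOfFinitePresentation) _ _ this
    show LocallyOfFinitePresentation (L.comap q).subschemeι
    rw [← Scheme.IdealSheafData.comapIso_hom_fst]
    infer_instance
  · have h : IsClosedImmersion ((D.map a).left ≫ (J' j).subschemeι) := by
      rw [show (D.map a).left ≫ (J' j).subschemeι = (J' i).subschemeι from Over.w (D.map a)]; infer_instance
    exact IsClosedImmersion.of_comp (D.map a).left (J' j).subschemeι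
  · have h : IsClosedImmersion ((π.app i).left ≫ (J' i).subschemeι) := by
      rw [show (π.app i).left ≫ (J' i).subschemeι = ι from hlf i]; infer_instance
    exact IsClosedImmersion.of_comp (π.app i).left (J' i).subschemeι

theorem S7379 {X Y : Scheme.{u}} (ι : X ⟶ Y)
    [IsClosedImmersion ι] [CompactSpace Y] [QuasiSeparatedSpace Y] :
    ∃ (I : Type u) (_ : Preorder I) (_ : IsDirected I (fun a b => a ≤ b)) (_ : Nonempty I)
      (D : Iᵒᵖ ⥤ Over Y) (c : Limits.Cone D) (_ : Limits.IsLimit c),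
      (∀ i, IsClosedImmersion (D.obj i).hom ∧ LocallyOfFinitePresentation (D.obj i).hom) ∧
      Nonempty (c.pt ≅ Over.mk ι) := by
  obtain ⟨α, _, _, _, D, π, ⟨hl⟩, h, -, -⟩ := exists_closed_limit ι
  exact ⟨α, inferInstance, inferInstance, inferInstance, D, Cone.mk _ π, hl, h, ⟨Iso.refl _⟩⟩

/-- A scheme of finite type over a base is a limit of schemes of finite presentation along closed
immersions. -/
theorem exists_fp_closed_limit {X S : Scheme.{u}} (f : X ⟶ S) [LocallyOfFiniteType f] [CompactSpace X]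
    [QuasiSeparatedSpace X] [QuasiSeparatedSpace S] :
    ∃ (α : Type u) (_ : Preorder α) (_ : IsDirected α (fun a b => a ≤ b)) (_ : Nonempty α)
      (D : αᵒᵖ ⥤ Over S) (π : (Functor.const αᵒᵖ).obj (Over.mk f) ⟶ D),
      Nonempty (IsLimit (Cone.mk (Over.mk f) π)) ∧
      (∀ i, LocallyOfFinitePresentation (D.obj i).hom ∧ QuasiCompact (D.obj i).hom ∧
        QuasiSeparated (D.obj i).hom ∧ CompactSpace (D.obj i).left ∧ QuasiSeparatedSpace (D.obj i).left) ∧
      (∀ (i j : αᵒᵖ) (a : i ⟶ j), IsClosedImmersion (D.map a).left) ∧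
      (∀ i, IsClosedImmersion (π.app i).left) := by
  obtain ⟨X', f', j, h1, h2, h3, h4, h5, h6, rfl⟩ := exists_closedImmersion_fp f
  obtain ⟨α, _, _, _, D, π, ⟨hl⟩, hobj, hmap, hπ⟩ := exists_closed_limit j
  have : IsConnected αᵒᵖ := IsCofiltered.isConnected _
  let π' : (Functor.const αᵒᵖ).obj (Over.mk (j ≫ f')) ⟶ D ⋙ Over.map f' :=
    { app := fun i => Over.homMk (π.app i).left (by
        show (π.app i).left ≫ (D.obj i).hom ≫ f' = j ≫ f'
        rw [← Category.assoc, Over.w (π.app i)]; rfl)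
      naturality := fun a b m => by
        apply Over.OverMorphism.ext
        simpa using congrArg (fun h => h.left) (π.naturality m) }
  have hl' : IsLimit ((Over.forget X').mapCone (Cone.mk (Over.mk j) π)) := isLimitOfPreserves _ hl
  have hl'' : IsLimit ((Over.forget S).mapCone (Cone.mk (Over.mk (j ≫ f')) π')) := hl'
  refine ⟨α, inferInstance, inferInstance, inferInstance, D ⋙ Over.map f', π',
    ⟨isLimitOfReflects (Over.forget S) hl''⟩, fun i => ?_, hmap, hπ⟩
  have := (hobj i).1
  have := (hobj i).2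
  let g : (D.obj i).left ⟶ X' := (D.obj i).hom
  have : IsClosedImmersion g := (hobj i).1
  have : LocallyOfFinitePresentation g := (hobj i).2
  have : CompactSpace (D.obj i).left := QuasiCompact.compactSpace_of_compactSpace g
  have : QuasiSeparatedSpace (D.obj i).left := quasiSeparatedSpace_of_quasiSeparated g
  exact ⟨inferInstanceAs (LocallyOfFinitePresentation (g ≫ f')), inferInstanceAs (QuasiCompact (g ≫ f')),
    inferInstanceAs (QuasiSeparated (g ≫ f')), ‹_›, ‹_›⟩

theorem S7380 {X S : Scheme.{u}}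
    (f : X ⟶ S) [LocallyOfFiniteType f] [CompactSpace X] [QuasiSeparatedSpace X] [QuasiSeparatedSpace S] :
    ∃ (I : Type u) (_ : Preorder I) (_ : IsDirected I (fun a b => a ≤ b)) (_ : Nonempty I)
      (D : Iᵒᵖ ⥤ Over S) (c : Limits.Cone D) (_ : Limits.IsLimit c),
      (∀ i, LocallyOfFinitePresentation (D.obj i).hom ∧ QuasiCompact (D.obj i).hom ∧
        QuasiSeparated (D.obj i).hom ∧ CompactSpace (D.obj i).left ∧ QuasiSeparatedSpace (D.obj i).left) ∧
      (∀ (i j : Iᵒᵖ) (a : i ⟶ j), IsClosedImmersion (D.map a).left) ∧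
      Nonempty (c.pt ≅ Over.mk f) := by
  obtain ⟨α, _, _, _, D, π, ⟨hl⟩, h1, h2, -⟩ := exists_fp_closed_limit f
  exact ⟨α, inferInstance, inferInstance, inferInstance, D, Cone.mk _ π, hl, h1, h2, ⟨Iso.refl _⟩⟩

theorem S7395 {X S : Scheme.{u}} (f : X ⟶ S) [IsSeparated f]
    [LocallyOfFiniteType f] [QuasiCompact f] [CompactSpace S] [QuasiSeparatedSpace S] :
    ∃ (X' : Scheme.{u}) (f' : X' ⟶ S) (j : X ⟶ X'), IsSeparated f' ∧ LocallyOfFinitePresentation f' ∧
      QuasiCompact f' ∧ IsClosedImmersion j ∧ j ≫ f' = f := by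
  have : CompactSpace X := QuasiCompact.compactSpace_of_compactSpace f
  have : QuasiSeparatedSpace X := quasiSeparatedSpace_of_quasiSeparated f
  obtain ⟨α, _, _, _, D, π, ⟨hl⟩, hobj, hmap, hπ⟩ := exists_fp_closed_limit f
  have : IsConnected αᵒᵖ := IsCofiltered.isConnected _
  obtain ⟨i₀⟩ := IsCofiltered.nonempty (C := αᵒᵖ)
  let E := D ⋙ Over.forget S
  let t : E ⟶ (Functor.const αᵒᵖ).obj S :=
    { app := fun i => (D.obj i).hom, naturality := fun i j a => by simp [E] }
  have : ∀ (i j : αᵒᵖ) (a : i ⟶ j), IsAffineHom (E.map a) := fun i j a =>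
    have := hmap i j a; inferInstanceAs (IsAffineHom (D.map a).left)
  have : ∀ i, CompactSpace (E.obj i) := fun i => (hobj i).2.2.2.1
  have : ∀ i, QuasiSeparatedSpace (E.obj i) := fun i => (hobj i).2.2.2.2
  let c := (Over.forget S).mapCone (Cone.mk (Over.mk f) π)
  have hc : IsLimit c := isLimitOfPreserves _ hl
  have e : c.π.app i₀ ≫ t.app i₀ = f := Over.w (π.app i₀)
  have : IsSeparated (c.π.app i₀ ≫ t.app i₀) := by rw [e]; infer_instance
  obtain ⟨i₁, h₁⟩ := Lim60.exists_isSeparated_structureMap S E t c hc i₀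
  exact ⟨(D.obj i₁).left, (D.obj i₁).hom, (π.app i₁).left, h₁ i₁ (𝟙 _), (hobj i₁).1, (hobj i₁).2.1,
    hπ i₁, Over.w (π.app i₁)⟩

end Groth.Agent.Approx60
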