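import Groth.Agent.Approx60.ChowCore
import Groth.Agent.Approx60.ChowPiece
import Groth.Agent.Approx60.ClosedLimit
import Groth.Agent.LimDesc62.ClosedImm
import Mathlib.Topology.Sober

/-! Chow's lemma. -/

set_option autoImplicit false

universe u

open CategoryTheory CategoryTheory.Limits AlgebraicGeometry Opposite TopologicalSpace

noncomputable section

set_option backward.isDefEq.respectTransparency false
set_option backward.defeqAttrib.useBackward true

namespace Groth.Agent.Approx60.Chow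

/-- A finite family of pairwise disjoint affine opens, one around each generic point, with dense union and
compatible with a finite family of opens. -/
theorem exists_generic_opens {X : Scheme.{u}} (hirr : (irreducibleComponents (X : Type u)).Finite)
    {κ : Type*} [Finite κ] (W : κ → X.Opens) :
    ∃ (ι : Type u) (_ : Finite ι) (E : ι → X.Opens) (η : ι → X),
      (∀ c, IsAffineOpen (E c)) ∧ (∀ c, η c ∈ E c) ∧ (∀ c c', c ≠ c' → E c ⊓ E c' = ⊥) ∧
      Dense ((⨆ c, E c : X.Opens) : Set X) ∧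
      ∀ c i, (η c ∈ W i → E c ≤ W i) ∧ (η c ∉ W i → E c ⊓ W i = ⊥) := by
  classical
  let ι := irreducibleComponents (X : Type u)
  have : Finite ι := hirr.to_subtype
  have hgen : ∀ Z : ι, ∃ x : X, IsGenericPoint x (Z : Set X) := fun Z =>
    QuasiSober.sober Z.2.1 (isClosed_of_mem_irreducibleComponents _ Z.2)
  choose η hη using hgen
  let O : ι → X.Opens := fun Z => ⟨(⋃ (Z' : ι) (_ : Z' ≠ Z), (Z' : Set X))ᶜ,
    (isClosed_iUnion_of_finite fun Z' => isClosed_iUnion_of_finite fun _ =>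
      isClosed_of_mem_irreducibleComponents _ Z'.2).isOpen_compl⟩
  have hOZ : ∀ Z x, x ∈ O Z → x ∈ (Z : Set X) := fun Z x hx => by
    by_contra h
    obtain ⟨Z', hZ', hxZ'⟩ : ∃ Z' ∈ irreducibleComponents (X : Type u), x ∈ Z' := by
      have := (sUnion_irreducibleComponents (X := (X : Type u))).ge (Set.mem_univ x)
      exact Set.mem_sUnion.1 this
    exact hx (Set.mem_iUnion₂.2 ⟨⟨Z', hZ'⟩, fun e => h (e ▸ hxZ'), hxZ'⟩)
  have hηO : ∀ Z, η Z ∈ O Z := fun Z h => by
    obtain ⟨Z', hne, hmem⟩ := Set.mem_iUnion₂.1 h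
    refine hne (Subtype.ext (subset_antisymm ?_ ?_))
    · exact Z.2.2 Z'.2.1 ((hη Z).mem_closed_set_iff (isClosed_of_mem_irreducibleComponents _ Z'.2) |>.1 hmem)
    · exact (hη Z).mem_closed_set_iff (isClosed_of_mem_irreducibleComponents _ Z'.2) |>.1 hmem
  cases nonempty_fintype κ
  let G : ι → X.Opens := fun Z => O Z ⊓ (Finset.univ.filter fun i => η Z ∈ W i).inf W
  have hηG : ∀ Z, η Z ∈ G Z := fun Z => ⟨hηO Z, by
    suffices ∀ s : Finset κ, (∀ i ∈ s, η Z ∈ W i) → η Z ∈ s.inf W from this _ (by simp)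
    intro s
    induction s using Finset.induction with
    | empty => simp
    | insert a s _ ih =>
      intro hs
      rw [Finset.inf_insert]
      exact ⟨hs a (Finset.mem_insert_self _ _), ih fun i hi => hs i (Finset.mem_insert_of_mem hi)⟩⟩
  choose E hEaff hηE hEG using fun Z => exists_isAffineOpen_mem_and_subset (hηG Z)
  have hEO : ∀ Z, E Z ≤ O Z := fun Z x hx => (hEG Z hx).1
  refine ⟨ι, inferInstance, E, η, hEaff, hηE, fun Z Z' hne => eq_bot_iff.2 fun x hx => ?_, ?_, fun Z i => ⟨?_, ?_⟩⟩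
  · exact (hEO Z' hx.2 (Set.mem_iUnion₂.2 ⟨Z, hne, hOZ Z x (hEO Z hx.1)⟩)).elim
  · intro x
    obtain ⟨Z, hZ, hxZ⟩ := Set.mem_sUnion.1 ((sUnion_irreducibleComponents (X := (X : Type u))).ge (Set.mem_univ x))
    have : x ∈ closure ({η ⟨Z, hZ⟩} : Set X) := by rw [(hη ⟨Z, hZ⟩).def]; exact hxZ
    exact closure_mono (Set.singleton_subset_iff.2 (Opens.mem_iSup.2 ⟨⟨Z, hZ⟩, hηE _⟩)) this
  · intro h
    exact fun x hx => Finset.inf_le (f := W) (Finset.mem_filter.2 ⟨Finset.mem_univ _, h⟩) (hEG Z hx).2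
  · intro h
    refine eq_bot_iff.2 fun x hx => (h ?_).elim
    exact ((hη Z).mem_open_set_iff (W i).2).2 ⟨x, hOZ Z x (hEO Z hx.1), hx.2⟩

/-- Chow's lemma, finitely many irreducible components. -/
theorem chow_dense {X S : Scheme.{u}} (f : X ⟶ S) [CompactSpace S] [QuasiSeparatedSpace S]
    [IsSeparated f] [LocallyOfFiniteType f] [QuasiCompact f]
    (hirr : (irreducibleComponents (X : Type u)).Finite) :
    ∃ (N : ℕ) (X' : Scheme.{u}) (π : X' ⟶ X) (J : X' ⟶ CohB1.ProjSpaceOver N S),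
      IsImmersion J ∧ J ≫ CohB1.ProjSpaceOver.toBase N S = π ≫ f ∧ IsProper π ∧ Surjective π ∧
      ∃ U : X.Opens, Dense (U : Set X) ∧ IsIso (π ∣_ U) ∧ IsSchemeTheoreticallyDominant (π ⁻¹ᵁ U).ι := by
  classical
  have : CompactSpace X := QuasiCompact.compactSpace_of_compactSpace f
  have : QuasiSeparatedSpace X := quasiSeparatedSpace_of_quasiSeparated f
  have hcov : ∀ x : X, ∃ (W : X.Opens) (V : S.Opens), IsAffineOpen W ∧ IsAffineOpen V ∧ x ∈ W ∧ W ≤ f ⁻¹ᵁ V := by
    intro x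
    obtain ⟨V, hV, hxV, -⟩ := exists_isAffineOpen_mem_and_subset (U := (⊤ : S.Opens)) (x := f x) trivial
    obtain ⟨W, hW, hxW, hWV⟩ := exists_isAffineOpen_mem_and_subset (U := f ⁻¹ᵁ V) (x := x) hxV
    exact ⟨W, V, hW, hV, hxW, hWV⟩
  choose W₀ V₀ hW₀ hV₀ hxW₀ hWV₀ using hcov
  obtain ⟨T, hT⟩ := (CompactSpace.isCompact_univ (X := X)).elim_finite_subcover (fun x => (W₀ x : Set X))
    (fun x => (W₀ x).2) (fun x _ => Set.mem_iUnion.2 ⟨x, hxW₀ x⟩)
  let k := T.card
  let x : Fin k → X := fun i => (T.equivFin.symm i).1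
  let W : Fin k → X.Opens := fun i => W₀ (x i)
  have hW : ⨆ i, W i = ⊤ := top_le_iff.1 fun y _ => by
    obtain ⟨z, hz, hy⟩ := Set.mem_iUnion₂.1 (hT (Set.mem_univ y))
    exact Opens.mem_iSup.2 ⟨T.equivFin ⟨z, hz⟩, by simpa [W, x] using hy⟩
  choose n j O jO σ hcl hjO hjt hσt hσO using fun i =>
    exists_piece f (W i) (hW₀ (x i)) (V₀ (x i)) (hV₀ (x i)) (hWV₀ (x i))
  obtain ⟨ι, _, E, η, hEaff, hηE, hdisj, hdense, hEW⟩ := exists_generic_opens hirr W
  let U : X.Opens := ⨆ c, E c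
  have : CompactSpace (U : Scheme.{u}) := isCompact_iff_compactSpace.1 (by
    simp only [U, Opens.coe_iSup]
    exact isCompact_iUnion fun c => (hEaff c).isCompact)
  let E' : ι → (U : Scheme.{u}).Opens := fun c => U.ι ⁻¹ᵁ E c
  have hE'cov : ⨆ c, E' c = ⊤ := by
    rw [← Scheme.Hom.preimage_iSup]; exact U.ι_preimage_self
  have hlift : ∀ (c : ι) i, η c ∈ W i → Set.range ((E' c).ι ≫ U.ι) ⊆ Set.range (W i).ι := fun c i h => by
    rw [Scheme.Opens.range_ι]
    rintro _ ⟨y, rfl⟩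
    exact (hEW c i).1 h y.2
  let m : ∀ i c, (E' c : Scheme.{u}) ⟶ CohB1.ProjSpaceOver (n i) S := fun i c =>
    if h : η c ∈ W i then IsOpenImmersion.lift (W i).ι ((E' c).ι ≫ U.ι) (hlift c i h) ≫ j i
    else (E' c).ι ≫ U.ι ≫ f ≫ σ i
  let 𝒰 := (U : Scheme.{u}).openCoverOfIsOpenCover E' (TopologicalSpace.IsOpenCover.mk hE'cov)
  have hglue : ∀ i, ∀ (c c' : ι), pullback.fst (E' c).ι (E' c').ι ≫ m i c = pullback.snd _ _ ≫ m i c' := by
    intro i c c'
    by_cases h : c = c'
    · subst h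
      rw [show pullback.fst (E' c).ι (E' c).ι = pullback.snd _ _ by rw [← cancel_mono (E' c).ι, pullback.condition]]
    · have : IsEmpty (pullback (E' c).ι (E' c').ι : Scheme.{u}) := ⟨fun p => by
        have h1 := (pullback.fst (E' c).ι (E' c').ι p).2
        have h2 := (pullback.snd (E' c).ι (E' c').ι p).2
        have e : (pullback.fst (E' c).ι (E' c').ι ≫ (E' c).ι) p = (pullback.snd (E' c).ι (E' c').ι ≫ (E' c').ι) p := by
          rw [pullback.condition]
        have h3 : U.ι ((pullback.fst (E' c).ι (E' c').ι ≫ (E' c).ι) p) ∈ E c ⊓ E c' := ⟨h1, e ▸ h2⟩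
        rw [hdisj c c' h] at h3
        exact h3⟩
      exact isInitialOfIsEmpty.hom_ext _ _
  let g : ∀ i, (U : Scheme.{u}) ⟶ CohB1.ProjSpaceOver (n i) S := fun i =>
    𝒰.glueMorphisms (m i) (hglue i)
  have hg' : ∀ i c, (E' c).ι ≫ g i = m i c := fun i c => 𝒰.ι_glueMorphisms _ _ c
  have hg : ∀ i, g i ≫ CohB1.ProjSpaceOver.toBase (n i) S = U.ι ≫ f := fun i => 𝒰.hom_ext _ _ fun c => by
    show (E' c).ι ≫ g i ≫ _ = (E' c).ι ≫ U.ι ≫ f
    rw [← Category.assoc, hg']
    simp only [m]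
    split_ifs with h
    · rw [Category.assoc, hjt, IsOpenImmersion.lift_fac_assoc, Category.assoc]
    · simp only [Category.assoc, hσt, Category.comp_id]
  have hgO : ∀ i, g i ⁻¹ᵁ O i = U.ι ⁻¹ᵁ W i := fun i => by
    ext y
    obtain ⟨c, hc⟩ := Opens.mem_iSup.1 (hE'cov.ge (Opens.mem_top y))
    show g i y ∈ O i ↔ U.ι y ∈ W i
    rw [show g i y = m i c ⟨y, hc⟩ by rw [← hg' i c]; rfl]
    simp only [m]
    split_ifs with h
    · refine iff_of_true ?_ ((hEW c i).1 h hc)
      rw [← hjO i, ← Category.assoc]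
      exact ((IsOpenImmersion.lift (W i).ι ((E' c).ι ≫ U.ι) (hlift c i h) ≫ jO i) ⟨y, hc⟩).2
    · refine iff_of_false (fun hh => ?_) (fun hh => ?_)
      · have : f (U.ι y) ∈ σ i ⁻¹ᵁ O i := hh
        rw [hσO i] at this
        exact this
      · have h3 : U.ι y ∈ E c ⊓ W i := ⟨hc, hh⟩
        rw [(hEW c i).2 h] at h3
        exact h3
  have hgj : ∀ i {T : Scheme.{u}} (a : T ⟶ U) (b : T ⟶ W i), a ≫ U.ι = b ≫ (W i).ι → a ≫ g i = b ≫ j i := by
    intro i T a b hab
    refine (T.openCoverOfIsOpenCover (fun c => a ⁻¹ᵁ E' c) (TopologicalSpace.IsOpenCover.mk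
      (by rw [← Scheme.Hom.preimage_iSup, hE'cov, Scheme.Hom.preimage_top]))).hom_ext _ _ fun c => ?_
    show (a ⁻¹ᵁ E' c).ι ≫ a ≫ g i = (a ⁻¹ᵁ E' c).ι ≫ b ≫ j i
    rw [← morphismRestrict_ι_assoc, hg']
    simp only [m]
    split_ifs with h
    · rw [← Category.assoc, ← Category.assoc]
      congr 1
      rw [← cancel_mono (W i).ι, Category.assoc, IsOpenImmersion.lift_fac, morphismRestrict_ι_assoc,
        Category.assoc, hab]
    · have : IsEmpty (a ⁻¹ᵁ E' c : Scheme.{u}) := ⟨fun p => by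
        have h1 : U.ι (a p.1) ∈ E c := p.2
        have h3 : U.ι (a p.1) ∈ E c ⊓ W i := ⟨h1, by
          rw [← Scheme.Hom.comp_apply, hab]; exact (b p.1).2⟩
        rw [(hEW c i).2 h] at h3
        exact h3⟩
      exact isInitialOfIsEmpty.hom_ext _ _
  have := hcl
  obtain ⟨N, X', π, J, h1, h2, h3, h4, h5, h6⟩ := core f W hW n j hjt O jO hjO U hdense g hg hgO hgj
  exact ⟨N, X', π, J, h1, h2, h3, h4, U, hdense, h5, h6⟩

theorem chow_noetherian {X S : Scheme.{u}} (f : X ⟶ S) [IsNoetherian S] [IsSeparated f]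
    [LocallyOfFiniteType f] [QuasiCompact f] :
    ∃ (n : ℕ) (X' : Scheme.{u}) (π : X' ⟶ X) (j : X' ⟶ CohB1.ProjSpaceOver n S),
      IsImmersion j ∧ j ≫ CohB1.ProjSpaceOver.toBase n S = π ≫ f ∧ IsProper π ∧ Surjective π ∧
      ∃ U : X.Opens, Dense (U : Set X) ∧ IsIso (π ∣_ U) := by
  have : CompactSpace X := QuasiCompact.compactSpace_of_compactSpace f
  have : IsLocallyNoetherian X := LocallyOfFiniteType.isLocallyNoetherian f
  have : IsNoetherian X := {}
  obtain ⟨n, X', π, j, h1, h2, h3, h4, U, h5, h6, -⟩ :=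
    chow_dense f (TopologicalSpace.NoetherianSpace.finite_irreducibleComponents (α := (X : Type u)))
  exact ⟨n, X', π, j, h1, h2, h3, h4, U, h5, h6⟩

/-- Chow's lemma over a quasi-compact quasi-separated base. -/
theorem chow_qcqs {X S : Scheme.{u}} (f : X ⟶ S) [CompactSpace S] [QuasiSeparatedSpace S]
    [IsSeparated f] [LocallyOfFiniteType f] [QuasiCompact f] :
    ∃ (n : ℕ) (X' : Scheme.{u}) (π : X' ⟶ X) (j : X' ⟶ CohB1.ProjSpaceOver n S),
      IsImmersion j ∧ j ≫ CohB1.ProjSpaceOver.toBase n S = π ≫ f ∧ IsProper π ∧ Surjective π := by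
  obtain ⟨X₁, f₁, i, hsep, hfp, hqc, hi, hif⟩ := S7395 f
  obtain ⟨J, _, _, D, πS, hD, ⟨hl⟩⟩ := exists_approximation S
  have := hD.aff
  have := hD.compact
  have hlft := hD.lft
  have : IsNoetherianRing (Zu.{u}) := isNoetherianRing_of_ringEquiv ℤ ULift.ringEquiv.symm
  have hN : ∀ k, IsNoetherian (D.obj k) := fun k => by
    have := hlft k
    have : IsLocallyNoetherian (D.obj k) := LocallyOfFiniteType.isLocallyNoetherian (toZ (D.obj k))
    exact {}
  have : ∀ k, QuasiSeparatedSpace (D.obj k) := fun k => inferInstance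
  obtain ⟨k, Xk, fk, g, hk1, hk2, hk3, hpb⟩ := S0591 D (Cone.mk S πS) hl X₁ f₁
  obtain ⟨l, φ, hsepl⟩ := LimDesc62.descProp_isSeparated_top.desc D (Cone.mk S πS) hl k fk trivial
    (by rw [← hpb.isoPullback_inv_snd]; infer_instance)
  let fl : pullback fk (D.map φ) ⟶ D.obj l := pullback.snd fk (D.map φ)
  have : IsSeparated fl := hsepl
  have : CompactSpace (D.obj l) := hD.compact l
  obtain ⟨n, Xl', πl, jl, hjl, hjlt, hπl, hsl, -⟩ := chow_noetherian fl
  let gl : X₁ ⟶ pullback fk (D.map φ) := pullback.lift g (f₁ ≫ πS.app l) (by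
    rw [hpb.w, Category.assoc]
    congr 1
    exact ((Cone.mk S πS).w φ).symm)
  have hgl : IsPullback gl f₁ fl (πS.app l) := by
    refine IsPullback.of_right ?_ (pullback.lift_snd _ _ _) (IsPullback.of_hasPullback fk (D.map φ))
    have e : πS.app l ≫ D.map φ = πS.app k := (Cone.mk S πS).w φ
    rw [pullback.lift_fst, e]
    exact hpb
  -- pull back to `X`
  let X' := pullback πl (i ≫ gl)
  let t : X' ⟶ CohB1.ProjSpaceOver n S := pullback.lift
    (pullback.fst πl (i ≫ gl) ≫ jl ≫ pullback.fst _ _) (pullback.snd πl (i ≫ gl) ≫ f)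
    (specULiftZIsTerminal.hom_ext _ _)
  have htt : t ≫ CohB1.ProjSpaceOver.toBase n S = pullback.snd πl (i ≫ gl) ≫ f := pullback.lift_snd _ _ _
  refine ⟨n, X', pullback.snd _ _, t, ?_, htt, inferInstance, inferInstance⟩
  -- `t` is an immersion
  let P₁ := pullback (jl ≫ CohB1.ProjSpaceOver.toBase n (D.obj l)) (πS.app l)
  let u : X' ⟶ P₁ := pullback.lift (pullback.fst πl (i ≫ gl)) (pullback.snd πl (i ≫ gl) ≫ f) (by
    rw [hjlt, pullback.condition_assoc, Category.assoc, hgl.w, reassoc_of% hif, Category.assoc])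
  have hu : IsClosedImmersion u := by
    have hv : IsPullback (pullback.fst πl gl) (pullback.snd πl gl ≫ f₁) (πl ≫ fl) (πS.app l) :=
      (IsPullback.of_hasPullback πl gl).paste_vert hgl
    let v : pullback πl gl ⟶ P₁ := pullback.lift (pullback.fst πl gl) (pullback.snd πl gl ≫ f₁) (by
      rw [hjlt]; exact hv.w)
    have : IsIso v := by
      let w : P₁ ⟶ pullback πl gl := hv.lift (pullback.fst _ _) (pullback.snd _ _) (by
        rw [← hjlt]; exact pullback.condition)
      refine ⟨w, hv.hom_ext ?_ ?_, pullback.hom_ext ?_ ?_⟩ <;> simp [v, w]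
    let q : X' ⟶ pullback πl gl := pullback.map πl (i ≫ gl) πl gl (𝟙 _) i (𝟙 _) (by simp) (by simp)
    have : IsClosedImmersion q :=
      MorphismProperty.pullback_map (P := @IsClosedImmersion) (MorphismProperty.id_mem _ _) hi (by simp) (by simp)
    have : u = q ≫ v := by
      apply pullback.hom_ext <;> simp [u, q, v, hif]
    rw [this]
    infer_instance
  let w : P₁ ⟶ CohB1.ProjSpaceOver n S := pullback.lift
    (pullback.fst _ _ ≫ jl ≫ pullback.fst _ _) (pullback.snd _ _) (specULiftZIsTerminal.hom_ext _ _)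
  have hw : IsImmersion w := by
    let b : CohB1.ProjSpaceOver n S ⟶ CohB1.ProjSpaceOver n (D.obj l) :=
      pullback.lift (pullback.fst _ _) (pullback.snd _ _ ≫ πS.app l) (specULiftZIsTerminal.hom_ext _ _)
    have hb : IsPullback b (CohB1.ProjSpaceOver.toBase n S) (CohB1.ProjSpaceOver.toBase n (D.obj l)) (πS.app l) := by
      refine IsPullback.of_right ?_ (pullback.lift_snd _ _ _)
        (IsPullback.of_hasPullback (CohB1.ProjSpace.toSpec n (ULift.{u} ℤ)) (specULiftZIsTerminal.from (D.obj l)))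
      rw [specULiftZIsTerminal.hom_ext (πS.app l ≫ specULiftZIsTerminal.from (D.obj l)) (specULiftZIsTerminal.from S)]
      have e2 : b ≫ pullback.fst _ _ = pullback.fst _ _ := pullback.lift_fst _ _ _
      erw [e2]
      exact IsPullback.of_hasPullback _ _
    have hwb : w ≫ b = pullback.fst _ _ ≫ jl := by
      apply pullback.hom_ext
      · simp [w, b]
      · simp only [w, b, Category.assoc, pullback.lift_snd]
        rw [pullback.lift_snd_assoc]
        exact pullback.condition.symm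
    have hsq : IsPullback (pullback.fst _ _) w jl b := by
      refine IsPullback.of_bot ?_ hwb.symm hb
      rw [show w ≫ CohB1.ProjSpaceOver.toBase n S = pullback.snd _ _ from pullback.lift_snd _ _ _]
      exact IsPullback.of_hasPullback _ _
    exact MorphismProperty.of_isPullback hsq hjl
  have : t = u ≫ w := by
    apply pullback.hom_ext <;> simp [t, u, w, CohB1.ProjSpaceOver.toBase]
  rw [this]
  infer_instance

end Groth.Agent.Approx60.Chow
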