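import Groth.Agent.Approx60.Morph
import Groth.Agent.Approx60.ClosedLimit
import Groth.Agent.Lim60.EvAffine

set_option autoImplicit false
set_option backward.isDefEq.respectTransparency false
set_option backward.defeqAttrib.useBackward true

/-! Integral morphisms as limits of finite morphisms of finite presentation. -/

universe u

open CategoryTheory CategoryTheory.Limits AlgebraicGeometry Opposite TopologicalSpace
open Groth.Agent.LimDesc62

namespace Groth.Agent.Approx60

lemma const_w' {C : Type u} [SmallCategory C] {A : Type*} [Category A] {Y : A} {E : C ⥤ A}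
    (τ : (Functor.const C).obj Y ⟶ E) {a b : C} (u : a ⟶ b) : τ.app a ≫ E.map u = τ.app b := by
  simpa using (τ.naturality u).symm

theorem isIntegralHom_of_cover {X Y : Scheme.{u}} (g : X ⟶ Y) [IsAffineHom g] {J : Type*}
    (W : J → Y.Opens) (hW : ∀ j, IsAffineOpen (W j)) (hW' : ⨆ j, W j = ⊤)
    (h : ∀ j, (g.app (W j)).hom.IsIntegral) : IsIntegralHom g := by
  refine IsZariskiLocalAtTarget.of_iSup_eq_top (P := @IsIntegralHom) W hW' fun j => ?_
  have : IsAffine (W j) := hW j
  have : IsAffine (g ⁻¹ᵁ W j) := (hW j).preimage g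
  rw [HasAffineProperty.iff_of_isAffine (P := @IsIntegralHom)]
  refine ⟨‹_›, ?_⟩
  have key : ∀ V : Y.Opens, V = W j → (g.app V).hom.IsIntegral := by rintro V rfl; exact h j
  have h2 := key _ (Scheme.Opens.ι_image_top _)
  rw [show (g ∣_ W j).app ⊤ = (g ∣_ W j).appTop from rfl, morphismRestrict_appTop, CommRingCat.hom_comp]
  exact RingHom.IsIntegral.trans _ _ h2 (RingHom.isIntegral_of_surjective _
    (ConcreteCategory.bijective_of_isIso (X.presheaf.map (eqToHom _).op)).surjective)

/-- A composite is integral if the second map is, and generators become integral. -/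
theorem isIntegral_comp_of_gens {R A B : Type u} [CommRing R] [CommRing A] [CommRing B] (φ : R →+* A)
    (ψ : A →+* B) (hψ : ψ.IsIntegral) (s : Set A) (hgen : Subring.closure (Set.range φ ∪ s) = ⊤)
    (hs : ∀ x ∈ s, (ψ.comp φ).IsIntegralElem (ψ x)) : (ψ.comp φ).IsIntegral := by
  let _ := (ψ.comp φ).toAlgebra
  let C : Subring B := (integralClosure R B).toSubring
  have hA : ∀ a, ψ a ∈ C := by
    have : Subring.closure (Set.range φ ∪ s) ≤ C.comap ψ := by
      rw [Subring.closure_le]
      rintro x (⟨r, rfl⟩ | hx)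
      · exact isIntegral_algebraMap (R := R) (A := B) (x := r)
      · exact hs x hx
    exact fun a => this (hgen ▸ Subring.mem_top a)
  let φ₁ : R →+* C := (ψ.codRestrict C hA).comp φ
  have h1 : φ₁.IsIntegral := fun c => by
    obtain ⟨P, hP, hP'⟩ := c.2
    refine ⟨P, hP, Subtype.ext ?_⟩
    have := Polynomial.hom_eval₂ P φ₁ C.subtype c
    exact this.trans hP'
  have h2 : C.subtype.IsIntegral := by
    refine RingHom.IsIntegral.tower_top (ψ.codRestrict C hA) _ ?_
    exact hψ
  exact RingHom.IsIntegral.trans φ₁ C.subtype h1 h2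

section Stage

variable {I : Type u} [SmallCategory I] [IsCofiltered I] (S : Scheme.{u})
  (D : I ⥤ Scheme.{u}) (t : D ⟶ (Functor.const I).obj S) (c : Cone D) (hc : IsLimit c)
  [∀ (i j : I) (a : i ⟶ j), IsAffineHom (D.map a)]

include hc in
theorem exists_app_isIntegral (i : I) [IsAffineHom (t.app i)] [LocallyOfFiniteType (t.app i)]
    [IsIntegralHom (c.π.app i ≫ t.app i)] (hint : ∀ (i j : I) (a : i ⟶ j), IsIntegralHom (D.map a))
    {W : S.Opens} (hW : IsAffineOpen W) :
    ∃ (m : I) (_ : m ⟶ i), ∀ (n : I) (_ : n ⟶ m), ((t.app n).app W).hom.IsIntegral := by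
  let ti : D.obj i ⟶ S := t.app i
  have : IsAffineHom ti := ‹IsAffineHom (t.app i)›
  have : LocallyOfFiniteType ti := ‹LocallyOfFiniteType (t.app i)›
  have hV : IsAffineOpen (ti ⁻¹ᵁ W) := hW.preimage ti
  have hft : (ti.app W).hom.FiniteType := by
    have := ti.finiteType_appLE hW hV le_rfl
    rwa [← Scheme.Hom.app_eq_appLE] at this
  let _ := (ti.app W).hom.toAlgebra
  obtain ⟨s, hs⟩ := hft.out
  have hgen : Subring.closure (Set.range (ti.app W).hom ∪ (s : Set Γ(D.obj i, ti ⁻¹ᵁ W))) = ⊤ := by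
    have := congrArg Subalgebra.toSubring hs
    rw [Algebra.adjoin_eq_ring_closure] at this
    simpa [RingHom.algebraMap_toAlgebra] using this
  have key : ∀ x ∈ s, ∃ (j : I) (f : j ⟶ i),
      (((D.map f).app (ti ⁻¹ᵁ W)).hom.comp (ti.app W).hom).IsIntegralElem ((D.map f).app _ x) := by
    intro x _
    obtain ⟨P, hP, hP'⟩ := (c.π.app i ≫ ti).isIntegral_app W hW ((c.π.app i).app _ x)
    have e : (c.π.app i).app _ (P.eval₂ (ti.app W).hom x) = 0 := by
      refine (Polynomial.hom_eval₂ P (ti.app W).hom ((c.π.app i).app (ti ⁻¹ᵁ W)).hom x).trans ?_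
      exact hP'
    obtain ⟨j, f, hf⟩ := exists_app_map_eq_zero_of_isLimit D c hc hV.isCompact _ e
    refine ⟨j, f, P, hP, ?_⟩
    exact (Polynomial.hom_eval₂ P (ti.app W).hom ((D.map f).app (ti ⁻¹ᵁ W)).hom x).symm.trans hf
  choose j f hf using fun x : s => key x.1 x.2
  obtain ⟨m, φ, χ, hχ⟩ := DescProp.exists_common f
  refine ⟨m, φ, fun n a => ?_⟩
  let g := D.map (a ≫ φ)
  have : IsIntegralHom g := hint _ _ _
  have hall : ((g.app (ti ⁻¹ᵁ W)).hom.comp (ti.app W).hom).IsIntegral := by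
    refine isIntegral_comp_of_gens _ _ (g.isIntegral_app _ hV) _ hgen fun x hx => ?_
    obtain ⟨P, hP, hP'⟩ := hf ⟨x, hx⟩
    refine ⟨P, hP, ?_⟩
    have hz : (D.map (f ⟨x, hx⟩)).app _ (P.eval₂ (ti.app W).hom x) = 0 :=
      (Polynomial.hom_eval₂ P (ti.app W).hom ((D.map (f ⟨x, hx⟩)).app (ti ⁻¹ᵁ W)).hom x).trans hP'
    refine (Polynomial.hom_eval₂ P (ti.app W).hom (g.app (ti ⁻¹ᵁ W)).hom x).symm.trans ?_
    have e : g = D.map (a ≫ χ ⟨x, hx⟩) ≫ D.map (f ⟨x, hx⟩) := by
      rw [← D.map_comp, Category.assoc, hχ]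
    show g.app _ _ = 0
    rw [Scheme.Hom.congr_app e]
    simp only [Scheme.Hom.comp_app, ConcreteCategory.comp_apply, hz, map_zero]
  have e : t.app n = g ≫ ti := by simp [g, ti]
  rw [Scheme.Hom.congr_app e, CommRingCat.hom_comp]
  refine RingHom.IsIntegral.trans _ _ hall (RingHom.isIntegral_of_surjective _ ?_)
  exact (ConcreteCategory.bijective_of_isIso ((D.obj n).presheaf.map (eqToHom _).op)).surjective

end Stage

/-- Stages of an integral limit with finite transition maps are eventually finite over the base. -/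
theorem S2154 {I : Type u} [SmallCategory I] [IsCofiltered I] (S : Scheme.{u}) [CompactSpace S]
    [QuasiSeparatedSpace S] (D : I ⥤ Over S) (c : Limits.Cone D) (hc : Limits.IsLimit c)
    [∀ (i j : I) (f : i ⟶ j), IsFinite (D.map f).left] [∀ i, CompactSpace (D.obj i).left]
    [∀ i, QuasiSeparatedSpace (D.obj i).left] [∀ i, LocallyOfFiniteType (D.obj i).hom] [IsIntegralHom c.pt.hom] :
    ∃ i₀ : I, ∀ (i : I) (_ : i ⟶ i₀), IsFinite (D.obj i).hom := by
  have : IsConnected I := IsCofiltered.isConnected _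
  let E := D ⋙ Over.forget S
  let t : E ⟶ (Functor.const I).obj S :=
    { app := fun i => (D.obj i).hom, naturality := fun i j a => by simp [E] }
  let c' := (Over.forget S).mapCone c
  have hc' : IsLimit c' := isLimitOfPreserves _ hc
  have hfin : ∀ (i j : I) (a : i ⟶ j), IsFinite (E.map a) := fun i j a => ‹∀ (i j : I) (f : i ⟶ j), IsFinite (D.map f).left› i j a
  have : ∀ (i j : I) (a : i ⟶ j), IsAffineHom (E.map a) := fun i j a => have := hfin i j a; inferInstance
  have : ∀ i, CompactSpace (E.obj i) := fun i => inferInstanceAs (CompactSpace (D.obj i).left)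
  have : ∀ i, QuasiSeparatedSpace (E.obj i) := fun i => inferInstanceAs (QuasiSeparatedSpace (D.obj i).left)
  have hw : ∀ i, c'.π.app i ≫ t.app i = c.pt.hom := fun i => Over.w (c.π.app i)
  obtain ⟨i₀⟩ := IsCofiltered.nonempty (C := I)
  have : IsAffineHom (c'.π.app i₀ ≫ t.app i₀) := by rw [hw]; infer_instance
  obtain ⟨i₁, h₁⟩ := Lim60.exists_isAffineHom_structureMap S E t c' hc' i₀
  have : IsAffineHom (t.app i₁) := h₁ i₁ (𝟙 _)
  have : LocallyOfFiniteType (t.app i₁) := inferInstanceAs (LocallyOfFiniteType (D.obj i₁).hom)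
  have : IsIntegralHom (c'.π.app i₁ ≫ t.app i₁) := by rw [hw]; infer_instance
  obtain ⟨J, _, W, hW, hW'⟩ := Lim60.exists_finite_affine_cover S
  choose m φ hm using fun j => exists_app_isIntegral S E t c' hc' i₁
    (fun i j a => have := hfin i j a; inferInstance) (hW j)
  obtain ⟨n, ψ, χ, -⟩ := DescProp.exists_common φ
  refine ⟨n, fun i a => ?_⟩
  have : IsAffineHom (t.app i) := h₁ i (a ≫ ψ)
  refine (IsFinite.iff_isIntegralHom_and_locallyOfFiniteType _).mpr ⟨?_, inferInstance⟩
  exact isIntegralHom_of_cover (t.app i) W hW hW' fun j => hm j i (a ≫ χ j)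

/-- A finite morphism is a limit of finite morphisms of finite presentation along closed immersions. -/
theorem exists_finite_fp_limit {X S : Scheme.{u}} (f : X ⟶ S) [IsFinite f] [CompactSpace S]
    [QuasiSeparatedSpace S] :
    ∃ (α : Type u) (_ : Preorder α) (_ : IsDirected α (fun a b => a ≤ b)) (_ : Nonempty α)
      (D : αᵒᵖ ⥤ Over S) (π : (Functor.const αᵒᵖ).obj (Over.mk f) ⟶ D),
      Nonempty (IsLimit (Cone.mk (Over.mk f) π)) ∧
      (∀ i, IsFinite (D.obj i).hom ∧ LocallyOfFinitePresentation (D.obj i).hom) ∧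
      (∀ (i j : αᵒᵖ) (a : i ⟶ j), IsClosedImmersion (D.map a).left) ∧
      (∀ i, IsClosedImmersion (π.app i).left) := by
  have : CompactSpace X := QuasiCompact.compactSpace_of_compactSpace f
  have : QuasiSeparatedSpace X := quasiSeparatedSpace_of_quasiSeparated f
  obtain ⟨α, _, _, _, D, π, ⟨hl⟩, hobj, hmap, hπ⟩ := exists_fp_closed_limit f
  have : ∀ (i j : αᵒᵖ) (a : i ⟶ j), IsFinite (D.map a).left := fun i j a => have := hmap i j a; inferInstance
  have : ∀ i, CompactSpace (D.obj i).left := fun i => (hobj i).2.2.2.1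
  have : ∀ i, QuasiSeparatedSpace (D.obj i).left := fun i => (hobj i).2.2.2.2
  have : ∀ i, LocallyOfFiniteType (D.obj i).hom := fun i => have := (hobj i).1; inferInstance
  have : IsIntegralHom (Cone.mk (Over.mk f) π).pt.hom := inferInstanceAs (IsIntegralHom f)
  obtain ⟨i₀, hi₀⟩ := S2154 S D _ hl
  let β := {a : α // i₀.unop ≤ a}
  have : IsDirected β (fun a b => a ≤ b) := ⟨fun a b => by
    obtain ⟨c, hac, hbc⟩ := directed_of (· ≤ ·) a.1 b.1
    exact ⟨⟨c, a.2.trans hac⟩, hac, hbc⟩⟩
  have : Nonempty β := ⟨⟨i₀.unop, le_rfl⟩⟩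
  let F : βᵒᵖ ⥤ αᵒᵖ := (Monotone.functor (f := (Subtype.val : β → α)) fun _ _ h => h).op
  have : F.Initial := by
    refine Functor.initial_of_exists_of_isCofiltered _ (fun a => ?_) (fun {a b} s s' => ?_)
    · obtain ⟨c, hac, hbc⟩ := directed_of (· ≤ ·) a.unop i₀.unop
      exact ⟨op ⟨c, hbc⟩, ⟨(homOfLE hac).op⟩⟩
    · exact ⟨b, 𝟙 _, by rw [Subsingleton.elim s s']⟩
  refine ⟨β, inferInstance, inferInstance, inferInstance, F ⋙ D, ((Cone.mk _ π).whisker F).π,
    ⟨(Functor.Initial.isLimitWhiskerEquiv F _).symm hl⟩, fun i => ⟨?_, (hobj _).1⟩,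
    fun i j a => hmap _ _ _, fun i => hπ _⟩
  exact hi₀ _ (homOfLE i.unop.2).op

theorem S7381 {X S : Scheme.{u}} (f : X ⟶ S) [IsFinite f]
    [CompactSpace S] [QuasiSeparatedSpace S] :
    ∃ (I : Type u) (_ : Preorder I) (_ : IsDirected I (fun a b => a ≤ b)) (_ : Nonempty I)
      (D : Iᵒᵖ ⥤ Over S) (c : Limits.Cone D) (_ : Limits.IsLimit c),
      (∀ i, IsFinite (D.obj i).hom ∧ LocallyOfFinitePresentation (D.obj i).hom) ∧
      (∀ (i j : Iᵒᵖ) (a : i ⟶ j), IsClosedImmersion (D.map a).left) ∧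
      Nonempty (c.pt ≅ Over.mk f) := by
  obtain ⟨α, _, _, _, D, π, ⟨hl⟩, h1, h2, -⟩ := exists_finite_fp_limit f
  exact ⟨α, inferInstance, inferInstance, inferInstance, D, Cone.mk _ π, hl, h1, h2, ⟨Iso.refl _⟩⟩

theorem S7396 {X S : Scheme.{u}} (f : X ⟶ S) [IsFinite f]
    [CompactSpace S] [QuasiSeparatedSpace S] :
    ∃ (X' : Scheme.{u}) (f' : X' ⟶ S) (j : X ⟶ X'), IsFinite f' ∧ LocallyOfFinitePresentation f' ∧
      IsClosedImmersion j ∧ j ≫ f' = f := by
  obtain ⟨α, _, _, _, D, π, -, h1, -, h3⟩ := exists_finite_fp_limit f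
  obtain ⟨i⟩ := IsCofiltered.nonempty (C := αᵒᵖ)
  exact ⟨(D.obj i).left, (D.obj i).hom, (π.app i).left, (h1 i).1, (h1 i).2, h3 i, Over.w (π.app i)⟩

/-- Morphisms over the base from a limit into a scheme of finite presentation come from a stage. -/
theorem exists_factor_stage {I : Type u} [SmallCategory I] [IsCofiltered I] {S : Scheme.{u}} {D : I ⥤ Over S}
    {c : Cone D} (hc : IsLimit c) (hmap : ∀ (i j : I) (a : i ⟶ j), IsAffineHom (D.map a).left)
    (hcq : ∀ i, CompactSpace (D.obj i).left) (hqs : ∀ i, QuasiSeparatedSpace (D.obj i).left)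
    {Y : Over S} (hY : LocallyOfFinitePresentation Y.hom) (a : c.pt ⟶ Y) :
    ∃ (i : I) (g : D.obj i ⟶ Y), c.π.app i ≫ g = a := by
  have : IsConnected I := IsCofiltered.isConnected _
  let E := D ⋙ Over.forget S
  have : ∀ (i j : I) (a : i ⟶ j), IsAffineHom (E.map a) := hmap
  have : ∀ i, CompactSpace (E.obj i) := hcq
  have : ∀ i, QuasiSeparatedSpace (E.obj i) := hqs
  obtain ⟨i, g, hg, hg'⟩ := Scheme.exists_π_app_comp_eq_of_locallyOfFinitePresentation E
    { app := fun i => (D.obj i).hom, naturality := fun i j a => by simp [E] } Y.hom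
    ((Over.forget S).mapCone c) (isLimitOfPreserves _ hc) a.left (by ext j : 2; simp [E])
  exact ⟨i, Over.homMk g hg', Over.OverMorphism.ext hg⟩

/-- A morphism from a finite scheme to a scheme of finite presentation factors through a finite scheme of
finite presentation. -/
theorem exists_finite_fp_factor {Z S : Scheme.{u}} (g : Z ⟶ S) [IsFinite g] [CompactSpace S]
    [QuasiSeparatedSpace S] {Y : Over S} (hY : LocallyOfFinitePresentation Y.hom) (b : Over.mk g ⟶ Y) :
    ∃ (W : Over S) (a : Over.mk g ⟶ W) (m : W ⟶ Y),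
      IsFinite W.hom ∧ LocallyOfFinitePresentation W.hom ∧ a ≫ m = b := by
  obtain ⟨α, _, _, _, D, π, ⟨hl⟩, h1, h2, -⟩ := exists_finite_fp_limit g
  obtain ⟨i, m, hm⟩ := exists_factor_stage hl (fun i j a => have := h2 i j a; inferInstance)
    (fun i => have := (h1 i).1; QuasiCompact.compactSpace_of_compactSpace (D.obj i).hom)
    (fun i => have := (h1 i).1; quasiSeparatedSpace_of_quasiSeparated (D.obj i).hom) hY b
  exact ⟨D.obj i, π.app i, m, (h1 i).1, (h1 i).2, hm⟩

/-- An integral scheme over an affine stage of finite presentation factors through a finite scheme of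
finite presentation. -/
theorem exists_finite_model {X S : Scheme.{u}} (f : X ⟶ S) [IsIntegralHom f] [CompactSpace S]
    [QuasiSeparatedSpace S] (Y : Over S) [IsAffineHom Y.hom] [LocallyOfFinitePresentation Y.hom]
    (a : Over.mk f ⟶ Y) :
    ∃ (W : Over S) (h : Over.mk f ⟶ W) (m : W ⟶ Y),
      IsFinite W.hom ∧ LocallyOfFinitePresentation W.hom ∧ h ≫ m = a := by
  let q : X ⟶ Y.left := a.left
  let g : Y.left ⟶ S := Y.hom
  have hqg : q ≫ g = f := Over.w a
  have : IsAffineHom g := ‹IsAffineHom Y.hom›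
  have : LocallyOfFinitePresentation g := ‹LocallyOfFinitePresentation Y.hom›
  have : IsIntegralHom (q ≫ g) := by rw [hqg]; infer_instance
  have : IsIntegralHom q := IsIntegralHom.of_comp q g
  have hqc : QuasiCompact q := inferInstance
  let z : q.image ⟶ S := q.imageι ≫ g
  have e : q.toImage ≫ z = f := by simp only [z, Scheme.Hom.toImage_imageι_assoc, hqg]
  have : IsIntegralHom (q.toImage ≫ z) := by rw [e]; infer_instance
  have : IsAffineHom z := inferInstance
  have : LocallyOfFiniteType z := inferInstance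
  have : IsFinite z := by
    refine (IsFinite.iff_isIntegralHom_and_locallyOfFiniteType _).mpr ⟨⟨fun U hU => ?_⟩, inferInstance⟩
    intro y
    have hinj : Function.Injective (q.toImage.app (z ⁻¹ᵁ U)) :=
      q.toImage_app_injective ⟨g ⁻¹ᵁ U, hU.preimage g⟩
    obtain ⟨P, hP, hP'⟩ := (q.toImage ≫ z).isIntegral_app U hU (q.toImage.app (z ⁻¹ᵁ U) y)
    refine ⟨P, hP, hinj ?_⟩
    rw [map_zero]
    exact (Polynomial.hom_eval₂ P (z.app U).hom (q.toImage.app (z ⁻¹ᵁ U)).hom y).trans hP'
  obtain ⟨W, b, m, hW1, hW2, hbm⟩ :=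
    exists_finite_fp_factor z (Y := Y) ‹LocallyOfFinitePresentation Y.hom› (Over.homMk q.imageι rfl)
  let h : Over.mk f ⟶ Over.mk z := Over.homMk q.toImage e
  refine ⟨W, h ≫ b, m, hW1, hW2, ?_⟩
  rw [Category.assoc, hbm]
  exact Over.OverMorphism.ext q.toImage_imageι

/-- The equalizer of two maps out of a finite scheme of finite presentation. -/
theorem exists_equalizer_finite {S : Scheme.{u}} {P W Y : Over S} (hW : IsFinite W.hom)
    (hW' : LocallyOfFinitePresentation W.hom) (hsep : IsSeparated Y.hom) (hlft : LocallyOfFiniteType Y.hom)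
    (h : P ⟶ W) (a b : W ⟶ Y) (hab : h ≫ a = h ≫ b) :
    ∃ (Q : Over S) (x : P ⟶ Q) (e : Q ⟶ W),
      IsFinite Q.hom ∧ LocallyOfFinitePresentation Q.hom ∧ x ≫ e = h ∧ e ≫ a = e ≫ b := by
  let y : Y.left ⟶ S := Y.hom
  have : IsSeparated y := hsep
  have : LocallyOfFiniteType y := hlft
  let ab : W.left ⟶ pullback y y := pullback.lift a.left b.left (by rw [Over.w a, Over.w b])
  let δ : Y.left ⟶ pullback y y := pullback.diagonal y
  have : IsClosedImmersion δ := inferInstanceAs (IsClosedImmersion (pullback.diagonal y))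
  have : LocallyOfFinitePresentation δ := SchBasics.locallyOfFinitePresentation_diagonal y
  let e : pullback δ ab ⟶ W.left := pullback.snd δ ab
  have : IsClosedImmersion e := MorphismProperty.pullback_snd _ _ ‹_›
  have : LocallyOfFinitePresentation e := MorphismProperty.pullback_snd _ _ ‹_›
  let Q : Over S := Over.mk (e ≫ W.hom)
  let eQ : Q ⟶ W := Over.homMk e rfl
  have c1 := congrArg (· ≫ pullback.fst y y) (pullback.condition (f := δ) (g := ab))
  have c2 := congrArg (· ≫ pullback.snd y y) (pullback.condition (f := δ) (g := ab))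
  simp [δ, ab, pullback.diagonal] at c1 c2
  let xQ : P.left ⟶ pullback δ ab := pullback.lift (h.left ≫ a.left) h.left (by
    apply pullback.hom_ext
    · simp [δ, ab, pullback.diagonal]
    · simpa [δ, ab, pullback.diagonal] using congrArg (fun v => v.left) hab)
  let x : P ⟶ Q := Over.homMk xQ (by
    show xQ ≫ e ≫ W.hom = P.hom
    rw [pullback.lift_snd_assoc]; exact Over.w h)
  exact ⟨Q, x, eQ, inferInstanceAs (IsFinite (e ≫ W.hom)),
    inferInstanceAs (LocallyOfFinitePresentation (e ≫ W.hom)), Over.OverMorphism.ext (pullback.lift_snd _ _ _),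
    Over.OverMorphism.ext (c1.symm.trans c2)⟩

section Models

variable {I : Type u} [SmallCategory I] {S : Scheme.{u}} {D : I ⥤ Over S} {P : Over S}
  (π : (Functor.const I).obj P ⟶ D) {W : I → Over S} (h : ∀ k, P ⟶ W k) (m : ∀ k, W k ⟶ D.obj k)

/-- The category of models. -/
abbrev ModelCat : Type u := InducedCategory (Under P) (fun k => Under.mk (h k))

/-- The diagram of models. -/
abbrev modelDiagram : ModelCat h ⥤ Over S := inducedFunctor _ ⋙ Under.forget P

/-- The cone of models. -/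
def modelCone : (Functor.const (ModelCat h)).obj P ⟶ modelDiagram h where
  app k := h k
  naturality k k' a := by
    show 𝟙 _ ≫ h k' = h k ≫ a.hom.right
    rw [Category.id_comp]; exact (Under.w a.hom).symm

variable {π h m}

theorem nonempty_isLimit_models [IsCofiltered (ModelCat h)] (hl : IsLimit (Cone.mk P π))
    (hm : ∀ k, h k ≫ m k = π.app k)
    (eqz : ∀ (k : ModelCat h) (i : I) (a b : W k ⟶ D.obj i), h k ≫ a = h k ≫ b →
      ∃ (k' : ModelCat h) (u : k' ⟶ k), u.hom.right ≫ a = u.hom.right ≫ b)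
    (fac : ∀ k, ∃ (j : I) (g : D.obj j ⟶ W k), π.app j ≫ g = h k) :
    Nonempty (IsLimit (Cone.mk P (modelCone h))) := by
  have hcompat : ∀ (s : Cone (modelDiagram h)) {k k' : I} (a : k ⟶ k'),
      (s.π.app k ≫ m k) ≫ D.map a = s.π.app k' ≫ m k' := by
    intro s k k' a
    obtain ⟨o, u, v, -⟩ := IsCofilteredOrEmpty.cone_objs (C := ModelCat h) k k'
    have hu : h o ≫ u.hom.right = h k := Under.w u.hom
    have hv : h o ≫ v.hom.right = h k' := Under.w v.hom
    obtain ⟨o', u', hu'⟩ := eqz o k' (u.hom.right ≫ m k ≫ D.map a) (v.hom.right ≫ m k')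
      (by rw [reassoc_of% hu, reassoc_of% hv, hm, reassoc_of% (hm k)]; exact const_w' π a)
    have eu : s.π.app k = s.π.app o' ≫ u'.hom.right ≫ u.hom.right := (s.w (u' ≫ u)).symm
    have ev : s.π.app k' = s.π.app o' ≫ u'.hom.right ≫ v.hom.right := (s.w (u' ≫ v)).symm
    rw [eu, ev]
    simp only [Category.assoc]
    exact congrArg (s.π.app o' ≫ ·) hu'
  let lift' : ∀ s : Cone (modelDiagram h), s.pt ⟶ P := fun s => hl.lift (Cone.mk s.pt
    { app := fun k => s.π.app k ≫ m k
      naturality := fun k k' a => (Category.id_comp _).trans (hcompat s a).symm })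
  have hlift : ∀ s k, lift' s ≫ π.app k = s.π.app k ≫ m k := fun s k => hl.fac _ k
  refine ⟨{ lift := lift', fac := fun s k => ?_, uniq := fun s n hn => hl.hom_ext fun k => ?_ }⟩
  · obtain ⟨j, g, hg⟩ := fac k
    let w : (show ModelCat h from j) ⟶ k := InducedCategory.homMk (Under.homMk (m j ≫ g) (by
      show h j ≫ m j ≫ g = h k
      rw [reassoc_of% (hm j)]; exact hg))
    have ew : s.π.app k = s.π.app j ≫ m j ≫ g := (s.w w).symm
    show lift' s ≫ h k = s.π.app k
    rw [ew, ← hg, ← Category.assoc, hlift, Category.assoc]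
  · show n ≫ π.app k = lift' s ≫ π.app k
    rw [hlift, ← hm k, ← Category.assoc]
    exact congrArg (· ≫ m k) (hn k)

end Models

/-- An integral morphism is a limit of finite morphisms of finite presentation. -/
theorem exists_integral_limit {X S : Scheme.{u}} (f : X ⟶ S) [IsIntegralHom f] [CompactSpace S]
    [QuasiSeparatedSpace S] :
    ∃ (α : Type u) (_ : Preorder α) (_ : IsDirected α (fun a b => a ≤ b)) (_ : Nonempty α)
      (D : αᵒᵖ ⥤ Over S) (π : (Functor.const αᵒᵖ).obj (Over.mk f) ⟶ D),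
      Nonempty (IsLimit (Cone.mk (Over.mk f) π)) ∧
      (∀ i, IsFinite (D.obj i).hom ∧ LocallyOfFinitePresentation (D.obj i).hom) := by
  have : CompactSpace X := QuasiCompact.compactSpace_of_compactSpace f
  have : QuasiSeparatedSpace X := quasiSeparatedSpace_of_quasiSeparated f
  obtain ⟨α, _, _, _, D₀, π₀, ⟨hl₀⟩, hobj, hmap⟩ := exists_fp_limit f
  have : IsConnected αᵒᵖ := IsCofiltered.isConnected _
  obtain ⟨i₀⟩ := IsCofiltered.nonempty (C := αᵒᵖ)
  let E := D₀ ⋙ Over.forget S
  let t : E ⟶ (Functor.const αᵒᵖ).obj S :=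
    { app := fun i => (D₀.obj i).hom, naturality := fun i j a => by simp [E] }
  have : ∀ (i j : αᵒᵖ) (a : i ⟶ j), IsAffineHom (E.map a) := hmap
  have : ∀ i, CompactSpace (E.obj i) := fun i => (hobj i).2.2.2.1
  have : ∀ i, QuasiSeparatedSpace (E.obj i) := fun i => (hobj i).2.2.2.2
  let c := (Over.forget S).mapCone (Cone.mk (Over.mk f) π₀)
  have e₀ : c.π.app i₀ ≫ t.app i₀ = f := Over.w (π₀.app i₀)
  have : IsAffineHom (c.π.app i₀ ≫ t.app i₀) := by rw [e₀]; infer_instance
  obtain ⟨i₁, h₁⟩ := Lim60.exists_isAffineHom_structureMap S E t c (isLimitOfPreserves _ hl₀) i₀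
  let D : Over i₁ ⥤ Over S := Over.forget i₁ ⋙ D₀
  let π : (Functor.const (Over i₁)).obj (Over.mk f) ⟶ D :=
    ((Cone.mk (Over.mk f) π₀).whisker (Over.forget i₁)).π
  have hl : IsLimit (Cone.mk (Over.mk f) π) := (Functor.Initial.isLimitWhiskerEquiv (Over.forget i₁) _).symm hl₀
  have haff : ∀ k, IsAffineHom (D.obj k).hom := fun k => h₁ k.left k.hom
  have hlfp : ∀ k, LocallyOfFinitePresentation (D.obj k).hom := fun k => (hobj k.left).1
  have hfac : ∀ (Y : Over S) (_ : LocallyOfFinitePresentation Y.hom) (a : Over.mk f ⟶ Y),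
      ∃ (j : Over i₁) (g : D.obj j ⟶ Y), π.app j ≫ g = a := fun Y hY a =>
    exists_factor_stage hl (fun i j a => hmap _ _ _) (fun i => (hobj _).2.2.2.1) (fun i => (hobj _).2.2.2.2) hY a
  have hmodel := fun k : Over i₁ =>
    have := haff k
    have := hlfp k
    exists_finite_model f (D.obj k) (π.app k)
  choose W h m hWfin hWfp hm using hmodel
  -- every finite scheme of finite presentation under `X` is dominated
  have dom : ∀ (Y : Over S) (_ : LocallyOfFinitePresentation Y.hom) (a : Over.mk f ⟶ Y),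
      ∃ (k : Over i₁) (u : W k ⟶ Y), h k ≫ u = a := by
    intro Y hY a
    obtain ⟨j, g, hg⟩ := hfac Y hY a
    exact ⟨j, m j ≫ g, by rw [reassoc_of% (hm j)]; exact hg⟩
  have eqz : ∀ (k : ModelCat h) (Y : Over S) (_ : IsSeparated Y.hom) (_ : LocallyOfFiniteType Y.hom)
      (a b : W k ⟶ Y), h k ≫ a = h k ≫ b →
      ∃ (k' : ModelCat h) (u : k' ⟶ k), u.hom.right ≫ a = u.hom.right ≫ b := by
    intro k Y h1 h2 a b hab
    obtain ⟨Q, x, e, -, hQ, hxe, he⟩ := exists_equalizer_finite (hWfin k) (hWfp k) h1 h2 (h k) a b hab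
    obtain ⟨k', u, hu⟩ := dom Q hQ x
    refine ⟨k', InducedCategory.homMk (Under.homMk (u ≫ e) (by
      show h k' ≫ u ≫ e = h k
      rw [reassoc_of% hu, hxe])), ?_⟩
    show (u ≫ e) ≫ a = (u ≫ e) ≫ b
    rw [Category.assoc, Category.assoc, he]
  have prd : ∀ k k' : ModelCat h, ∃ (o : ModelCat h) (_ : o ⟶ k) (_ : o ⟶ k'), True := by
    intro k k'
    let w₁ := (W k).hom
    let w₂ := (W k').hom
    have : IsFinite w₁ := hWfin k
    have : LocallyOfFinitePresentation w₁ := hWfp k
    have : LocallyOfFinitePresentation w₂ := hWfp k'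
    let P : Over S := Over.mk (pullback.snd w₁ w₂ ≫ w₂)
    let p₁ : P ⟶ W k := Over.homMk (pullback.fst w₁ w₂) pullback.condition
    let p₂ : P ⟶ W k' := Over.homMk (pullback.snd w₁ w₂) rfl
    let aP : Over.mk f ⟶ P := Over.homMk (pullback.lift (h k).left (h k').left
        ((Over.w (h k)).trans (Over.w (h k')).symm)) (by
      show pullback.lift (h k).left (h k').left _ ≫ pullback.snd w₁ w₂ ≫ w₂ = f
      rw [pullback.lift_snd_assoc]; exact Over.w (h k'))
    obtain ⟨o, u, hu⟩ := dom P (inferInstanceAs (LocallyOfFinitePresentation (pullback.snd w₁ w₂ ≫ w₂))) aP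
    have e1 : aP ≫ p₁ = h k := Over.OverMorphism.ext (pullback.lift_fst _ _ _)
    have e2 : aP ≫ p₂ = h k' := Over.OverMorphism.ext (pullback.lift_snd _ _ _)
    exact ⟨o, InducedCategory.homMk (Under.homMk (u ≫ p₁) (by show h o ≫ u ≫ p₁ = h k; rw [reassoc_of% hu, e1])),
      InducedCategory.homMk (Under.homMk (u ≫ p₂) (by show h o ≫ u ≫ p₂ = h k'; rw [reassoc_of% hu, e2])), trivial⟩
  have : Nonempty (ModelCat h) := ⟨Over.mk (𝟙 i₁)⟩
  have : IsCofiltered (ModelCat h) :=
    { cone_objs := prd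
      cone_maps := fun {k k'} a b => by
        have := hWfin k'
        obtain ⟨o, u, hu⟩ := eqz k (W k') inferInstance inferInstance a.hom.right b.hom.right
          ((Under.w a.hom).trans (Under.w b.hom).symm)
        exact ⟨o, u, InducedCategory.hom_ext (Under.UnderMorphism.ext hu)⟩ }
  obtain ⟨hlim⟩ := nonempty_isLimit_models hl hm (fun k i a b hab => by
      have := haff i
      have := hlfp i
      exact eqz k (D.obj i) (IsSeparated.of_isAffineHom (f := (D.obj i).hom)) inferInstance a b hab)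
    (fun k => hfac (W k) (hWfp k) (h k))
  obtain ⟨β, _, _, _, G, _⟩ := exists_directed_initial (ModelCat h)
  exact ⟨β, inferInstance, inferInstance, inferInstance, G ⋙ modelDiagram h, ((Cone.mk _ (modelCone h)).whisker G).π,
    ⟨(Functor.Initial.isLimitWhiskerEquiv G _).symm hlim⟩, fun i => ⟨hWfin _, hWfp _⟩⟩

theorem S7382 {X S : Scheme.{u}} (f : X ⟶ S) [IsIntegralHom f]
    [CompactSpace S] [QuasiSeparatedSpace S] :
    ∃ (I : Type u) (_ : Preorder I) (_ : IsDirected I (fun a b => a ≤ b)) (_ : Nonempty I)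
      (D : Iᵒᵖ ⥤ Over S) (c : Limits.Cone D) (_ : Limits.IsLimit c),
      (∀ i, IsFinite (D.obj i).hom ∧ LocallyOfFinitePresentation (D.obj i).hom) ∧
      Nonempty (c.pt ≅ Over.mk f) := by
  obtain ⟨α, _, _, _, D, π, ⟨hl⟩, h⟩ := exists_integral_limit f
  exact ⟨α, inferInstance, inferInstance, inferInstance, D, Cone.mk _ π, hl, h, ⟨Iso.refl _⟩⟩

end Groth.Agent.Approx60
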