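import Groth.Agent.Approx60.Chevalley
import Groth.Agent.Approx60.FiniteLimit
import Groth.Agent.Lim60.Props
import Groth.Agent.LimDesc62.Points

set_option autoImplicit false
set_option backward.isDefEq.respectTransparency false
set_option backward.defeqAttrib.useBackward true

/-! A scheme receiving a universally closed surjection from an affine scheme is affine. -/

universe u v

open CategoryTheory CategoryTheory.Limits AlgebraicGeometry Opposite TopologicalSpace
open Groth.Agent.LimDesc62

namespace Groth.Agent.Approx60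

theorem isSeparated_toZ_of_surjective_universallyClosed {X S : Scheme.{u}} (f : X ⟶ S) [IsSeparated (toZ X)]
    [Surjective f] [UniversallyClosed f] : IsSeparated (toZ S) := by
  let δX : X ⟶ pullback (toZ X) (toZ X) := pullback.diagonal (toZ X)
  let δS : S ⟶ pullback (toZ S) (toZ S) := pullback.diagonal (toZ S)
  let M : pullback (toZ X) (toZ X) ⟶ pullback (toZ S) (toZ S) :=
    pullback.map (toZ X) (toZ X) (toZ S) (toZ S) f f (𝟙 _) (specULiftZIsTerminal.hom_ext _ _)
      (specULiftZIsTerminal.hom_ext _ _)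
  have eZ : toZ X = f ≫ toZ S := specULiftZIsTerminal.hom_ext _ _
  have : UniversallyClosed M :=
    MorphismProperty.pullback_map (P := @UniversallyClosed) (i₁ := f) (i₂ := f)
      inferInstance inferInstance eZ eZ
  have e : δX ≫ M = f ≫ δS := by
    apply pullback.hom_ext <;> simp [δX, δS, M, pullback.map, pullback.diagonal]
  have : IsClosedImmersion δX := inferInstanceAs (IsClosedImmersion (pullback.diagonal (toZ X)))
  have hr : Set.range δS = M '' Set.range δX := by
    rw [← f.surjective.range_comp δS, ← Set.range_comp]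
    exact congrArg (fun g : X ⟶ pullback (toZ S) (toZ S) => Set.range g) e.symm
  have hc : IsClosed (Set.range δS) := by
    rw [hr]; exact M.isClosedMap _ δX.isClosedEmbedding.isClosed_range
  exact ⟨.of_isPreimmersion δS hc⟩

/-- The limit form: a finitely presented finite surjection onto a qcqs scheme from an affine scheme. -/
theorem isAffine_of_fp_finite_surjective {X S : Scheme.{u}} (g : X ⟶ S) [IsFinite g] [Surjective g]
    [LocallyOfFinitePresentation g] [IsAffine X] [CompactSpace S] [QuasiSeparatedSpace S] : IsAffine S := by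
  obtain ⟨J, _, _, D, π, hD, ⟨hl⟩⟩ := exists_approximation S
  have : ∀ (a b : J) (m : a ⟶ b), IsAffineHom (D.map m) := hD.aff
  have : ∀ a, CompactSpace (D.obj a) := hD.compact
  have : ∀ a, QuasiSeparatedSpace (D.obj a) := fun a =>
    have := hD.lft a; quasiSeparatedSpace_of_lft_toZ (D.obj a)
  obtain ⟨a, Xa, ga, q, hga, hgqc, hgqs, hsq⟩ := S0591 D (Cone.mk S π) hl X g
  have : CompactSpace Xa := QuasiCompact.compactSpace_of_compactSpace ga
  have : QuasiSeparatedSpace Xa := quasiSeparatedSpace_of_quasiSeparated ga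
  have := respectsIso_lft.{u}
  have := respectsIso_lfp.{u}
  have hfin : IsFinite (pullback.snd ga (π.app a)) :=
    (prop_iff_of_isPullback hsq).mp ‹IsFinite g›
  have hsur : Surjective (pullback.snd ga (π.app a)) :=
    (prop_iff_of_isPullback hsq).mp ‹Surjective g›
  have hlft : LocallyOfFiniteType ga := inferInstance
  obtain ⟨j₁, φ₁, h₁⟩ := Lim60.descProp_isFinite.desc D (Cone.mk S π) hl a ga hlft hfin
  obtain ⟨j₂, φ₂, h₂⟩ := descProp_surjective.desc D (Cone.mk S π) hl a ga hga hsur
  obtain ⟨n, ψ, χ, hχ⟩ := DescProp.exists_common (J := Bool) (i := a) (j := fun b => cond b j₁ j₂)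
    (fun b => match b with | true => φ₁ | false => φ₂)
  have hn1 : IsFinite (pullback.snd ga (D.map ψ)) :=
    hχ true ▸ DescProp.snd_map (P := @IsFinite) D ga φ₁ (χ true) h₁
  have hn2 : Surjective (pullback.snd ga (D.map ψ)) :=
    hχ false ▸ DescProp.snd_map (P := @Surjective) D ga φ₂ (χ false) h₂
  have hlim := LimTop61.isLimitBcCone D (Cone.mk S π) hl ga q g hsq
  let qc := LimTop61.bcCone D (Cone.mk S π) ga q g hsq.w
  have : IsAffine qc.pt := inferInstanceAs (IsAffine X)
  have : ∀ k : Over a, QuasiSeparatedSpace ((LimTop61.bcDiagram D ga).obj k) := fun k =>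
    have : IsAffineHom (pullback.fst ga (D.map k.hom)) :=
      MorphismProperty.pullback_fst _ _ inferInstance
    quasiSeparatedSpace_of_quasiSeparated (pullback.fst ga (D.map k.hom))
  obtain ⟨k, hk⟩ := Scheme.exists_isAffine_of_isLimit (LimTop61.bcDiagram D ga) qc hlim
  obtain ⟨m, u, v, -⟩ := IsCofilteredOrEmpty.cone_objs (Over.mk ψ) k
  have : IsAffine ((LimTop61.bcDiagram D ga).obj m) := isAffine_of_isAffineHom ((LimTop61.bcDiagram D ga).map v)
  have : IsAffine (pullback ga (D.map m.hom)) := ‹IsAffine ((LimTop61.bcDiagram D ga).obj m)›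
  have e : u.left ≫ ψ = m.hom := Over.w u
  have : IsFinite (pullback.snd ga (D.map m.hom)) :=
    e ▸ DescProp.snd_map (P := @IsFinite) D ga ψ u.left hn1
  have : Surjective (pullback.snd ga (D.map m.hom)) :=
    e ▸ DescProp.snd_map (P := @Surjective) D ga ψ u.left hn2
  have := hD.lft m.left
  have : IsLocallyNoetherian (D.obj m.left) := isLocallyNoetherian_of_lft_toZ _
  have : AlgebraicGeometry.IsNoetherian (D.obj m.left) := { }
  have : IsAffine (D.obj m.left) := isAffine_of_finite_surjective (pullback.snd ga (D.map m.hom))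
  have : IsAffineHom (π.app m.left) := isAffineHom_π_app D (Cone.mk S π) hl m.left
  exact isAffine_of_isAffineHom (π.app m.left)

theorem S0593 (X S : Scheme.{u}) (f : X ⟶ S)
    [IsAffine X] [Surjective f] [UniversallyClosed f] : IsAffine S := by
  have := isSeparated_toZ_of_surjective_universallyClosed f
  have : CompactSpace S := ⟨f.surjective.range_eq ▸ isCompact_range f.continuous⟩
  have : QuasiSeparated (toZ S) := inferInstance
  have : QuasiSeparatedSpace S := (quasiSeparated_iff_quasiSeparatedSpace (toZ S)).mp inferInstance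
  have : IsAffineHom (f ≫ toZ S) := by
    rw [show f ≫ toZ S = toZ X from specULiftZIsTerminal.hom_ext _ _]; infer_instance
  have : IsAffineHom f := MorphismProperty.of_postcomp @IsAffineHom f (toZ S) ‹IsSeparated (toZ S)› ‹_›
  have : IsIntegralHom f := IsIntegralHom.iff_universallyClosed_and_isAffineHom.mpr ⟨‹_›, ‹_›⟩
  obtain ⟨α, _, _, _, D, π, ⟨hl⟩, hobj⟩ := exists_integral_limit f
  have : IsConnected αᵒᵖ := IsCofiltered.isConnected _
  let E := D ⋙ Over.forget S
  let c := (Over.forget S).mapCone (Cone.mk (Over.mk f) π)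
  have hc : IsLimit c := isLimitOfPreserves _ hl
  have haff : ∀ (i j : αᵒᵖ) (m : i ⟶ j), IsAffineHom (E.map m) := fun i j m => by
    have := (hobj i).1
    have := (hobj j).1
    have : IsFinite ((D.map m).left ≫ (D.obj j).hom) := by rw [Over.w]; infer_instance
    have : IsFinite (D.map m).left := IsFinite.of_comp (D.map m).left (D.obj j).hom
    exact inferInstanceAs (IsAffineHom (D.map m).left)
  have : ∀ i, CompactSpace (E.obj i) := fun i =>
    have := (hobj i).1; QuasiCompact.compactSpace_of_compactSpace (D.obj i).hom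
  have : ∀ i, QuasiSeparatedSpace (E.obj i) := fun i =>
    have := (hobj i).1; quasiSeparatedSpace_of_quasiSeparated (D.obj i).hom
  have : IsAffine c.pt := inferInstanceAs (IsAffine X)
  obtain ⟨i, hi⟩ := Scheme.exists_isAffine_of_isLimit E c hc
  have : IsAffine (D.obj i).left := hi
  have := (hobj i).1
  have := (hobj i).2
  have : Surjective (D.obj i).hom := ⟨fun s => by
    obtain ⟨x, hx⟩ := f.surjective s
    refine ⟨(π.app i).left x, ?_⟩
    rw [← Scheme.Hom.comp_apply, Over.w (π.app i)]
    exact hx⟩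
  exact isAffine_of_fp_finite_surjective (D.obj i).hom

theorem exists_affine_integral_cover {X : Scheme.{u}} : ∀ (n : ℕ) (Z : Fin n → Scheme.{u}) (ι : ∀ k, Z k ⟶ X),
    (∀ k, IsClosedImmersion (ι k)) → (∀ k, IsAffine (Z k)) →
    ∃ (Y : Scheme.{u}) (g : Y ⟶ X), IsAffine Y ∧ IsIntegralHom g ∧ ∀ k z, ∃ y, g y = ι k z := by
  intro n
  induction n with
  | zero =>
    intro Z ι _ _
    have : IsClosedImmersion (Scheme.emptyTo X) := inferInstance
    exact ⟨∅, Scheme.emptyTo X, inferInstance, inferInstance, fun k => k.elim0⟩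
  | succ n ih =>
    intro Z ι hι hZ
    obtain ⟨Y, g, hY, hg, hcov⟩ := ih (fun k => Z k.succ) (fun k => ι k.succ) (fun k => hι _) (fun k => hZ _)
    have := hι 0
    have := hZ 0
    refine ⟨Z 0 ⨿ Y, coprod.desc (ι 0) g, inferInstance, inferInstance, fun k z => ?_⟩
    induction k using Fin.cases with
    | zero =>
      refine ⟨(coprod.inl : Z 0 ⟶ Z 0 ⨿ Y) z, ?_⟩
      rw [← Scheme.Hom.comp_apply, coprod.inl_desc]
    | succ k =>
      obtain ⟨y, hy⟩ := hcov k z
      refine ⟨(coprod.inr : Y ⟶ Z 0 ⨿ Y) y, ?_⟩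
      rw [← Scheme.Hom.comp_apply, coprod.inr_desc]
      exact hy

theorem S9203 (X : Scheme.{u}) {κ : Type v} [Finite κ]
    (Z : κ → Scheme.{u}) (ι : ∀ k, Z k ⟶ X) [∀ k, IsClosedImmersion (ι k)] [∀ k, IsAffine (Z k)]
    (hcov : ∀ x : X, ∃ k, x ∈ Set.range (ι k).base) : IsAffine X := by
  obtain ⟨n, ⟨e⟩⟩ := Finite.exists_equiv_fin κ
  obtain ⟨Y, g, hY, hg, hgy⟩ := exists_affine_integral_cover n (fun l => Z (e.symm l)) (fun l => ι (e.symm l))
    (fun l => inferInstance) (fun l => inferInstance)
  have : Surjective g := ⟨fun x => by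
    obtain ⟨k, z, hz⟩ := hcov x
    have key : ∀ k', k' = k → ∃ z' : Z k', ι k' z' = x := by rintro _ rfl; exact ⟨z, hz⟩
    obtain ⟨z', hz'⟩ := key _ (e.symm_apply_apply k)
    obtain ⟨y, hy⟩ := hgy (e k) z'
    exact ⟨y, hy.trans hz'⟩⟩
  exact S0593 Y X g

end Groth.Agent.Approx60
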