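import Groth.Agent.QC70.DevissageAux
import Groth.Agent.QC70.ExtZero
import Groth.Agent.QC70.PushFinite
import Groth.Agent.Coh69.AffinePush
import Groth.Agent.Serre71.Cohom
import Mathlib.AlgebraicGeometry.Morphisms.Finite

set_option autoImplicit false
set_option backward.isDefEq.respectTransparency.types false

/-! Chevalley's theorem: a Noetherian scheme with a finite surjection from an affine scheme is affine. -/

noncomputable section

universe u

open CategoryTheory CategoryTheory.Limits AlgebraicGeometry TopologicalSpace Opposite CategoryTheory.Abelian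

namespace Groth.Agent.Approx60

open QC70

variable {S : Scheme.{u}}

/-- First cohomology vanishes. -/
def H1Zero (M : S.Modules) : Prop := Subsingleton (Coh69.HE (Coh.toAb M) 1 (⊤ : S.Opens))

lemma subsingleton_ext_of_retract {C : Type*} [Category C] [Abelian C] [HasExt.{u} C] {Z A B : C} {n : ℕ}
    (i : A ⟶ B) (r : B ⟶ A) (h : i ≫ r = 𝟙 A) [Subsingleton (Ext.{u} Z B n)] : Subsingleton (Ext.{u} Z A n) :=
  subsingleton_of_forall_eq 0 fun x => by
    rw [← Ext.comp_mk₀_id x, ← h, ← Crv77.ext_comp_comp,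
      Subsingleton.elim (x.comp (Ext.mk₀ i) (add_zero n)) 0, Ext.zero_comp]

lemma H1Zero.of_retract {M N : S.Modules} (i : M ⟶ N) (r : N ⟶ M) (hir : i ≫ r = 𝟙 M) (h : H1Zero N) :
    H1Zero M :=
  have : Subsingleton (Ext.{u} (CohCx.freeSheaf (Opens.grothendieckTopology S) (⊤ : S.Opens))
    ((Crv77.toAbF S).obj N) 1) := h
  subsingleton_ext_of_retract ((Crv77.toAbF S).map i) ((Crv77.toAbF S).map r)
    (((Crv77.toAbF S).map_comp i r).symm.trans ((congrArg _ hir).trans ((Crv77.toAbF S).map_id M)))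

lemma H1Zero.of_iso {M N : S.Modules} (e : M ≅ N) (h : H1Zero M) : H1Zero N :=
  H1Zero.of_retract e.inv e.hom e.inv_hom_id h

lemma H1Zero.of_isZero {M : S.Modules} (h : IsZero M) : H1Zero M := by
  have h0 : IsZero (Coh.toAb M) := (Crv77.toAbF S).map_isZero h
  refine subsingleton_of_forall_eq 0 fun x => ?_
  rw [← Ext.comp_mk₀_id x, h0.eq_of_src (𝟙 _) 0, Ext.mk₀_zero, Ext.comp_zero]

lemma H1Zero.ext {T : ShortComplex S.Modules} (hT : T.ShortExact) (h₁ : H1Zero T.X₁) (h₃ : H1Zero T.X₃) :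
    H1Zero T.X₂ := by
  have : Subsingleton (Ext.{u} (CohCx.freeSheaf (Opens.grothendieckTopology S) (⊤ : S.Opens)) (Crv77.abComplex T).X₁ 1) := h₁
  have : Subsingleton (Ext.{u} (CohCx.freeSheaf (Opens.grothendieckTopology S) (⊤ : S.Opens)) (Crv77.abComplex T).X₃ 1) := h₃
  exact Coh69.ext_subsingleton_X₂ (Crv77.abComplex_shortExact hT) _ 1

/-- Global sections are exact when the kernel has no first cohomology. -/
theorem exists_app_top_eq {T : ShortComplex S.Modules} (hT : T.ShortExact) (h₁ : H1Zero T.X₁) (t : Γ(T.X₃, ⊤)) :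
    ∃ s : Γ(T.X₂, ⊤), T.g.app ⊤ s = t := by
  have : Subsingleton (Coh69.HE (Crv77.abComplex T).X₁ 1 (⊤ : S.Opens)) := h₁
  exact Coh69.surjective_of_subsingleton_H1 (Crv77.abComplex_shortExact hT) (⊤ : S.Opens) t

lemma H1Zero.push {X : Scheme.{u}} [IsAffine X] (h : X ⟶ S) [IsAffineHom h] (M : X.Modules) [M.IsQuasicoherent] :
    H1Zero ((Scheme.Modules.pushforward h).obj M) := by
  obtain ⟨e⟩ := Coh69.nonempty_hh_push h M 1
  have := Coh69.qcoh_subsingleton_HH M 0
  exact ((e.trans (Coh69.hhEquiv ((Coh.push h).obj M) 1)).symm.toEquiv).subsingleton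

/-- On a Noetherian scheme with a finite surjection from an affine scheme, coherent modules have no first
cohomology. -/
theorem h1Zero_of_isCoh {X : Scheme.{u}} (f : X ⟶ S) [IsFinite f] [Surjective f] [IsAffine X] [IsNoetherian S]
    (M : S.Modules) (hM : Coh.IsCoh M) : H1Zero M := by
  refine devissage H1Zero (fun _ _ ⟨e⟩ h => h.of_iso e) (fun _ h => H1Zero.of_isZero h)
    (fun T hT _ _ _ h₁ h₃ => H1Zero.ext hT h₁ h₃) (fun F r _ hr h => ?_) Set.univ isClosed_univ
    (fun y _ _ => ?_) M hM (Set.subset_univ _)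
  · exact H1Zero.of_retract (Sigma.ι (fun _ : Fin r => F) ⟨0, hr⟩) (Sigma.desc fun _ => 𝟙 F)
      (Sigma.ι_desc _ _) h
  obtain ⟨x, hx⟩ := f.surjective y
  obtain ⟨Z, i, hi, hZ, hr, hgen⟩ := exists_integral_closed x
  let h : Z ⟶ S := i ≫ f
  have : IsAffine Z := isAffine_of_isAffineHom i
  have : IsFinite h := inferInstance
  have : IsLocallyNoetherian Z := LocallyOfFiniteType.isLocallyNoetherian h
  have hhy : h (genericPoint Z) = y := by
    show f (i (genericPoint Z)) = y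
    rw [hgen, hx]
  let Y : Closeds S := ⟨closure {y}, isClosed_closure⟩
  have hrange : Set.range h ⊆ closure {y} := by
    rintro _ ⟨z, rfl⟩
    rw [← hhy]
    exact ((genericPoint_specializes z).map h.continuous).mem_closure
  have : (unitMod Z).IsQuasicoherent := isQuasicoherent_unit
  let G := (Scheme.Modules.pushforward h).obj (unitMod Z)
  have hG : Coh.IsCoh G := isCoh_pushforward_of_isFinite h _ isCoh_unit
  have := hG.1
  have hkill : ∀ (W : S.affineOpens) (a : Γ(S, W.1)),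
      a ∈ (Scheme.IdealSheafData.vanishingIdeal Y).ideal W → ∀ t : Γ(G, W.1), a • t = 0 := by
    intro W a ha t
    have h0 : h.app W.1 a = 0 := by
      refine eq_zero_of_basicOpen_eq_bot _ ?_
      rw [← Scheme.preimage_basicOpen]
      refine bot_unique fun z hz => ?_
      exfalso
      have h1 : h z ∈ W.1 := S.basicOpen_le a hz
      have h2 : h z ∈ ((Scheme.IdealSheafData.vanishingIdeal Y).support : Set S) :=
        (Scheme.IdealSheafData.coe_support_vanishingIdeal Y).ge (hrange ⟨z, rfl⟩)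
      have h3 : h z ∈ S.zeroLocus (U := W.1) ((Scheme.IdealSheafData.vanishingIdeal Y).ideal W : Set Γ(S, W.1)) :=
        Scheme.IdealSheafData.supportSet_subset_zeroLocus _ W h2
      exact ((Scheme.mem_zeroLocus_iff S _ _).mp h3 a ha) hz
    refine (QCqs72.pushforward_smul (M := unitMod Z) h a t).trans ?_
    rw [h0, zero_smul]
    rfl
  refine ⟨G, hG, ?_, stalk_killed (Y := Y) rfl hkill, fun J hyJ => ?_⟩
  · refine nontrivial_of_ne (germM G ⊤ y trivial (show Γ(G, ⊤) from toUnit (1 : Γ(Z, h ⁻¹ᵁ ⊤)))) 0 fun h0 => ?_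
    obtain ⟨W, hW, hyW, h0⟩ := germM_eq_zero h0
    have h1 : resO Z (h.preimage_mono hW) (1 : Γ(Z, h ⁻¹ᵁ ⊤)) = 0 := h0
    rw [show resO Z (h.preimage_mono hW) (1 : Γ(Z, h ⁻¹ᵁ ⊤)) = 1 from map_one _] at h1
    have h2 : genericPoint Z ∈ h ⁻¹ᵁ W := by show h (genericPoint Z) ∈ W; rw [hhy]; exact hyW
    have := congrArg (Z.presheaf.germ (h ⁻¹ᵁ W) _ h2) h1
    rw [map_one, map_zero] at this
    exact one_ne_zero this
  refine ⟨(Dual3.idealMul J).obj G, 𝟙 _, inferInstance, isCoh_idealMul J hG, ?_, ?_⟩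
  · rw [Category.id_comp]
    exact bijective_stalk_idealMulι J _ hyJ
  · obtain ⟨e, -⟩ := exists_iso_pushforward_idealMul_affine h (unitMod Z) J
    have := isQuasicoherent_idealMul (J.comap h) (unitMod Z)
    exact (H1Zero.push h ((Dual3.idealMul (J.comap h)).obj (unitMod Z))).of_iso e

section Criterion

variable [IsNoetherian S] (hvan : ∀ M : S.Modules, Coh.IsCoh M → H1Zero M)

lemma unitHom_app {N : S.Modules} (t : Γ(N, ⊤)) (U : S.Opens) (a : Γ(S, U)) :
    (unitHom t).app U (toUnit a) = a • res N le_top t := rfl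

include hvan in
/-- Functions on closed subschemes extend. -/
theorem appTop_surjective {W : Scheme.{u}} (ι : W ⟶ S) [IsClosedImmersion ι] :
    Function.Surjective ι.appTop := by
  intro g
  have : IsLocallyNoetherian W := LocallyOfFiniteType.isLocallyNoetherian ι
  have : (unitMod W).IsQuasicoherent := isQuasicoherent_unit
  let N := (Scheme.Modules.pushforward ι).obj (unitMod W)
  have hN : Coh.IsCoh N := isCoh_pushforward_of_isFinite ι _ isCoh_unit
  have := hN.1
  let φ : unitMod S ⟶ N := unitHom (show Γ(N, ⊤) from toUnit (1 : Γ(W, ι ⁻¹ᵁ ⊤)))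
  have happ : ∀ (U : S.Opens) (a : Γ(S, U)), φ.app U (toUnit a) = (show Γ(N, U) from toUnit (ι.app U a)) := by
    intro U a
    refine (unitHom_app _ U a).trans ?_
    refine (QCqs72.pushforward_smul (M := unitMod W) ι a _).trans ?_
    show ι.app U a • toUnit (resO W _ 1) = toUnit (ι.app U a)
    exact (smul_unit _ _).trans (congrArg toUnit ((congrArg (ι.app U a * ·) (map_one _)).trans (mul_one _)))
  have : Epi φ := Serre71.epi_of_app_surjective φ (fun U : S.affineOpens => U.1) (iSup_affineOpens_eq_top S)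
    (fun U => U.2) (fun U => isLocAt_of_isQuasicoherent N U.2) fun U t => by
      obtain ⟨a, ha⟩ := ι.app_surjective U.1 U.2 (show Γ(W, ι ⁻¹ᵁ U.1) from t)
      exact ⟨toUnit a, (happ U.1 a).trans ha⟩
  have hK : Coh.IsCoh (kernel φ) := isCoh_kernel φ isCoh_unit hN.1
  have hT : (ShortComplex.mk (kernel.ι φ) φ (kernel.condition φ)).ShortExact :=
    { exact := ShortComplex.exact_of_f_is_kernel _ (kernelIsKernel φ)
      mono_f := (inferInstance : Mono (kernel.ι φ))
      epi_g := (inferInstance : Epi φ) }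
  obtain ⟨a, ha⟩ := exists_app_top_eq hT (hvan _ hK) (show Γ(N, ⊤) from toUnit g)
  exact ⟨(show Γ(S, ⊤) from a), (happ ⊤ (show Γ(S, ⊤) from a)).symm.trans ha⟩

include hvan in
/-- Every closed point has an affine basic open neighbourhood. -/
theorem exists_affine_basicOpen (x : S) (hx : IsClosed ({x} : Set S)) :
    ∃ f : Γ(S, ⊤), x ∈ S.basicOpen f ∧ IsAffineOpen (S.basicOpen f) := by
  classical
  obtain ⟨_, ⟨U, hU, rfl⟩, hxU, -⟩ := S.isBasis_affineOpens.exists_subset_of_mem_open (Set.mem_univ x) isOpen_univ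
  let C : Closeds S := ⟨(U : Set S)ᶜ ∪ {x}, U.2.isClosed_compl.union hx⟩
  let I := Scheme.IdealSheafData.vanishingIdeal C
  let ι := I.subschemeι
  have hr : Set.range ι = (U : Set S)ᶜ ∪ {x} := SchBasics.range_vanishingIdeal_subschemeι C
  let V : ULift.{u} Bool → I.subscheme.Opens := fun b => cond b.down (ι ⁻¹ᵁ U) (ι ⁻¹ᵁ ⟨{x}ᶜ, hx.isOpen_compl⟩)
  let sf : ∀ b, Γ(I.subscheme, V b) := fun b => cond b.down (1 : Γ(I.subscheme, V b)) 0
  have hbot : ι ⁻¹ᵁ U ⊓ ι ⁻¹ᵁ ⟨{x}ᶜ, hx.isOpen_compl⟩ = ⊥ := by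
    refine bot_unique ?_
    rintro w ⟨h1, h2⟩
    rcases hr.le ⟨w, rfl⟩ with h | h
    · exact h h1
    · exact h2 h
  have hcov : (⊤ : I.subscheme.Opens) ≤ ⨆ b, V b := fun w _ => Opens.mem_iSup.mpr (by
    by_cases hw : ι w ∈ U
    · exact ⟨⟨true⟩, hw⟩
    · exact ⟨⟨false⟩, fun h => hw ((show ι w = x from h) ▸ hxU)⟩)
  have hcompat : TopCat.Presheaf.IsCompatible I.subscheme.sheaf.1 V sf := by
    rintro ⟨a⟩ ⟨b⟩
    cases a <;> cases b
    · rfl
    · have : Subsingleton Γ(I.subscheme, V ⟨false⟩ ⊓ V ⟨true⟩) := by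
        rw [show V ⟨false⟩ ⊓ V ⟨true⟩ = ⊥ from (inf_comm _ _).trans hbot]; infer_instance
      exact Subsingleton.elim (α := Γ(I.subscheme, V ⟨false⟩ ⊓ V ⟨true⟩)) _ _
    · have : Subsingleton Γ(I.subscheme, V ⟨true⟩ ⊓ V ⟨false⟩) := by
        rw [show V ⟨true⟩ ⊓ V ⟨false⟩ = ⊥ from hbot]; infer_instance
      exact Subsingleton.elim (α := Γ(I.subscheme, V ⟨true⟩ ⊓ V ⟨false⟩)) _ _
    · rfl
  obtain ⟨g, hg, -⟩ := I.subscheme.sheaf.existsUnique_gluing' V ⊤ (fun b => homOfLE le_top) hcov sf hcompat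
  obtain ⟨f, hf⟩ := appTop_surjective hvan ι g
  have hfg : ι ⁻¹ᵁ S.basicOpen f = I.subscheme.basicOpen g := by
    rw [Scheme.preimage_basicOpen_top, hf]
  have hV1 : V ⟨true⟩ ≤ I.subscheme.basicOpen g := by
    have h1 : I.subscheme.basicOpen (I.subscheme.presheaf.map (homOfLE (le_top : V ⟨true⟩ ≤ ⊤)).op g) = V ⟨true⟩ := by
      rw [show I.subscheme.presheaf.map (homOfLE (le_top : V ⟨true⟩ ≤ ⊤)).op g = 1 from hg ⟨true⟩]
      exact Scheme.basicOpen_of_isUnit _ isUnit_one
    rw [← h1, Scheme.basicOpen_res]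
    exact inf_le_right
  have hV0 : V ⟨false⟩ ⊓ I.subscheme.basicOpen g = ⊥ := by
    rw [← Scheme.basicOpen_res _ g (homOfLE (le_top : V ⟨false⟩ ≤ ⊤)).op,
      show I.subscheme.presheaf.map (homOfLE (le_top : V ⟨false⟩ ≤ ⊤)).op g = 0 from hg ⟨false⟩]
    exact Scheme.basicOpen_zero _ _
  obtain ⟨w, hw⟩ := hr.ge (Or.inr rfl : x ∈ (U : Set S)ᶜ ∪ {x})
  have hxf : x ∈ S.basicOpen f := by
    rw [← hw]
    exact hfg.ge (hV1 (show ι w ∈ U from hw ▸ hxU))
  have hle : S.basicOpen f ≤ U := fun y hy => by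
    by_contra hyU
    obtain ⟨w', hw'⟩ := hr.ge (Or.inl hyU)
    have h1 : w' ∈ V ⟨false⟩ := fun h => hyU (hw' ▸ (show ι w' = x from h) ▸ hxU)
    exact hV0.le ⟨h1, hfg.le (show ι w' ∈ S.basicOpen f from hw' ▸ hy)⟩
  refine ⟨f, hxf, ?_⟩
  have e : S.basicOpen (S.presheaf.map (homOfLE (le_top : U ≤ ⊤)).op f) = S.basicOpen f := by
    rw [Scheme.basicOpen_res, inf_eq_right.mpr hle]
  exact e ▸ hU.basicOpen _

include hvan in
/-- Functions whose nonvanishing loci are affine and cover generate the unit ideal. -/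
theorem span_eq_top {r : ℕ} (f : Fin r → Γ(S, ⊤)) (hf : ∀ l, IsAffineOpen (S.basicOpen (f l)))
    (hcov : ⨆ l, S.basicOpen (f l) = ⊤) : Ideal.span (Set.range f) = ⊤ := by
  classical
  have : (unitMod S).IsQuasicoherent := isQuasicoherent_unit
  let φ : (⨁ fun _ : Fin r => unitMod S) ⟶ unitMod S := biproduct.desc fun l => unitHom (toUnit (f l))
  have happ : ∀ (U : S.Opens) (l : Fin r) (a : Γ(S, U)),
      φ.app U ((biproduct.ι (fun _ : Fin r => unitMod S) l).app U (toUnit a)) =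
        toUnit (a * resO S le_top (f l)) := by
    intro U l a
    rw [← ConcreteCategory.comp_apply, ← Scheme.Modules.Hom.comp_app, biproduct.ι_desc]
    exact (unitHom_app _ U a).trans (smul_unit _ _)
  have : Epi φ := Serre71.epi_of_app_surjective φ (fun l => S.basicOpen (f l)) hcov hf
    (fun l => isLocAt_of_isQuasicoherent (unitMod S) (hf l)) fun l t => by
      have hu : IsUnit (resO S (le_top : S.basicOpen (f l) ≤ ⊤) (f l)) :=
        RingedSpace.isUnit_res_basicOpen _ (f l)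
      obtain ⟨c, hc⟩ := hu.exists_left_inv
      refine ⟨(biproduct.ι (fun _ : Fin r => unitMod S) l).app _
        (toUnit ((show Γ(S, S.basicOpen (f l)) from t) * c)), (happ _ l _).trans ?_⟩
      rw [mul_assoc, hc, mul_one]
  have hB : Coh.IsCoh (⨁ fun _ : Fin r => unitMod S) := isCoh_biproduct _ fun _ => isCoh_unit
  have hK : Coh.IsCoh (kernel φ) := isCoh_kernel φ hB (isQuasicoherent_unit)
  have hT : (ShortComplex.mk (kernel.ι φ) φ (kernel.condition φ)).ShortExact :=
    { exact := ShortComplex.exact_of_f_is_kernel _ (kernelIsKernel φ)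
      mono_f := (inferInstance : Mono (kernel.ι φ))
      epi_g := (inferInstance : Epi φ) }
  obtain ⟨v, hv⟩ := exists_app_top_eq hT (hvan _ hK) (toUnit (1 : Γ(S, ⊤)))
  have hsum : v = ∑ l, (biproduct.ι (fun _ : Fin r => unitMod S) l).app ⊤
      ((biproduct.π (fun _ : Fin r => unitMod S) l).app ⊤ v) := by
    let Φ : ((⨁ fun _ : Fin r => unitMod S) ⟶ ⨁ fun _ : Fin r => unitMod S) →+
        Γ(⨁ fun _ : Fin r => unitMod S, ⊤) :=
      { toFun := fun ψ => ψ.app ⊤ v
        map_zero' := rfl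
        map_add' := fun _ _ => rfl }
    have h := congrArg Φ (biproduct.total (f := fun _ : Fin r => unitMod S))
    rw [map_sum] at h
    exact h.symm
  rw [Ideal.eq_top_iff_one]
  have h1 : (show Γ(S, ⊤) from φ.app ⊤ v) = 1 := hv
  rw [← h1, hsum]
  show (show Γ(S, ⊤) from φ.app ⊤ _) ∈ _
  rw [map_sum]
  refine Ideal.sum_mem _ fun l _ => ?_
  have e := happ ⊤ l (show Γ(S, ⊤) from (biproduct.π (fun _ : Fin r => unitMod S) l).app ⊤ v)
  rw [resO_self] at e
  exact (congrArg (· ∈ Ideal.span (Set.range f)) e).mpr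
    (Ideal.mul_mem_left _ _ (Ideal.subset_span ⟨l, rfl⟩))

include hvan in
/-- Serre's criterion on a Noetherian scheme. -/
theorem isAffine_of_h1Zero : IsAffine S := by
  classical
  let G := {f : Γ(S, ⊤) // IsAffineOpen (S.basicOpen f)}
  have hcov : (Set.univ : Set S) ⊆ ⋃ f : G, (S.basicOpen f.1 : Set S) := by
    intro x _
    by_contra hx
    obtain ⟨z, hz, hzc⟩ := (isOpen_iUnion fun f : G => (S.basicOpen f.1).2).isClosed_compl.exists_closed_singleton
      ⟨x, hx⟩
    obtain ⟨f, hzf, hf⟩ := exists_affine_basicOpen hvan z hzc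
    exact hz (Set.mem_iUnion.mpr ⟨⟨f, hf⟩, hzf⟩)
  obtain ⟨t, ht⟩ := isCompact_univ.elim_finite_subcover (fun f : G => (S.basicOpen f.1 : Set S))
    (fun f => (S.basicOpen f.1).2) hcov
  let g : Fin t.card → Γ(S, ⊤) := fun l => (t.equivFin.symm l).1.1
  refine isAffine_of_isAffineOpen_basicOpen (Set.range g)
    (span_eq_top hvan g (fun l => (t.equivFin.symm l).1.2) ?_) ?_
  · refine top_le_iff.mp fun x hx => ?_
    obtain ⟨f, hf, hxf⟩ := Set.mem_iUnion₂.mp (ht (Set.mem_univ x))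
    exact Opens.mem_iSup.mpr ⟨t.equivFin ⟨f, hf⟩, by simpa [g] using hxf⟩
  · rintro _ ⟨l, rfl⟩
    exact (t.equivFin.symm l).1.2

end Criterion

/-- Chevalley's theorem. -/
theorem isAffine_of_finite_surjective {X : Scheme.{u}} (f : X ⟶ S) [IsFinite f] [Surjective f] [IsAffine X]
    [IsNoetherian S] : IsAffine S :=
  isAffine_of_h1Zero fun M hM => h1Zero_of_isCoh f M hM

end Groth.Agent.Approx60
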