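import Groth.Agent.Approx60.GlueStep
import Groth.Agent.LimDesc62.Basic
import Mathlib.AlgebraicGeometry.Morphisms.Immersion

set_option autoImplicit false
set_option backward.isDefEq.respectTransparency false
set_option backward.defeqAttrib.useBackward true

/-! Absolute Noetherian approximation, relative to a quasi-compact open. -/

universe u

open CategoryTheory CategoryTheory.Limits AlgebraicGeometry Opposite TopologicalSpace

namespace Groth.Agent.Approx60

attribute [local instance] CategoryTheory.isConnected_of_hasTerminal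

variable {I : Type u} [SmallCategory I] [IsCofiltered I]

omit [IsCofiltered I] in
lemma Good.restrict {D : I ⥤ Scheme.{u}} (hD : Good D) (i : I) : Good (Over.forget i ⋙ D) :=
  ⟨fun _ _ a => hD.aff _ _ a.left, fun j => hD.compact j.left, fun j => hD.lft j.left⟩

/-- A stage over which given sections become affine basic opens covering an open. -/
theorem exists_stage_sections (D : I ⥤ Scheme.{u}) (c : Cone D) (hc : IsLimit c) (hD : Good D) (i : I)
    (E : (D.obj i).Opens) (hE : IsCompact (E : Set (D.obj i))) {ι : Type u} [Finite ι]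
    (x : ι → Γ((c.π.app i ⁻¹ᵁ E : Scheme.{u}), ⊤))
    (hx : ∀ l, IsAffineOpen ((c.π.app i ⁻¹ᵁ E : Scheme.{u}).basicOpen (x l)))
    (hcov : ⨆ l, (c.π.app i ⁻¹ᵁ E : Scheme.{u}).basicOpen (x l) = ⊤) :
    ∃ (j : I) (φ : j ⟶ i) (r : ι → Γ((D.map φ ⁻¹ᵁ E : Scheme.{u}), ⊤)),
      (∀ l, ((c.π.app j).resLE (D.map φ ⁻¹ᵁ E) (c.π.app i ⁻¹ᵁ E)
        (by rw [← Scheme.Hom.comp_preimage, c.w])).appTop (r l) = x l) ∧
      ∀ (k : I) (ψ : k ⟶ j),
        ⨆ l, D.map ψ ⁻¹ᵁ ((D.map φ ⁻¹ᵁ E).ι ''ᵁ (D.map φ ⁻¹ᵁ E : Scheme.{u}).basicOpen (r l)) =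
          D.map ψ ⁻¹ᵁ D.map φ ⁻¹ᵁ E ∧
        ∀ l, IsAffineOpen (D.map ψ ⁻¹ᵁ ((D.map φ ⁻¹ᵁ E).ι ''ᵁ (D.map φ ⁻¹ᵁ E : Scheme.{u}).basicOpen (r l))) := by
  classical
  have haff : ∀ (a b : I) (f : a ⟶ b), IsAffineHom (D.map f) := hD.aff
  have : ∀ a, CompactSpace (D.obj a) := hD.compact
  have : ∀ a, QuasiSeparatedSpace (D.obj a) := fun a =>
    have := hD.lft a; quasiSeparatedSpace_of_lft_toZ (D.obj a)
  have hObjC : ∀ j : Over i, CompactSpace ((opensDiagram D i E).obj j) := fun j =>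
    isCompact_iff_compactSpace.mp (QuasiCompact.isCompact_preimage (f := D.map j.hom) _ E.2 hE)
  have hObjQ : ∀ j : Over i, QuasiSeparatedSpace ((opensDiagram D i E).obj j) := fun j =>
    (isQuasiSeparated_iff_quasiSeparatedSpace _ (D.map _ ⁻¹ᵁ _).2).mp (.of_quasiSeparatedSpace _)
  choose a s hs using fun l =>
    exists_appTop_π_eq_of_isLimit (opensDiagram D i E) (opensCone D c i E) (isLimitOpensCone D c hc i E) (x l)
  obtain ⟨m, ψ, χ, hχ⟩ := LimDesc62.DescProp.exists_common (fun l => (a l).hom)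
  let t : ∀ l, Over.mk ψ ⟶ a l := fun l => Over.homMk (χ l) (hχ l)
  let p := (c.π.app m).resLE (D.map ψ ⁻¹ᵁ E) (c.π.app i ⁻¹ᵁ E) (by rw [← Scheme.Hom.comp_preimage, c.w])
  let r₀ : ι → Γ((D.map ψ ⁻¹ᵁ E : Scheme.{u}), ⊤) := fun l => ((opensDiagram D i E).map (t l)).appTop (s l)
  have hr₀ : ∀ l, p.appTop (r₀ l) = x l := fun l => by
    have e : (opensCone D c i E).π.app (Over.mk ψ) ≫ (opensDiagram D i E).map (t l) =
        (opensCone D c i E).π.app (a l) := (opensCone D c i E).w (t l)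
    have := congr($(congrArg Scheme.Hom.appTop e) (s l))
    rw [Scheme.Hom.comp_appTop] at this
    exact this.trans (hs l).symm
  let B : ι → (D.obj m).Opens := fun l =>
    (D.map ψ ⁻¹ᵁ E).ι ''ᵁ (D.map ψ ⁻¹ᵁ E : Scheme.{u}).basicOpen (r₀ l)
  have hEψ : IsCompact ((D.map ψ ⁻¹ᵁ E : (D.obj m).Opens) : Set (D.obj m)) :=
    QuasiCompact.isCompact_preimage (f := D.map ψ) _ E.2 hE
  have hBc : ∀ l, IsCompact (B l : Set (D.obj m)) := fun l => by
    have : CompactSpace (D.map ψ ⁻¹ᵁ E : Scheme.{u}) := isCompact_iff_compactSpace.mp hEψ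
    have : QuasiSeparatedSpace (D.map ψ ⁻¹ᵁ E : Scheme.{u}) := hObjQ (Over.mk ψ)
    exact (isCompact_basicOpen _ isCompact_univ (r₀ l)).image (D.map ψ ⁻¹ᵁ E).ι.continuous
  have hπB : ∀ l, c.π.app m ⁻¹ᵁ B l =
      (c.π.app i ⁻¹ᵁ E).ι ''ᵁ (c.π.app i ⁻¹ᵁ E : Scheme.{u}).basicOpen (x l) := fun l => by
    have h1 : c.π.app m ⁻¹ᵁ B l ≤ (c.π.app i ⁻¹ᵁ E).ι.opensRange := by
      rw [Scheme.Opens.opensRange_ι]
      refine (Scheme.Hom.preimage_mono _ (Scheme.Hom.image_le_opensRange _ _)).trans ?_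
      rw [Scheme.Opens.opensRange_ι, ← Scheme.Hom.comp_preimage, c.w]
    rw [← inf_eq_right.mpr h1, ← Scheme.Hom.image_preimage_eq_opensRange_inf, ← Scheme.Hom.comp_preimage,
      ← Scheme.Hom.resLE_comp_ι (c.π.app m) (U := D.map ψ ⁻¹ᵁ E)
        (e := (by rw [← Scheme.Hom.comp_preimage, c.w] : c.π.app i ⁻¹ᵁ E ≤ c.π.app m ⁻¹ᵁ D.map ψ ⁻¹ᵁ E)),
      Scheme.Hom.comp_preimage, Scheme.Hom.preimage_image_eq, Scheme.preimage_basicOpen_top, hr₀]
  have h1 : ∀ l, ∃ (k : I) (u : k ⟶ m), IsAffineOpen (D.map u ⁻¹ᵁ B l) := fun l => by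
    obtain ⟨k, V, hV, e⟩ := exists_isAffineOpen_preimage_eq D c hc (c.π.app m ⁻¹ᵁ B l)
      (by rw [hπB]; exact (hx l).image_of_isOpenImmersion _)
    obtain ⟨q, u, v, -⟩ := IsCofilteredOrEmpty.cone_objs m k
    obtain ⟨q', u', hq⟩ := exists_map_preimage_eq_map_preimage D c hc (i := q)
      (U := D.map v ⁻¹ᵁ V) (V := D.map u ⁻¹ᵁ B l) (hV.preimage _).isCompact
      (QuasiCompact.isCompact_preimage (f := D.map u) _ (B l).2 (hBc l))
      (by rw [← Scheme.Hom.comp_preimage, c.w, e, ← Scheme.Hom.comp_preimage, c.w])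
    exact ⟨q', u' ≫ u, by rw [D.map_comp, Scheme.Hom.comp_preimage, ← hq]; exact (hV.preimage _).preimage _⟩
  choose k u hu using h1
  obtain ⟨m', u₀, w, hw⟩ := LimDesc62.DescProp.exists_common u
  have hc2 : IsCompact ((⨆ l, B l : (D.obj m).Opens) : Set (D.obj m)) := by
    rw [Opens.coe_iSup]; exact isCompact_iUnion hBc
  obtain ⟨n, v, hn⟩ := exists_map_preimage_eq_map_preimage D c hc (i := m') (U := D.map u₀ ⁻¹ᵁ ⨆ l, B l)
    (V := D.map u₀ ⁻¹ᵁ D.map ψ ⁻¹ᵁ E)
    (QuasiCompact.isCompact_preimage (f := D.map u₀) _ (⨆ l, B l).2 hc2)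
    (QuasiCompact.isCompact_preimage (f := D.map u₀) _ (D.map ψ ⁻¹ᵁ E).2 hEψ)
    (by
      rw [← Scheme.Hom.comp_preimage, c.w, ← Scheme.Hom.comp_preimage, c.w, ← Scheme.Hom.comp_preimage, c.w,
        Scheme.Hom.preimage_iSup]
      simp only [hπB, ← Scheme.Hom.image_iSup, hcov]
      exact Scheme.Opens.ι_image_top _)
  have hle : D.map (v ≫ u₀ ≫ ψ) ⁻¹ᵁ E ≤ D.map (v ≫ u₀) ⁻¹ᵁ D.map ψ ⁻¹ᵁ E := by
    rw [← Scheme.Hom.comp_preimage, ← D.map_comp, Category.assoc]
  let T := (D.map (v ≫ u₀)).resLE (D.map ψ ⁻¹ᵁ E) (D.map (v ≫ u₀ ≫ ψ) ⁻¹ᵁ E) hle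
  refine ⟨n, v ≫ u₀ ≫ ψ, fun l => T.appTop (r₀ l), fun l => ?_, fun k' f => ?_⟩
  · rw [← CommRingCat.comp_apply, ← Scheme.Hom.comp_appTop, ← hr₀]
    simp only [T, p, Scheme.Hom.resLE_comp_resLE, c.w]
  have hB' : ∀ l, (D.map (v ≫ u₀ ≫ ψ) ⁻¹ᵁ E).ι ''ᵁ
      (D.map (v ≫ u₀ ≫ ψ) ⁻¹ᵁ E : Scheme.{u}).basicOpen (T.appTop (r₀ l)) = D.map (v ≫ u₀) ⁻¹ᵁ B l := fun l => by
    have h1 : D.map (v ≫ u₀) ⁻¹ᵁ B l ≤ (D.map (v ≫ u₀ ≫ ψ) ⁻¹ᵁ E).ι.opensRange := by
      rw [Scheme.Opens.opensRange_ι]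
      refine (Scheme.Hom.preimage_mono _ (Scheme.Hom.image_le_opensRange _ _)).trans ?_
      rw [Scheme.Opens.opensRange_ι, ← Scheme.Hom.comp_preimage, ← D.map_comp, Category.assoc]
    rw [← inf_eq_right.mpr h1, ← Scheme.Hom.image_preimage_eq_opensRange_inf, ← Scheme.Hom.comp_preimage,
      ← Scheme.Hom.resLE_comp_ι (D.map (v ≫ u₀)) (e := hle), Scheme.Hom.comp_preimage,
      Scheme.Hom.preimage_image_eq, Scheme.preimage_basicOpen_top]
  simp only [hB']
  refine ⟨?_, fun l => ?_⟩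
  · rw [← Scheme.Hom.preimage_iSup, ← Scheme.Hom.preimage_iSup, D.map_comp, Scheme.Hom.comp_preimage, hn]
    simp [Scheme.Hom.comp_preimage]
  · refine IsAffineOpen.preimage ?_ (D.map f)
    rw [← hw l, ← Category.assoc, D.map_comp, Scheme.Hom.comp_preimage]
    exact (hu l).preimage _

/-- Extending an approximation across one affine open. -/
theorem exists_extension_affine {D : I ⥤ Scheme.{u}} {c : Cone D} (hc : IsLimit c) (hD : Good D)
    {S V : Scheme.{u}} [IsAffine V] (iU : c.pt ⟶ S) (iV : V ⟶ S) [IsOpenImmersion iU] [IsOpenImmersion iV]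
    (cover : ∀ s : S, s ∈ Set.range iU ∨ s ∈ Set.range iV)
    (hW : IsCompact ((iU ⁻¹ᵁ iV.opensRange : c.pt.Opens) : Set c.pt)) :
    Nonempty (Extension D c iU) := by
  classical
  have haff : ∀ (a b : I) (f : a ⟶ b), IsAffineHom (D.map f) := hD.aff
  obtain ⟨i₀, E₀, hE₀c, hE₀⟩ := exists_preimage_eq D c hc _ hW
  let w : (c.π.app i₀ ⁻¹ᵁ E₀ : Scheme.{u}) ⟶ V := IsOpenImmersion.lift iV ((c.π.app i₀ ⁻¹ᵁ E₀).ι ≫ iU) (by
    rintro _ ⟨x, rfl⟩
    exact (hE₀.le x.2 : iU _ ∈ iV.opensRange))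
  have hw : w ≫ iV = (c.π.app i₀ ⁻¹ᵁ E₀).ι ≫ iU := IsOpenImmersion.lift_fac _ _ _
  have : IsOpenImmersion (w ≫ iV) := by rw [hw]; infer_instance
  have : IsOpenImmersion w := IsOpenImmersion.of_comp w iV
  have : CompactSpace (c.π.app i₀ ⁻¹ᵁ E₀ : Scheme.{u}) := isCompact_iff_compactSpace.mp (hE₀ ▸ hW)
  obtain ⟨s, hs, hsV⟩ := isCompact_and_isOpen_iff_finite_and_eq_biUnion_basicOpen.mp
    (⟨isCompact_range w.continuous, w.isOpenEmbedding.isOpen_range⟩ : IsCompact (Set.range w) ∧ IsOpen (Set.range w))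
  have : Finite s := hs.to_subtype
  obtain ⟨n, ⟨e⟩⟩ : ∃ n, Nonempty (Fin n ≃ s) := ⟨Nat.card s, ⟨(Finite.equivFin s).symm⟩⟩
  let g : ULift.{u} (Fin n) → Γ(V, ⊤) := fun l => (e l.down).1
  have hg : ⨆ l, V.basicOpen (g l) = w.opensRange := by
    refine SetLike.coe_injective ?_
    rw [Scheme.Hom.coe_opensRange, hsV, Opens.coe_iSup]
    refine le_antisymm (Set.iUnion_subset fun l => Set.subset_biUnion_of_mem (u := fun z : Γ(V, ⊤) => (V.basicOpen z : Set V)) (e l.down).2) ?_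
    refine Set.iUnion₂_subset fun z hz => ?_
    refine Set.subset_iUnion_of_subset ⟨e.symm ⟨z, hz⟩⟩ ?_
    simp [g]
  obtain ⟨j, φ, r, hr, hr'⟩ := exists_stage_sections D c hc hD i₀ E₀ hE₀c (fun l => w.appTop (g l))
    (fun l => by
      rw [← Scheme.preimage_basicOpen_top]
      exact ((isAffineOpen_top V).basicOpen _).preimage_of_isOpenImmersion w ((le_iSup _ l).trans hg.le))
    (by simp only [← Scheme.preimage_basicOpen_top, ← Scheme.Hom.preimage_iSup, hg, Scheme.Hom.preimage_opensRange])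
  let D' := Over.forget j ⋙ D
  let c' : Cone D' := c.whisker (Over.forget j)
  have hc' : IsLimit c' := (Functor.Initial.isLimitWhiskerEquiv (Over.forget j) c).symm hc
  let E : ∀ k : Over j, (D'.obj k).Opens := fun k => D.map k.hom ⁻¹ᵁ D.map φ ⁻¹ᵁ E₀
  let f : ∀ k : Over j, Fin n → Γ((E k : Scheme.{u}), ⊤) := fun k l =>
    ((D.map k.hom).resLE (D.map φ ⁻¹ᵁ E₀) (E k) le_rfl).appTop (r ⟨l⟩)
  have hB : ∀ (k : Over j) (l : Fin n), (E k).ι ''ᵁ (E k : Scheme.{u}).basicOpen (f k l) =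
      D.map k.hom ⁻¹ᵁ ((D.map φ ⁻¹ᵁ E₀).ι ''ᵁ (D.map φ ⁻¹ᵁ E₀ : Scheme.{u}).basicOpen (r ⟨l⟩)) := fun k l => by
    have h1 : D.map k.hom ⁻¹ᵁ ((D.map φ ⁻¹ᵁ E₀).ι ''ᵁ (D.map φ ⁻¹ᵁ E₀ : Scheme.{u}).basicOpen (r ⟨l⟩)) ≤
        (E k).ι.opensRange := by
      rw [Scheme.Opens.opensRange_ι]
      refine Scheme.Hom.preimage_mono _ ((Scheme.Hom.image_le_opensRange _ _).trans ?_)
      rw [Scheme.Opens.opensRange_ι]
    rw [← inf_eq_right.mpr h1, ← Scheme.Hom.image_preimage_eq_opensRange_inf, ← Scheme.Hom.comp_preimage,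
      ← Scheme.Hom.resLE_comp_ι (D.map k.hom) (U := D.map φ ⁻¹ᵁ E₀) (e := (le_rfl : E k ≤ _)),
      Scheme.Hom.comp_preimage, Scheme.Hom.preimage_image_eq, Scheme.preimage_basicOpen_top]
  let d : GlueData S :=
    { D := D', c := c', hc := hc', good := hD.restrict j, iU := iU, iV := iV, cover := cover
      E := E
      hE := fun {k k'} a => by
        show D.map a.left ⁻¹ᵁ D.map k'.hom ⁻¹ᵁ _ = D.map k.hom ⁻¹ᵁ _
        rw [← Scheme.Hom.comp_preimage, ← D.map_comp, Over.w a]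
      hE₀ := fun k => by
        show c.π.app k.left ⁻¹ᵁ D.map k.hom ⁻¹ᵁ D.map φ ⁻¹ᵁ E₀ = iU ⁻¹ᵁ iV.opensRange
        rw [← Scheme.Hom.comp_preimage, c.w, ← Scheme.Hom.comp_preimage, c.w, hE₀]
      n := n
      g := fun l => g ⟨l⟩
      f := f
      hf := fun {k k'} a l => by
        show _ = ((D.map k.hom).resLE (D.map φ ⁻¹ᵁ E₀) (E k) le_rfl).appTop (r ⟨l⟩)
        rw [← CommRingCat.comp_apply, ← Scheme.Hom.comp_appTop]
        simp only [D', Functor.comp_map, Over.forget_map, Scheme.Hom.resLE_comp_resLE, ← D.map_comp, Over.w a]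
      hcov := fun k => by
        have h := (hr' k.left k.hom).1
        apply Scheme.Hom.image_injective (E k).ι
        simp only [Scheme.Hom.image_iSup, Scheme.Opens.ι_image_top]
        simp only [hB]
        refine Eq.trans ?_ h
        exact (Equiv.ulift.{u} (α := Fin n)).symm.iSup_congr fun l => rfl
      haff := fun k l => (E k).ι.isAffineOpen_iff_of_isOpenImmersion.mp (hB k l ▸ (hr' k.left k.hom).2 ⟨l⟩) }
  have hd : d.Compat := by
    refine ⟨fun k l => ?_, fun l => ?_⟩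
    · have hWle : d.W ≤ c.π.app i₀ ⁻¹ᵁ E₀ := hE₀.ge
      have e : d.w = c.pt.homOfLE hWle ≫ w := by
        rw [← cancel_mono iV]
        refine d.w_iV.trans ?_
        rw [Category.assoc, hw, Scheme.homOfLE_ι_assoc]
      have e2 : d.σ k ≫ (D.map k.hom).resLE (D.map φ ⁻¹ᵁ E₀) (E k) le_rfl =
          c.pt.homOfLE hWle ≫ (c.π.app j).resLE (D.map φ ⁻¹ᵁ E₀) (c.π.app i₀ ⁻¹ᵁ E₀)
            (by rw [← Scheme.Hom.comp_preimage, c.w]) := by
        rw [← cancel_mono (D.map φ ⁻¹ᵁ E₀).ι]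
        simp only [Category.assoc, Scheme.Hom.resLE_comp_ι, Scheme.homOfLE_ι_assoc]
        show d.σ k ≫ (d.E k).ι ≫ D.map k.hom = _
        rw [← Category.assoc, d.σ_ι, Category.assoc]
        show d.W.ι ≫ c.π.app k.left ≫ D.map k.hom = _
        rw [c.w]
      have h3 := congr($(congrArg Scheme.Hom.appTop e2) (r ⟨l⟩))
      simp only [Scheme.Hom.comp_appTop, CommRingCat.comp_apply, hr] at h3
      rw [e, Scheme.Hom.comp_appTop, CommRingCat.comp_apply]
      exact h3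
    · have e : d.w.opensRange = w.opensRange := by
        refine SetLike.coe_injective (Set.image_injective.mpr iV.isOpenEmbedding.injective ?_)
        simp only [Scheme.Hom.coe_opensRange, ← Set.range_comp]
        rw [← TopCat.coe_comp, ← Scheme.Hom.comp_base, ← TopCat.coe_comp, ← Scheme.Hom.comp_base, d.w_iV, hw]
        simp only [Scheme.Hom.comp_base, TopCat.coe_comp, Set.range_comp, Scheme.Opens.range_ι]
        rw [hE₀]
        rfl
      exact (le_iSup _ (⟨l⟩ : ULift.{u} (Fin n))).trans (hg.le.trans e.ge)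
  obtain ⟨ext⟩ := d.nonempty_extension hd
  exact ⟨{ J := ext.J, F := ext.F ⋙ Over.forget j, D' := ext.D', π := ext.π, isLimit := ext.isLimit
           good := ext.good, α := { app := fun k => ext.α.app k, naturality := fun k k' a => ext.α.naturality a }
           imm := ext.imm, sq := fun a => ext.sq a, sqπ := fun k => ext.sqπ k }⟩

section

variable {D : I ⥤ Scheme.{u}} {c : Cone D} {S : Scheme.{u}} {iU : c.pt ⟶ S}

omit [IsCofiltered I] in
/-- Extensions compose. -/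
theorem Extension.trans (e : Extension D c iU) {S' : Scheme.{u}} {i' : S ⟶ S'}
    (e' : Extension e.D' (Cone.mk S e.π) i') : Nonempty (Extension D c (iU ≫ i')) :=
  ⟨{ J := e'.J, F := e'.F ⋙ e.F, D' := e'.D', π := e'.π, isLimit := e'.isLimit, good := e'.good
     α := Functor.whiskerLeft e'.F e.α ≫ e'.α
     imm := fun j => by
       have := e.imm (e'.F.obj j)
       have := e'.imm j
       dsimp
       infer_instance
     sq := fun a => (e.sq (e'.F.map a)).paste_vert (e'.sq a)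
     sqπ := fun j => (e.sqπ (e'.F.obj j)).paste_vert (e'.sqπ j) }⟩

/-- An approximation of `c.pt` extends itself along an isomorphism. -/
theorem Extension.of_isIso (hc : IsLimit c) (hD : Good D) [IsIso iU] : Nonempty (Extension D c iU) :=
  ⟨{ J := I, F := 𝟭 I, D' := D
     π := { app := fun j => inv iU ≫ c.π.app j, naturality := fun j k a => by simp }
     isLimit := hc.ofIsoLimit (Cone.ext (asIso iU) fun j => by simp)
     good := hD
     α := D.leftUnitor.hom
     imm := fun j => by dsimp; infer_instance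
     sq := fun a => IsPullback.of_vert_isIso ⟨by simp⟩
     sqπ := fun j => IsPullback.of_vert_isIso ⟨by simp⟩ }⟩

end

/-- Noetherian approximation relative to an open subscheme. -/
theorem exists_extension {D : I ⥤ Scheme.{u}} {c : Cone D} (hc : IsLimit c) (hD : Good D)
    {S : Scheme.{u}} [CompactSpace S] [QuasiSeparatedSpace S] (iU : c.pt ⟶ S) [IsOpenImmersion iU] :
    Nonempty (Extension D c iU) := by
  have : ∀ (a b : I) (f : a ⟶ b), IsAffineHom (D.map f) := hD.aff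
  have : ∀ a, CompactSpace (D.obj a) := hD.compact
  have : CompactSpace c.pt := Scheme.compactSpace_of_isLimit D c hc
  have hUc : IsCompact (iU.opensRange : Set S) := isCompact_range iU.continuous
  have key : ∀ T : S.Opens, IsCompact (T : Set S) → ∃ i' : c.pt ⟶ (iU.opensRange ⊔ T : S.Opens),
      i' ≫ (iU.opensRange ⊔ T).ι = iU ∧ Nonempty (Extension D c i') := by
    intro T hT
    refine compact_open_induction_on (P := fun T => ∃ i' : c.pt ⟶ (iU.opensRange ⊔ T : S.Opens),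
      i' ≫ (iU.opensRange ⊔ T).ι = iU ∧ Nonempty (Extension D c i')) T hT ?_ ?_
    · have h : iU.opensRange ≤ iU.opensRange ⊔ ⊥ := le_sup_left
      have : IsIso (S.homOfLE h) := by
        have : iU.opensRange ⊔ ⊥ = iU.opensRange := sup_bot_eq _
        have e : S.homOfLE h = (S.isoOfEq this).inv := by
          rw [← cancel_mono (iU.opensRange ⊔ ⊥).ι]; simp
        rw [e]; infer_instance
      exact ⟨iU.isoOpensRange.hom ≫ S.homOfLE h, by simp, Extension.of_isIso hc hD⟩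
    · rintro T hT V ⟨i₁, hi₁, ⟨e₁⟩⟩
      let U₁ := iU.opensRange ⊔ T
      let U₂ := iU.opensRange ⊔ (T ⊔ V.1)
      have h12 : U₁ ≤ U₂ := sup_le_sup_left le_sup_left _
      have hV2 : V.1 ≤ U₂ := le_sup_of_le_right le_sup_right
      have : IsAffine (V.1 : Scheme.{u}) := V.2
      obtain ⟨e₂⟩ := exists_extension_affine (D := e₁.D') (c := Cone.mk _ e₁.π) e₁.isLimit e₁.good
        (S.homOfLE h12) (S.homOfLE hV2) (fun s => by
          rcases (show s.1 ∈ iU.opensRange ⊔ (T ⊔ V.1) from s.2) with h | h | h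
          · exact Or.inl ⟨⟨s.1, Or.inl h⟩, Subtype.ext (by simp)⟩
          · exact Or.inl ⟨⟨s.1, Or.inr h⟩, Subtype.ext (by simp)⟩
          · exact Or.inr ⟨⟨s.1, h⟩, Subtype.ext (by simp)⟩)
        (by
          have hU₁ : IsCompact (U₁ : Set S) := by rw [Opens.coe_sup]; exact hUc.union hT
          have h : IsCompact ((U₁ : Set S) ∩ V.1) :=
            QuasiSeparatedSpace.inter_isCompact _ _ U₁.2 hU₁ V.1.2 V.2.isCompact
          rw [U₁.ι.isOpenEmbedding.isInducing.isCompact_iff]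
          convert h using 1
          ext x
          constructor
          · rintro ⟨y, ⟨z, hz⟩, rfl⟩
            refine ⟨y.2, ?_⟩
            have := congr(U₂.ι $hz)
            simp only [← Scheme.Hom.comp_apply, Scheme.homOfLE_ι] at this
            exact this ▸ z.2
          · rintro ⟨hx1, hx2⟩
            exact ⟨⟨x, hx1⟩, ⟨⟨x, hx2⟩, Subtype.ext (by simp)⟩, rfl⟩)
      exact ⟨i₁ ≫ S.homOfLE h12, by rw [Category.assoc, Scheme.homOfLE_ι, hi₁], e₁.trans e₂⟩
  obtain ⟨i', hi', ⟨e⟩⟩ := key ⊤ (by rw [Opens.coe_top]; exact isCompact_univ)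
  have : IsIso (iU.opensRange ⊔ ⊤).ι := by
    rw [sup_top_eq, ← Scheme.topIso_hom]; infer_instance
  obtain ⟨e'⟩ := Extension.of_isIso (D := e.D') (c := Cone.mk _ e.π) (iU := (iU.opensRange ⊔ ⊤).ι)
    e.isLimit e.good
  exact hi' ▸ e.trans e'

/-- Absolute Noetherian approximation. -/
theorem exists_approximation (S : Scheme.{u}) [CompactSpace S] [QuasiSeparatedSpace S] :
    ∃ (J : Type u) (_ : SmallCategory J) (_ : IsCofiltered J) (D : J ⥤ Scheme.{u}) (π : (Functor.const J).obj S ⟶ D),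
      Good D ∧ Nonempty (IsLimit (Cone.mk S π)) := by
  let I := Discrete PUnit.{u + 1}
  let D : I ⥤ Scheme.{u} := Discrete.functor fun _ => (∅ : Scheme.{u})
  have : IsCofiltered I :=
    { cone_objs := fun X Y => ⟨X, 𝟙 _, eqToHom (Subsingleton.elim _ _), trivial⟩
      cone_maps := fun {X Y} f g => ⟨X, 𝟙 _, Subsingleton.elim _ _⟩ }
  let c : Cone D :=
    { pt := ∅
      π := Discrete.natTrans fun _ => 𝟙 _ }
  have hc : IsLimit c :=
    { lift := fun s => s.π.app ⟨⟨⟩⟩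
      fac := fun s j => by
        obtain ⟨⟨⟩⟩ := j
        exact Category.comp_id _
      uniq := fun s m h => (Category.comp_id m).symm.trans (h ⟨⟨⟩⟩) }
  have hD : Good D :=
    ⟨fun a b f => by
      obtain rfl : a = b := Subsingleton.elim _ _
      obtain rfl : f = 𝟙 a := Subsingleton.elim _ _
      rw [D.map_id]; infer_instance,
     fun a => inferInstanceAs (CompactSpace (∅ : Scheme.{u})),
     fun a => inferInstanceAs (LocallyOfFiniteType (toZ (∅ : Scheme.{u})))⟩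
  have : IsEmpty c.pt := inferInstanceAs (IsEmpty (∅ : Scheme.{u}))
  let iU : c.pt ⟶ S := Scheme.emptyTo S
  have : IsOpenImmersion iU := inferInstance
  obtain ⟨e⟩ := exists_extension hc hD iU
  exact ⟨e.J, inferInstance, inferInstance, e.D', e.π, e.good, ⟨e.isLimit⟩⟩

end Groth.Agent.Approx60
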