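import Groth.Agent.VarGal.Thickening
import Mathlib.AlgebraicGeometry.QuasiAffine

set_option autoImplicit false
set_option backward.isDefEq.respectTransparency false
set_option backward.defeqAttrib.useBackward true

/-! Quasi-affineness is insensitive to thickenings. -/

universe u

open CategoryTheory AlgebraicGeometry TopologicalSpace Opposite
open Groth.Agent.VarGal (res res_res app_res)

namespace Groth.Agent.Approx60

variable {X : Scheme.{u}}

/-- Large powers of a nilpotent perturbation of a function on its nonvanishing locus extend. -/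
theorem exists_pow_extend {V : X.Opens} (hV : IsAffineOpen V) (f : Γ(X, V)) (h : Γ(X, X.basicOpen f))
    (he : IsNilpotent (h - res (X.basicOpen_le f) f)) :
    ∃ q₀, ∀ q, q₀ ≤ q → ∃ b : Γ(X, V), res (X.basicOpen_le f) (f * b) = h ^ q := by
  obtain ⟨N, hN⟩ := he
  let ρ := res (X.basicOpen_le f)
  let e := h - ρ f
  choose r a ha using fun i : ℕ => exists_eq_pow_mul_of_isCompact_of_isQuasiSeparated X V hV.isCompact
    hV.isQuasiSeparated f (e ^ i)
  have ha' : ∀ i, ρ (a i) = ρ f ^ r i * e ^ i := fun i => ha i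
  refine ⟨N + (Finset.range N).sup r + 1, fun q hq => ?_⟩
  let Φ : Γ(X, V) →+ Γ(X, X.basicOpen f) := ρ.toAddMonoidHom.comp (AddMonoidHom.mulLeft f)
  suffices h ^ q ∈ Φ.range by exact this
  rw [show h = e + ρ f from (sub_add_cancel h (ρ f)).symm, add_pow]
  refine sum_mem fun i _ => ?_
  by_cases hi : i < N
  · have hr : r i ≤ (Finset.range N).sup r := Finset.le_sup (Finset.mem_range.mpr hi)
    obtain ⟨d, hd⟩ := Nat.exists_eq_add_of_le (show r i + 1 ≤ q - i by omega)
    refine ⟨f ^ d * a i * (Nat.choose q i : Γ(X, V)), ?_⟩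
    show ρ (f * _) = _
    rw [map_mul, map_mul, map_mul, map_pow, map_natCast, ha', hd, pow_add, pow_succ]
    ring
  · rw [pow_eq_zero_of_le (not_lt.mp hi) hN, zero_mul, zero_mul]
    exact zero_mem _

variable {Z : Scheme.{u}} (t : Z ⟶ X) [IsClosedImmersion t] [Surjective t]

include t in
/-- A scheme with a quasi-affine thickening-subscheme is quasi-affine. -/
theorem isQuasiAffine_of_thickening [Z.IsQuasiAffine] : X.IsQuasiAffine := by
  classical
  have : QuasiSeparatedSpace X := by
    rw [← isQuasiSeparated_univ_iff, ← t.surjective.range_eq, ← Set.image_univ]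
    exact isQuasiSeparated_univ.image_of_isEmbedding t.isEmbedding
  have : CompactSpace X := ⟨t.surjective.range_eq ▸ isCompact_range t.continuous⟩
  refine Scheme.IsQuasiAffine.of_forall_exists_mem_basicOpen X fun x => ?_
  obtain ⟨z, rfl⟩ := t.surjective x
  obtain ⟨_, ⟨_, ⟨g, hg, rfl⟩, rfl⟩, hzg, -⟩ :=
    (Scheme.IsQuasiAffine.isBasis_basicOpen Z).exists_subset_of_mem_open (Set.mem_univ z) isOpen_univ
  obtain ⟨W, hW⟩ := VarGal.exists_opens t (Z.basicOpen g)
  have hWaff : IsAffineOpen W := by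
    have : IsAffine (t ⁻¹ᵁ W : Scheme.{u}) := hW ▸ hg
    have : IsClosedImmersion (t ∣_ W) := IsZariskiLocalAtTarget.restrict (P := @IsClosedImmersion) ‹_› W
    have : Surjective (t ∣_ W) := IsZariskiLocalAtTarget.restrict (P := @Surjective) ‹_› W
    exact VarGal.isAffine_of_thickening (t ∣_ W)
  obtain ⟨H, hH⟩ := t.app_surjective W hWaff (res le_top g)
  obtain ⟨s, hs, hcov⟩ := (isCompact_iff_finite_and_eq_biUnion_affineOpens (U := (⊤ : X.Opens))).mp
    (isCompact_univ : IsCompact (Set.univ : Set X))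
  have : Finite s := hs.to_subtype
  let V : s → X.Opens := fun j => j.1.1
  have hVaff : ∀ j, IsAffineOpen (V j) := fun j => j.1.2
  have hVcov : (⊤ : X.Opens) ≤ ⨆ j, V j := by rw [hcov, iSup_subtype']
  choose f hf using fun j => t.app_surjective (V j) (hVaff j) (res le_top g)
  have hbf : ∀ j, X.basicOpen (f j) = W ⊓ V j := fun j => by
    refine VarGal.opens_ext t ?_
    rw [Scheme.preimage_basicOpen, hf, Scheme.basicOpen_res, Scheme.Hom.preimage_inf, hW, inf_comm]
  have hle : ∀ j, X.basicOpen (f j) ≤ W := fun j => (hbf j).le.trans inf_le_left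
  have hnil : ∀ j, IsNilpotent (res (hle j) H - res (X.basicOpen_le (f j)) (f j)) := fun j => by
    refine VarGal.isNilpotent_of_app_eq_zero t ((hVaff j).basicOpen (f j)).isCompact ?_
    rw [map_sub, app_res, app_res, hH, hf, res_res, res_res, sub_self]
  choose q₀ hq₀ using fun j => exists_pow_extend (hVaff j) (f j) _ (hnil j)
  cases nonempty_fintype s
  let q := Finset.univ.sup q₀ + 1
  choose b hb using fun j => hq₀ j q ((Finset.le_sup (Finset.mem_univ j)).trans (Nat.le_succ _))
  let F : ∀ j, Γ(X, V j) := fun j => f j * b j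
  have hF : ∀ j, res (X.basicOpen_le (f j)) (F j) = res (hle j) H ^ q := hb
  have hHb : X.basicOpen H = W := by
    refine VarGal.opens_ext t ?_
    rw [Scheme.preimage_basicOpen, hH, Scheme.basicOpen_res, hW, inf_idem]
  have hHu : IsUnit H := RingedSpace.isUnit_of_isUnit_germ _ W H fun y hy =>
    (Scheme.mem_basicOpen X H y hy).mp (hHb.ge hy)
  have hFb : ∀ j, X.basicOpen (F j) = X.basicOpen (f j) := fun j => by
    refine le_antisymm ((Scheme.basicOpen_mul _ _ _).trans_le inf_le_left) ?_
    have h1 : X.basicOpen (res (X.basicOpen_le (f j)) (F j)) = X.basicOpen (f j) := by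
      rw [hF]; exact Scheme.basicOpen_of_isUnit _ ((hHu.map _).pow q)
    rw [← h1, Scheme.basicOpen_res]
    exact inf_le_right
  have hD : ∀ j k, ∃ p, (res (inf_le_left : V j ⊓ V k ≤ V j) (F j)) ^ p *
      (res inf_le_left (F j) - res inf_le_right (F k)) = 0 := fun j k => by
    refine exists_pow_mul_eq_zero_of_res_basicOpen_eq_zero_of_isCompact X
      (QuasiSeparatedSpace.inter_isCompact _ _ (V j).2 (hVaff j).isCompact (V k).2 (hVaff k).isCompact) _ _ ?_
    have hb : X.basicOpen (res (inf_le_left : V j ⊓ V k ≤ V j) (F j)) ≤ X.basicOpen (f j) :=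
      ((Scheme.basicOpen_res _ _ _).trans_le inf_le_right).trans (hFb j).le
    have hb' : X.basicOpen (res (inf_le_left : V j ⊓ V k ≤ V j) (F j)) ≤ X.basicOpen (f k) := by
      rw [hbf k]
      exact le_inf (hb.trans (hle j)) ((X.basicOpen_le _).trans inf_le_right)
    show res (X.basicOpen_le _) (_ - _) = 0
    rw [map_sub, res_res, res_res, sub_eq_zero]
    have h1 := congrArg (res hb) (hF j)
    have h2 := congrArg (res hb') (hF k)
    rw [map_pow, res_res, res_res] at h1 h2
    exact h1.trans h2.symm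
  choose p hp using hD
  let P := Finset.univ.sup fun jk : s × s => p jk.1 jk.2
  have hpP : ∀ j k, p j k ≤ P := fun j k =>
    Finset.le_sup (f := fun jk : s × s => p jk.1 jk.2) (Finset.mem_univ (j, k))
  have hkill : ∀ j k, res (inf_le_left : V j ⊓ V k ≤ V j) (F j) ^ P *
      (res inf_le_left (F j) - res inf_le_right (F k)) = 0 := fun j k => by
    obtain ⟨d, hd⟩ := Nat.exists_eq_add_of_le (hpP j k)
    rw [hd, pow_add, mul_comm (_ ^ p j k), mul_assoc, hp j k, mul_zero]
  let G : ∀ j, Γ(X, V j) := fun j => F j ^ (2 * P + 1)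
  have hcompat : TopCat.Presheaf.IsCompatible X.sheaf.1 V G := fun j k => by
    show res (inf_le_left : V j ⊓ V k ≤ V j) (G j) = res (inf_le_right : V j ⊓ V k ≤ V k) (G k)
    simp only [G, map_pow]
    have e1 := hkill j k
    have e2 := congrArg (res (inf_comm (V j) (V k)).le) (hkill k j)
    rw [map_mul, map_pow, map_sub, map_zero, res_res, res_res] at e2
    set Fj := res (inf_le_left : V j ⊓ V k ≤ V j) (F j)
    set Fk := res (inf_le_right : V j ⊓ V k ≤ V k) (F k)
    rw [← sub_eq_zero, ← geom_sum₂_mul, Finset.sum_mul]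
    refine Finset.sum_eq_zero fun i hi => ?_
    rcases le_or_gt P i with h | h
    · obtain ⟨d, hd⟩ := Nat.exists_eq_add_of_le h
      rw [hd, pow_add]
      linear_combination (Fj ^ d * Fk ^ (2 * P + 1 - 1 - (P + d))) * e1
    · obtain ⟨d, hd⟩ := Nat.exists_eq_add_of_le (show P ≤ 2 * P + 1 - 1 - i by omega)
      rw [hd, pow_add]
      linear_combination -(Fj ^ i * Fk ^ d) * e2
  obtain ⟨G₀, hG₀, -⟩ := X.sheaf.existsUnique_gluing' V ⊤ (fun j => homOfLE le_top) hVcov G hcompat
  have hG0 : ∀ j, res le_top G₀ = F j ^ (2 * P + 1) := fun j => hG₀ j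
  refine ⟨G₀, ?_⟩
  have e : X.basicOpen G₀ = W := by
    refine le_antisymm (fun y hy => ?_) (fun y hy => ?_) <;>
      obtain ⟨j, hj⟩ := Opens.mem_iSup.mp (hVcov (Opens.mem_top y))
    · have h1 : y ∈ X.basicOpen (res (le_top : V j ≤ ⊤) G₀) := by
        rw [Scheme.basicOpen_res]; exact ⟨hj, hy⟩
      rw [hG0, show X.basicOpen (F j ^ (2 * P + 1)) = X.basicOpen (F j) from Scheme.basicOpen_pow X _ (by omega), hFb, hbf] at h1
      exact h1.1
    · have h1 : y ∈ X.basicOpen (res (le_top : V j ≤ ⊤) G₀) := by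
        rw [hG0, show X.basicOpen (F j ^ (2 * P + 1)) = X.basicOpen (F j) from Scheme.basicOpen_pow X _ (by omega), hFb, hbf]; exact ⟨hy, hj⟩
      rw [Scheme.basicOpen_res] at h1
      exact h1.2
  rw [e]
  exact ⟨hWaff, hW.ge hzg⟩

theorem S9204 {Z X : Scheme.{u}} (i : Z ⟶ X) [IsClosedImmersion i]
    (hi : IsHomeomorph i.base) : X.IsQuasiAffine ↔ Z.IsQuasiAffine := by
  have : Surjective i := ⟨hi.surjective⟩
  exact ⟨fun _ => Scheme.IsQuasiAffine.of_isAffineHom i, fun _ => isQuasiAffine_of_thickening i⟩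

end Groth.Agent.Approx60
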