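import Groth.Agent.VarGal.Thickening
import Groth.Agent.Amp73.QA
import Groth.Agent.Amp73.FrameGlue
import Groth.Agent.Props58.PullTensor
import Groth.Agent.Approx60.QuasiAffineThickening

set_option autoImplicit false
set_option backward.isDefEq.respectTransparency.types false

/-! Ampleness is insensitive to thickenings. -/

universe u

open CategoryTheory CategoryTheory.Limits AlgebraicGeometry Opposite TopologicalSpace

noncomputable section

namespace Groth.Agent.Approx60

open Var76.LineBundle Var76.ZeroScheme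

variable {X Z : Scheme.{u}} (i : Z ⟶ X) [IsClosedImmersion i] [Surjective i]

theorem app_fres (f : Z ⟶ X) {U V : X.Opens} (h : V ≤ U) (a : Γ(X, U)) :
    f.app V (fres h a) = fres (f.preimage_mono h) (f.app U a) :=
  VarGal.app_res f h a

/-- A nonvanishing locus on a thickened subscheme, contained in an affine frame open and affine, is one upstairs. -/
theorem mem_genSet_of_thickening [CompactSpace X] [QuasiSeparatedSpace X] {M : X.Modules}
    (hM : PicF.IsInvertible M) (t : Coh.structureModule Z ⟶ (Scheme.Modules.pullback i).obj M)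
    {W U₀ : X.Opens} (hWU : W ≤ U₀) (hW : IsAffineOpen W) {e₀ : Γ(M, U₀)} (he₀ : IsFrame M U₀ e₀)
    (ht : CohB1.genLocus _ t = i ⁻¹ᵁ W) : W ∈ Amp73.GenSet M := by
  classical
  let N := (Scheme.Modules.pullback i).obj M
  have hpf : ∀ {U : X.Opens} {e : Γ(M, U)}, IsFrame M U e → IsFrame N (i ⁻¹ᵁ U) (Amp73.pullS i M U e) :=
    fun he => Props58.PullTensor.isFrame_pullS i he
  -- a section of `M` over `W` lifting the restriction of `t`
  obtain ⟨c, hc⟩ := Amp73.exists_coord t (hpf (he₀.res hWU))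
  obtain ⟨A, hA⟩ := i.app_surjective W hW c
  let h : Γ(M, W) := A • res M hWU e₀
  have hh : Amp73.pullS i M W h = val N t (i ⁻¹ᵁ W) := by
    simp only [h]
    rw [Amp73.pullS_smul, hA, hc]
  -- a finite cover by affine frame opens
  choose U hxU hUle e he using fun x : X => Mero90.exists_affine_frame hM x ⊤ trivial
  obtain ⟨T, hT⟩ := CompactSpace.isCompact_univ.elim_finite_subcover (fun x : X => ((U x).1 : Set X))
    (fun x => (U x).1.2) (fun x _ => Set.mem_iUnion.2 ⟨x, hxU x⟩)
  let V : T → X.Opens := fun j => (U j.1).1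
  have hVaff : ∀ j, IsAffineOpen (V j) := fun j => (U j.1).2
  have hVcov : ⨆ j, V j = ⊤ := top_le_iff.1 fun x _ => by
    obtain ⟨y, hy, hx⟩ := Set.mem_iUnion₂.1 (hT (Set.mem_univ x))
    exact Opens.mem_iSup.2 ⟨⟨y, hy⟩, hx⟩
  let f₀ : ∀ j : T, Γ(M, V j) := fun j => e j.1
  have hf₀ : ∀ j, IsFrame M (V j) (f₀ j) := fun j => he j.1
  choose a ha using fun j => Amp73.exists_coord t (hpf (hf₀ j))
  choose f hf using fun j => i.app_surjective (V j) (hVaff j) (a j)
  -- nonvanishing loci of the lifts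
  have hbf : ∀ j, X.basicOpen (f j) = W ⊓ V j := fun j => by
    refine VarGal.opens_ext i ?_
    rw [Scheme.preimage_basicOpen, hf, ← Amp73.genLocus_inf_eq_basicOpen t (hpf (hf₀ j)) (ha j), ht,
      Scheme.Hom.preimage_inf]
  have hDW : ∀ j, X.basicOpen (f j) ≤ W := fun j => (hbf j).le.trans inf_le_left
  choose H hH using fun j => ((hf₀ j) _ (X.basicOpen_le (f j))).2 (res M (hDW j) h)
  have hnil : ∀ j, IsNilpotent (H j - fres (X.basicOpen_le (f j)) (f j)) := fun j => by
    refine VarGal.isNilpotent_of_app_eq_zero i ((hVaff j).basicOpen (f j)).isCompact ?_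
    rw [map_sub, sub_eq_zero]
    refine ((hpf ((hf₀ j).res (X.basicOpen_le (f j)))) _ le_rfl).1 ?_
    dsimp only
    rw [Amp73.res_self, app_fres, hf, ← Amp73.pullS_smul]
    show Amp73.pullS i M _ (H j • res M (X.basicOpen_le (f j)) (f₀ j)) = _
    rw [show H j • res M (X.basicOpen_le (f j)) (f₀ j) = res M (hDW j) h from hH j,
      ← Amp73.res_pullS i M (hDW j), ← Amp73.res_pullS i M (X.basicOpen_le (f j)), hh,
      Var76.ZeroScheme.res_val, ← res_smul, ha, Var76.ZeroScheme.res_val]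
  choose q₀ hq₀ using fun j => exists_pow_extend (hVaff j) (f j) _ (hnil j)
  let q := Finset.univ.sup q₀ + 1
  choose b hb using fun j => hq₀ j q ((Finset.le_sup (Finset.mem_univ j)).trans (Nat.le_succ _))
  let F : ∀ j, Γ(X, V j) := fun j => f j * b j
  have hF : ∀ j, fres (X.basicOpen_le (f j)) (F j) = H j ^ q := hb
  have hHu : ∀ j, IsUnit (H j) := fun j => by
    have h1 : IsUnit (fres (X.basicOpen_le (f j)) (f j)) :=
      X.toRingedSpace.isUnit_res_basicOpen (f j)
    obtain ⟨n, hn⟩ := hnil j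
    have h2 := IsNilpotent.isUnit_add_left_of_commute ⟨n, hn⟩ h1 (Commute.all _ _)
    rwa [add_sub_cancel] at h2
  have hFb : ∀ j, X.basicOpen (F j) = X.basicOpen (f j) := fun j => by
    refine le_antisymm ((Scheme.basicOpen_mul _ _ _).trans_le inf_le_left) ?_
    have h1 : X.basicOpen (fres (X.basicOpen_le (f j)) (F j)) = X.basicOpen (f j) := by
      rw [hF]; exact Scheme.basicOpen_of_isUnit _ ((hHu j).pow q)
    rw [← h1]
    exact (Scheme.basicOpen_res _ _ _).trans_le inf_le_right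
  -- sections of the `q`-th power agreeing with `h ^ q` on `W`
  let σ : ∀ j, Γ(CohB1.tensorPow M q, V j) := fun j => F j • Amp73.epow (f₀ j) q
  have hσ : ∀ j (O : X.Opens) (h1 : O ≤ X.basicOpen (f j)),
      res _ (h1.trans (X.basicOpen_le _)) (σ j) = res _ (h1.trans (hDW j)) (Amp73.epow h q) := fun j O h1 => by
    have h2 : res _ (X.basicOpen_le (f j)) (σ j) = res _ (hDW j) (Amp73.epow h q) := by
      simp only [σ]
      rw [res_smul, Amp73.res_epow, show (X.presheaf.map (homOfLE (X.basicOpen_le (f j))).op) (F j) = H j ^ q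
        from hF j, ← Amp73.epow_smul, Amp73.res_epow]
      congr 1
      exact hH j
    rw [← res_res _ (X.basicOpen_le (f j)) h1, h2, res_res]
  -- a uniform exponent
  have hD : ∀ j k, ∃ (c : Γ(X, V j ⊓ V k)) (p : ℕ), c • res M (inf_le_left : V j ⊓ V k ≤ V j) (f₀ j) =
      res M (inf_le_right : V j ⊓ V k ≤ V k) (f₀ k) ∧
      fres inf_le_left (F j) ^ p * (fres inf_le_left (F j) - fres inf_le_right (F k) * c ^ q) = 0 ∧
      (fres inf_le_right (F k) * c ^ q) ^ p * (fres inf_le_left (F j) - fres inf_le_right (F k) * c ^ q) = 0 := by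
    intro j k
    obtain ⟨c, hc⟩ := ((hf₀ j) _ (inf_le_left : V j ⊓ V k ≤ V j)).2 (res M inf_le_right (f₀ k))
    refine ⟨c, ?_⟩
    have hσk : res (CohB1.tensorPow M q) (inf_le_right : V j ⊓ V k ≤ V k) (σ k) =
        (fres inf_le_right (F k) * c ^ q) •
          res (CohB1.tensorPow M q) (inf_le_left : V j ⊓ V k ≤ V j) (Amp73.epow (f₀ j) q) := by
      simp only [σ]
      rw [res_smul, mul_smul, Amp73.res_epow, Amp73.res_epow, ← Amp73.epow_smul]
      congr 2
      exact hc.symm
    have hσj : res (CohB1.tensorPow M q) (inf_le_left : V j ⊓ V k ≤ V j) (σ j) =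
        fres (inf_le_left : V j ⊓ V k ≤ V j) (F j) • res (CohB1.tensorPow M q) (inf_le_left : V j ⊓ V k ≤ V j) (Amp73.epow (f₀ j) q) := by
      simp only [σ]
      rw [res_smul]
    have main : ∀ (O : X.Opens) (hO : O ≤ V j ⊓ V k), O ≤ W →
        fres hO (fres inf_le_left (F j) - fres inf_le_right (F k) * c ^ q) = 0 := by
      intro O hO hOW
      have hOj : O ≤ X.basicOpen (f j) := (le_inf hOW (hO.trans inf_le_left)).trans (hbf j).ge
      have hOk : O ≤ X.basicOpen (f k) := (le_inf hOW (hO.trans inf_le_right)).trans (hbf k).ge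
      have h3 := (hσ j O hOj).trans (hσ k O hOk).symm
      rw [← res_res _ (inf_le_left : V j ⊓ V k ≤ V j) hO, hσj, res_smul,
        ← res_res _ (inf_le_right : V j ⊓ V k ≤ V k) hO, hσk, res_smul, res_res] at h3
      have h4 := (Amp73.isFrame_epow (hf₀ j) q O (hO.trans inf_le_left)).1 h3
      show (X.presheaf.map (homOfLE hO).op) (_ - _) = 0
      rw [map_sub, sub_eq_zero]
      exact h4
    have hVc := QuasiSeparatedSpace.inter_isCompact _ _ (V j).2 (hVaff j).isCompact (V k).2 (hVaff k).isCompact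
    obtain ⟨p₁, hp₁⟩ := exists_pow_mul_eq_zero_of_res_basicOpen_eq_zero_of_isCompact X
      (U := V j ⊓ V k) hVc (fres inf_le_left (F j) - fres inf_le_right (F k) * c ^ q) (fres inf_le_left (F j))
      (main _ (X.basicOpen_le _) (((Scheme.basicOpen_res _ _ _).trans_le inf_le_right).trans
        ((hFb j).trans_le (hDW j))))
    obtain ⟨p₂, hp₂⟩ := exists_pow_mul_eq_zero_of_res_basicOpen_eq_zero_of_isCompact X
      (U := V j ⊓ V k) hVc (fres inf_le_left (F j) - fres inf_le_right (F k) * c ^ q)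
      (fres inf_le_right (F k) * c ^ q)
      (main _ (X.basicOpen_le _) ((((Scheme.basicOpen_mul _ _ _).trans_le inf_le_left).trans
        ((Scheme.basicOpen_res _ _ _).trans_le inf_le_right)).trans ((hFb k).trans_le (hDW k))))
    refine ⟨p₁ + p₂, hc, ?_, ?_⟩
    · rw [pow_add, mul_comm (_ ^ p₁), mul_assoc, hp₁, mul_zero]
    · rw [pow_add, mul_assoc, hp₂, mul_zero]
  choose c' p hc' hp₁ hp₂ using hD
  let P := Finset.univ.sup fun jk : T × T => p jk.1 jk.2
  have hpP : ∀ j k, p j k ≤ P := fun j k =>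
    Finset.le_sup (f := fun jk : T × T => p jk.1 jk.2) (Finset.mem_univ (j, k))
  let r := 2 * P + 1
  let G : ∀ j, Γ(CohB1.tensorPow M (q * r), V j) := fun j => F j ^ r • Amp73.epow (f₀ j) (q * r)
  have hcompat : ∀ j k, res _ (inf_le_left : V j ⊓ V k ≤ V j) (G j) = res _ (inf_le_right : V j ⊓ V k ≤ V k) (G k) := by
    intro j k
    simp only [G]
    rw [res_smul, res_smul, Amp73.res_epow, Amp73.res_epow, ← hc' j k, Amp73.epow_smul, smul_smul,
      map_pow, map_pow, pow_mul, ← mul_pow]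
    congr 1
    set Fj := fres (inf_le_left : V j ⊓ V k ≤ V j) (F j)
    set Fk := fres (inf_le_right : V j ⊓ V k ≤ V k) (F k) * c' j k ^ q
    show Fj ^ r = Fk ^ r
    obtain ⟨d, hd⟩ := Nat.exists_eq_add_of_le (hpP j k)
    have e1 : Fj ^ P * (Fj - Fk) = 0 := by
      rw [hd, pow_add, mul_comm (_ ^ p j k), mul_assoc]
      rw [show Fj ^ p j k * (Fj - Fk) = 0 from hp₁ j k, mul_zero]
    have e2 : Fk ^ P * (Fj - Fk) = 0 := by
      rw [hd, pow_add, mul_comm (_ ^ p j k), mul_assoc]
      rw [show Fk ^ p j k * (Fj - Fk) = 0 from hp₂ j k, mul_zero]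
    rw [← sub_eq_zero, ← geom_sum₂_mul, Finset.sum_mul]
    refine Finset.sum_eq_zero fun n hn => ?_
    rcases le_or_gt P n with h1 | h1
    · obtain ⟨d, hd⟩ := Nat.exists_eq_add_of_le h1
      rw [hd, pow_add]
      linear_combination (Fj ^ d * Fk ^ (r - 1 - (P + d))) * e1
    · obtain ⟨d, hd⟩ := Nat.exists_eq_add_of_le (show P ≤ r - 1 - n by omega)
      rw [hd, pow_add]
      linear_combination (Fj ^ n * Fk ^ d) * e2
  let one : ∀ j, Γ(Coh.structureModule X, V j) := fun j => (1 : Γ(X, V j))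
  obtain ⟨φ, hφ⟩ := Amp73.exists_hom_of_frames (L := Coh.structureModule X) (M := CohB1.tensorPow M (q * r)) V hVcov
    one (fun j => Amp73.isFrame_epow (hf₀ j) 0) G (fun j k O hj hk d hd => by
      have h1 : ∀ l (hl : O ≤ V l), res (Coh.structureModule X) hl (one l) = ((1 : Γ(X, O)) : Γ(Coh.structureModule X, O)) :=
        fun l hl => map_one (X.presheaf.map (homOfLE hl).op).hom
      rw [h1, h1] at hd
      have hd1 : d = 1 := ((mul_one d).symm.trans hd.symm)
      rw [hd1, one_smul, ← res_res _ (inf_le_right : V j ⊓ V k ≤ V k) (le_inf hj hk), ← hcompat,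
        res_res])
  have hgen : CohB1.genLocus _ φ = W := by
    have key : ∀ j, CohB1.genLocus _ φ ⊓ V j = W ⊓ V j := fun j => by
      rw [Amp73.genLocus_inf_eq_basicOpen φ (Amp73.isFrame_epow (hf₀ j) (q * r)) (c := F j ^ r) (hφ j).symm,
        Scheme.basicOpen_pow X _ (by omega : 0 < r), hFb, hbf]
    rw [← inf_top_eq (CohB1.genLocus _ φ), ← inf_top_eq W, ← hVcov, inf_iSup_eq, inf_iSup_eq]
    simp only [key]
  obtain ⟨m, hm⟩ : ∃ m, q * r = m + 1 :=
    ⟨q * r - 1, (Nat.sub_add_cancel (Nat.mul_pos (Nat.succ_pos _) (Nat.succ_pos _))).symm⟩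
  exact ⟨m, φ ≫ eqToHom (congrArg _ hm), (Amp73.genLocus_comp_iso _ _).trans hgen⟩

theorem isAmple_of_thickening {L : X.Modules} (hL : PicF.IsInvertible L)
    (h : CohB1.IsAmple ((Scheme.Modules.pullback i).obj L)) : CohB1.IsAmple L := by
  have := h.2.1
  have := Amp73.quasiSeparatedSpace_of_isAmple h
  have : CompactSpace X := ⟨i.surjective.range_eq ▸ isCompact_range i.continuous⟩
  have : QuasiSeparatedSpace X := by
    rw [← isQuasiSeparated_univ_iff, ← i.surjective.range_eq, ← Set.image_univ]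
    exact isQuasiSeparated_univ.image_of_isEmbedding i.isEmbedding
  refine Amp73.isAmple_iff.2 ⟨hL, inferInstance, fun x => ?_⟩
  obtain ⟨U₀, hxU₀, -, e₀, he₀⟩ := Mero90.exists_affine_frame hL x ⊤ trivial
  obtain ⟨z, rfl⟩ := i.surjective x
  obtain ⟨_, ⟨n, s, rfl⟩, hzG, hle, hGaff⟩ := Amp73.exists_affine_genSet_le h z (i ⁻¹ᵁ U₀.1) hxU₀
  obtain ⟨W, hW⟩ := VarGal.exists_opens i (CohB1.genLocus _ s)
  have hWaff : IsAffineOpen W := by
    have : IsAffine (i ⁻¹ᵁ W : Scheme.{u}) := hW ▸ hGaff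
    have : IsClosedImmersion (i ∣_ W) := IsZariskiLocalAtTarget.restrict (P := @IsClosedImmersion) ‹_› W
    have : Surjective (i ∣_ W) := IsZariskiLocalAtTarget.restrict (P := @Surjective) ‹_› W
    exact VarGal.isAffine_of_thickening (i ∣_ W)
  have hWU : W ≤ U₀.1 := fun y hy => by
    obtain ⟨z', rfl⟩ := i.surjective y
    exact hle (hW.le hy)
  refine ⟨W, ?_, hW.ge hzG, hWaff⟩
  have hM := EGA73.isInvertible_tensorPow hL (n + 1)
  refine Amp73.mem_genSet_of_tensorPow (Nat.succ_pos n) (mem_genSet_of_thickening i hM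
    (s ≫ (Amp73.pullPowIso i hL (n + 1)).inv) hWU hWaff (Amp73.isFrame_epow he₀ (n + 1)) ?_)
  rw [Amp73.genLocus_comp_iso, hW]

theorem S2153 {Z X : Scheme.{u}} (i : Z ⟶ X) [IsClosedImmersion i]
    (hi : IsHomeomorph i.base) (L : X.Modules) (hL : PicF.IsInvertible L) :
    CohB1.IsAmple ((Scheme.Modules.pullback i).obj L) ↔ CohB1.IsAmple L := by
  have : Surjective i := ⟨hi.surjective⟩
  refine ⟨isAmple_of_thickening i hL, fun h => ?_⟩
  have := h.2.1
  have : CompactSpace Z := QuasiCompact.compactSpace_of_compactSpace i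
  exact Amp73.isAmple_pullback_of_isEmbedding i i.isEmbedding h

end Groth.Agent.Approx60
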