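import Groth.Agent.Approx60.Segre
import Groth.Agent.MP99.Image
import Groth.Agent.EGA73.ProjPoint
import Mathlib.AlgebraicGeometry.Morphisms.SchemeTheoreticallyDominant
import Mathlib.AlgebraicGeometry.Morphisms.Immersion

/-! The core of Chow's lemma. -/

set_option autoImplicit false

universe u

open CategoryTheory CategoryTheory.Limits AlgebraicGeometry Opposite TopologicalSpace

noncomputable section

set_option backward.isDefEq.respectTransparency false
set_option backward.defeqAttrib.useBackward true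

namespace Groth.Agent.Approx60.Chow

open EGA73 (isIso_toSpec_zero)

/-- Morphisms into a separated `Z`-scheme agreeing after a scheme-theoretically dominant map are equal. -/
lemma ext_of_isSchemeTheoreticallyDominant {W X Y Z : Scheme.{u}} {f g : X ⟶ Y}
    (s : Y ⟶ Z) [IsSeparated s] (h : f ≫ s = g ≫ s)
    (ι : W ⟶ X) [IsSchemeTheoreticallyDominant ι] (hU : ι ≫ f = ι ≫ g) : f = g := by
  let X' : Over Z := Over.mk (f ≫ s)
  let Y' : Over Z := Over.mk s
  let U' : Over Z := Over.mk (ι ≫ f ≫ s)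
  let f' : X' ⟶ Y' := Over.homMk f
  let g' : X' ⟶ Y' := Over.homMk g (h.symm)
  let ι' : U' ⟶ X' := Over.homMk ι
  have : IsSeparated Y'.hom := ‹_›
  have hc : IsClosedImmersion (equalizer.ι f' g').left := inferInstance
  have hι : ι' ≫ f' = ι' ≫ g' := by ext1; exact hU
  have hfac : (equalizer.lift ι' hι).left ≫ (equalizer.ι f' g').left = ι := by
    rw [← Over.comp_left, equalizer.lift_ι]; rfl
  have : IsIso (equalizer.ι f' g').left := by
    refine IsClosedImmersion.isIso_iff_ker_eq_bot.mpr (le_bot_iff.mp ?_)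
    refine le_trans (Scheme.Hom.le_ker_comp (equalizer.lift ι' hι).left _) ?_
    rw [hfac, Scheme.Hom.ker_eq_bot]
  rw [← cancel_epi (equalizer.ι f' g').left]
  exact congr($(equalizer.condition f' g').left)


variable {S : Scheme.{u}}

/-- Finitely many projective spaces over `S` are dominated by a single one. -/
theorem exists_prod_proj (S : Scheme.{u}) : ∀ (k : ℕ) (n : Fin k → ℕ),
    ∃ (N : ℕ) (P : Scheme.{u}) (c : P ⟶ CohB1.ProjSpaceOver N S)
      (pr : ∀ i, P ⟶ CohB1.ProjSpaceOver (n i) S),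
      IsClosedImmersion c ∧
      (∀ i, pr i ≫ CohB1.ProjSpaceOver.toBase (n i) S = c ≫ CohB1.ProjSpaceOver.toBase N S) ∧
      ∀ {T : Scheme.{u}} (t : T ⟶ S) (h : ∀ i, T ⟶ CohB1.ProjSpaceOver (n i) S),
        (∀ i, h i ≫ CohB1.ProjSpaceOver.toBase (n i) S = t) →
        ∃ l : T ⟶ P, l ≫ c ≫ CohB1.ProjSpaceOver.toBase N S = t ∧ ∀ i, l ≫ pr i = h i
  | 0, n => by
    refine ⟨0, CohB1.ProjSpaceOver 0 S, 𝟙 _, fun i => i.elim0, inferInstance, fun i => i.elim0,
      fun {T} t h _ => ⟨pullback.lift ?_ t ?_, ?_, fun i => i.elim0⟩⟩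
    · have := isIso_toSpec_zero (ULift.{u} ℤ)
      exact specULiftZIsTerminal.from T ≫ (asIso (CohB1.ProjSpace.toSpec 0 (ULift.{u} ℤ))).inv
    · exact specULiftZIsTerminal.hom_ext _ _
    · rw [Category.id_comp]; exact pullback.lift_snd _ _ _
  | k + 1, n => by
    obtain ⟨N, P, c, pr, hc, hpr, hlift⟩ := exists_prod_proj S k (fun i => n i.succ)
    obtain ⟨φ, hφ, hw⟩ := Segre.exists_segre S (n 0) N
    let π₁ := pullback.fst (CohB1.ProjSpaceOver.toBase (n 0) S) (c ≫ CohB1.ProjSpaceOver.toBase N S)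
    let π₂ := pullback.snd (CohB1.ProjSpaceOver.toBase (n 0) S) (c ≫ CohB1.ProjSpaceOver.toBase N S)
    let q := pullback.map (CohB1.ProjSpaceOver.toBase (n 0) S) (c ≫ CohB1.ProjSpaceOver.toBase N S)
      (CohB1.ProjSpaceOver.toBase (n 0) S) (CohB1.ProjSpaceOver.toBase N S) (𝟙 _) c (𝟙 _) (by simp) (by simp)
    have hq : IsClosedImmersion q :=
      MorphismProperty.pullback_map (P := @IsClosedImmersion) (MorphismProperty.id_mem _ _) hc (by simp) (by simp)
    have hqt : (q ≫ φ) ≫ CohB1.ProjSpaceOver.toBase _ S = π₁ ≫ CohB1.ProjSpaceOver.toBase (n 0) S := by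
      rw [Category.assoc, hw, ← Category.assoc, pullback.lift_fst, Category.comp_id]
    refine ⟨_, _, q ≫ φ, Fin.cases π₁ (fun i => π₂ ≫ pr i), inferInstance, ?_, fun {T} t h ht => ?_⟩
    · intro i
      induction i using Fin.cases with
      | zero => exact hqt.symm
      | succ i =>
        show (π₂ ≫ pr i) ≫ _ = _
        rw [hqt, Category.assoc, hpr]
        exact pullback.condition.symm
    · obtain ⟨l, hl, hlpr⟩ := hlift t (fun i => h i.succ) (fun i => ht i.succ)
      refine ⟨pullback.lift (h 0) l ((ht 0).trans hl.symm), ?_, fun i => ?_⟩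
      · rw [hqt, pullback.lift_fst_assoc, ht 0]
      · induction i using Fin.cases with
        | zero => exact pullback.lift_fst _ _ _
        | succ i =>
          show pullback.lift _ l _ ≫ π₂ ≫ pr i = _
          rw [pullback.lift_snd_assoc, hlpr]

/-- The core of Chow's lemma: compatible maps of a dense open into compactified affine pieces. -/
theorem core {X : Scheme.{u}} (f : X ⟶ S) [IsSeparated f] [CompactSpace X]
    [QuasiSeparatedSpace X] {k : ℕ} (W : Fin k → X.Opens) (hW : ⨆ i, W i = ⊤) (n : Fin k → ℕ)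
    (j : ∀ i, (W i : Scheme.{u}) ⟶ CohB1.ProjSpaceOver (n i) S)
    (hj : ∀ i, j i ≫ CohB1.ProjSpaceOver.toBase (n i) S = (W i).ι ≫ f)
    (O : ∀ i, (CohB1.ProjSpaceOver (n i) S).Opens)
    (jO : ∀ i, (W i : Scheme.{u}) ⟶ (O i : Scheme.{u})) (hjO : ∀ i, jO i ≫ (O i).ι = j i)
    [∀ i, IsClosedImmersion (jO i)]
    (U : X.Opens) (hU : Dense (U : Set X)) [CompactSpace (U : Scheme.{u})]
    (g : ∀ i, (U : Scheme.{u}) ⟶ CohB1.ProjSpaceOver (n i) S)
    (hg : ∀ i, g i ≫ CohB1.ProjSpaceOver.toBase (n i) S = U.ι ≫ f)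
    (hgO : ∀ i, g i ⁻¹ᵁ O i = U.ι ⁻¹ᵁ W i)
    (hgj : ∀ i {T : Scheme.{u}} (a : T ⟶ U) (b : T ⟶ W i), a ≫ U.ι = b ≫ (W i).ι → a ≫ g i = b ≫ j i) :
    ∃ (N : ℕ) (X' : Scheme.{u}) (π : X' ⟶ X) (J : X' ⟶ CohB1.ProjSpaceOver N S),
      IsImmersion J ∧ J ≫ CohB1.ProjSpaceOver.toBase N S = π ≫ f ∧ IsProper π ∧ Surjective π ∧
      IsIso (π ∣_ U) ∧ IsSchemeTheoreticallyDominant (π ⁻¹ᵁ U).ι := by
  obtain ⟨N, P, c, pr, hc, hpr, hlift⟩ := exists_prod_proj S k n
  obtain ⟨l, hlt, hl⟩ := hlift (U.ι ≫ f) g hg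
  let tP := c ≫ CohB1.ProjSpaceOver.toBase N S
  have hN := Segre.isProper_toBase N S
  have htP : IsProper tP := inferInstance
  have hsep : ∀ i, IsSeparated (CohB1.ProjSpaceOver.toBase (n i) S) := fun i =>
    (Segre.isProper_toBase (n i) S).toIsSeparated
  let Q := pullback f tP
  let G : (U : Scheme.{u}) ⟶ Q := pullback.lift U.ι l hlt.symm
  have : QuasiSeparatedSpace Q := quasiSeparatedSpace_of_quasiSeparated (pullback.fst f tP)
  have : QuasiCompact G := quasiCompact_of_compactSpace G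
  let τ := G.toImage
  have hτ : IsSchemeTheoreticallyDominant τ := MP99.dominant_toImage G
  let π : G.image ⟶ X := G.imageι ≫ pullback.fst f tP
  let qP : G.image ⟶ P := G.imageι ≫ pullback.snd f tP
  have hπf : qP ≫ tP = π ≫ f := by
    simp only [π, qP, Category.assoc, ← pullback.condition]
  have hτπ : τ ≫ π = U.ι := by
    simp only [τ, π, Scheme.Hom.toImage_imageι_assoc]; exact pullback.lift_fst _ _ _
  have hτq : ∀ i, τ ≫ qP ≫ pr i = g i := fun i => by
    simp only [τ, qP, Category.assoc, Scheme.Hom.toImage_imageι_assoc]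
    rw [← hl i]; exact pullback.lift_snd_assoc _ _ _ _
  have hqt : ∀ i, (qP ≫ pr i) ≫ CohB1.ProjSpaceOver.toBase (n i) S = π ≫ f := fun i => by
    rw [Category.assoc, hpr, hπf]
  have hπp : IsProper π := inferInstance
  have hqPd : G.imageι ≫ pullback.snd f tP = qP := rfl
  have hπd : G.imageι ≫ pullback.fst f tP = π := rfl
  clear_value qP π
  have hdom : ∀ V : G.image.Opens, IsSchemeTheoreticallyDominant (τ ∣_ V) := fun V =>
    IsSchemeTheoreticallyDominant.of_isPullback (isPullback_morphismRestrict τ V).flip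
  -- over each piece
  have hagree : ∀ i, ∀ (V : G.image.Opens) (hV : V ≤ π ⁻¹ᵁ W i),
      V.ι ≫ qP ≫ pr i = G.image.homOfLE hV ≫ (π ∣_ W i) ≫ j i := by
    intro i V hV
    refine ext_of_isSchemeTheoreticallyDominant (CohB1.ProjSpaceOver.toBase (n i) S) ?_ (τ ∣_ V) ?_
    · simp only [Category.assoc] at hqt ⊢
      rw [hqt, hj, morphismRestrict_ι_assoc, Scheme.homOfLE_ι_assoc]
    · rw [morphismRestrict_ι_assoc, hτq]
      refine (hgj i _ ((τ ∣_ V) ≫ G.image.homOfLE hV ≫ (π ∣_ W i)) ?_).trans (by simp only [Category.assoc])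
      simp only [Category.assoc, morphismRestrict_ι, Scheme.homOfLE_ι_assoc, morphismRestrict_ι_assoc, hτπ]
  have hle : ∀ i, π ⁻¹ᵁ W i ≤ (qP ≫ pr i) ⁻¹ᵁ O i := by
    intro i x hx
    have h1 := congrArg (fun z => z ⟨x, hx⟩) (hagree i (π ⁻¹ᵁ W i) le_rfl)
    show (qP ≫ pr i) x ∈ O i
    have h2 : (qP ≫ pr i) x = j i ((π ∣_ W i) ⟨x, hx⟩) := by
      rw [Scheme.homOfLE_rfl, Category.id_comp] at h1
      exact h1
    rw [h2, ← hjO]
    exact ((jO i) _).2
  -- the inverse image of each piece maps to the closed subscheme `W i` of `O i`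
  have hfac : ∀ i, ∃ h : ((qP ≫ pr i) ⁻¹ᵁ O i : Scheme.{u}) ⟶ W i,
      h ≫ jO i = (qP ≫ pr i) ∣_ O i ∧ h ≫ (W i).ι = ((qP ≫ pr i) ⁻¹ᵁ O i).ι ≫ π := by
    intro i
    let T := (qP ≫ pr i) ⁻¹ᵁ O i
    let r := (qP ≫ pr i) ∣_ O i
    have hTU : τ ⁻¹ᵁ T = U.ι ⁻¹ᵁ W i := by
      rw [← hgO i, ← hτq i]; rfl
    let b : (τ ⁻¹ᵁ T : Scheme.{u}) ⟶ W i := IsOpenImmersion.lift (W i).ι ((τ ⁻¹ᵁ T).ι ≫ U.ι) (by
      rw [Scheme.Opens.range_ι]
      rintro _ ⟨y, rfl⟩
      exact hTU.le y.2)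
    have hb : b ≫ (W i).ι = (τ ⁻¹ᵁ T).ι ≫ U.ι := IsOpenImmersion.lift_fac _ _ _
    have hbj : b ≫ jO i = (τ ∣_ T) ≫ r := by
      rw [← cancel_mono (O i).ι, Category.assoc, hjO, ← hgj i _ b hb.symm]
      simp only [r, Category.assoc, morphismRestrict_ι]
      rw [← Category.assoc (τ ∣_ T), morphismRestrict_ι, Category.assoc]
      rw [hτq i]
    have hlift' : pullback.lift (τ ∣_ T) b hbj.symm ≫ pullback.fst r (jO i) = τ ∣_ T := pullback.lift_fst _ _ _
    have : IsIso (pullback.fst r (jO i)) := by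
      refine IsClosedImmersion.isIso_iff_ker_eq_bot.mpr (le_bot_iff.mp ?_)
      refine le_trans (Scheme.Hom.le_ker_comp (pullback.lift (τ ∣_ T) b hbj.symm) _) ?_
      rw [hlift', (hdom T).ker_eq_bot]
    refine ⟨inv (pullback.fst r (jO i)) ≫ pullback.snd r (jO i), ?_, ?_⟩
    · rw [Category.assoc, ← pullback.condition, IsIso.inv_hom_id_assoc]
    · refine ext_of_isSchemeTheoreticallyDominant f ?_ (τ ∣_ T) ?_
      · have hr : r ≫ (O i).ι = T.ι ≫ qP ≫ pr i := morphismRestrict_ι _ _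
        rw [Category.assoc, Category.assoc, ← hj i, ← hjO i, Category.assoc,
          ← pullback.condition_assoc, IsIso.inv_hom_id_assoc, ← Category.assoc r, hr,
          Category.assoc, hqt i]
        simp only [T, Category.assoc]
      · have h3 : (τ ∣_ T) ≫ inv (pullback.fst r (jO i)) ≫ pullback.snd r (jO i) = b := by
          rw [← Category.assoc, show (τ ∣_ T) ≫ inv (pullback.fst r (jO i)) = pullback.lift (τ ∣_ T) b hbj.symm
            from (IsIso.comp_inv_eq _).2 hlift'.symm]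
          exact pullback.lift_snd _ _ _
        rw [← Category.assoc, h3, hb, morphismRestrict_ι_assoc, hτπ]
  have hTW : ∀ i, (qP ≫ pr i) ⁻¹ᵁ O i ≤ π ⁻¹ᵁ W i := fun i x hx => by
    obtain ⟨h, -, h2⟩ := hfac i
    have h3 := congrArg (fun z => z ⟨x, hx⟩) h2
    show π x ∈ W i
    rw [show π x = (W i).ι (h ⟨x, hx⟩) from h3.symm]
    exact (h ⟨x, hx⟩).2
  -- the map to the product is an immersion
  let Ω : P.Opens := ⨆ i, pr i ⁻¹ᵁ O i
  have hΩ : qP ⁻¹ᵁ Ω = ⊤ := top_le_iff.1 fun x _ => by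
    obtain ⟨i, hi⟩ := Opens.mem_iSup.1 (hW.ge (Opens.mem_top (π x)))
    exact (le_iSup (fun i => pr i ⁻¹ᵁ O i) i) (hle i hi)
  let ψ : G.image ⟶ (Ω : Scheme.{u}) := IsOpenImmersion.lift Ω.ι qP (by
    rw [Scheme.Opens.range_ι]
    rintro _ ⟨x, rfl⟩
    exact hΩ.ge (Opens.mem_top x))
  have hψ : ψ ≫ Ω.ι = qP := IsOpenImmersion.lift_fac _ _ _
  have hψc : IsClosedImmersion ψ := by
    refine (IsZariskiLocalAtTarget.iff_of_iSup_eq_top (P := @IsClosedImmersion)
      (fun i => Ω.ι ⁻¹ᵁ (pr i ⁻¹ᵁ O i)) ?_).2 fun i => ?_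
    · rw [← Scheme.Hom.preimage_iSup]; exact Ω.ι_preimage_self
    let O' := pr i ⁻¹ᵁ O i
    let T := qP ⁻¹ᵁ O'
    obtain ⟨h, hh1, hh2⟩ : ∃ h : (T : Scheme.{u}) ⟶ W i, h ≫ jO i = (qP ≫ pr i) ∣_ O i ∧ h ≫ (W i).ι = T.ι ≫ π :=
      hfac i
    have hmap : (qP ∣_ O') ≫ (pr i ∣_ O i) = (qP ≫ pr i) ∣_ O i := (morphismRestrict_comp qP (pr i) (O i)).symm
    let Y := pullback (jO i) (pr i ∣_ O i)
    let a : (T : Scheme.{u}) ⟶ Y := pullback.lift h (qP ∣_ O') (by rw [hh1, hmap])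
    let e : Y ⟶ Q := pullback.lift (pullback.fst (jO i) (pr i ∣_ O i) ≫ (W i).ι)
      (pullback.snd (jO i) (pr i ∣_ O i) ≫ O'.ι) (by
        rw [Category.assoc, Category.assoc, ← hj i, ← hjO i, Category.assoc, pullback.condition_assoc,
          ← Category.assoc (pr i ∣_ O i), morphismRestrict_ι, Category.assoc, hpr i])
    have he2 : e ≫ pullback.snd f tP = pullback.snd (jO i) (pr i ∣_ O i) ≫ O'.ι := pullback.lift_snd _ _ _
    have hae : a ≫ e = T.ι ≫ G.imageι := by
      apply pullback.hom_ext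
      · rw [Category.assoc, pullback.lift_fst, pullback.lift_fst_assoc, hh2, Category.assoc, hπd]
      · rw [Category.assoc, he2, pullback.lift_snd_assoc, morphismRestrict_ι, Category.assoc, hqPd]
    have he : IsImmersion e := by
      have : IsImmersion (e ≫ pullback.snd f tP) := by rw [he2]; infer_instance
      exact IsImmersion.of_comp e (pullback.snd f tP)
    have hainj : Function.Injective e := fun y y' hy => e.isEmbedding.injective hy
    have : IsImmersion a := by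
      have : IsImmersion (a ≫ e) := by rw [hae]; infer_instance
      exact IsImmersion.of_comp a e
    have harange : Set.range a = e ⁻¹' Set.range G.imageι := by
      ext y
      constructor
      · rintro ⟨x, rfl⟩
        refine ⟨T.ι x, ?_⟩
        rw [← Scheme.Hom.comp_apply, ← Scheme.Hom.comp_apply, hae]
      · rintro ⟨x, hx⟩
        have hxT : x ∈ T := by
          show qP x ∈ O'
          have h2 := congrArg (pullback.snd f tP) hx
          rw [← Scheme.Hom.comp_apply, ← Scheme.Hom.comp_apply, he2] at h2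
          rw [show qP x = (G.imageι ≫ pullback.snd f tP) x by rw [hqPd], h2]
          exact (pullback.snd (jO i) (pr i ∣_ O i) y).2
        refine ⟨⟨x, hxT⟩, hainj ?_⟩
        rw [← hx, ← Scheme.Hom.comp_apply, hae]; rfl
    have hac : IsClosedImmersion a := IsClosedImmersion.of_isPreimmersion a
      (harange ▸ G.imageι.isClosedEmbedding.isClosed_range.preimage e.continuous)
    have hqc : IsClosedImmersion (qP ∣_ O') := by
      rw [show qP ∣_ O' = a ≫ pullback.snd (jO i) (pr i ∣_ O i) from (pullback.lift_snd _ _ _).symm]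
      infer_instance
    have hO' : O' ≤ Ω := le_iSup (fun i => pr i ⁻¹ᵁ O i) i
    have hiso : IsIso (Ω.ι ∣_ O') := by
      refine isIso_of_isOpenImmersion_of_opensRange_eq_top _ (top_le_iff.1 fun y _ => ?_)
      exact ⟨⟨⟨y.1, hO' y.2⟩, y.2⟩, Subtype.ext (by rw [morphismRestrict_base_coe]; rfl)⟩
    have h5 : IsClosedImmersion ((ψ ≫ Ω.ι) ∣_ O') := by rw [hψ]; exact hqc
    rw [morphismRestrict_comp] at h5
    exact (MorphismProperty.cancel_right_of_respectsIso @IsClosedImmersion _ (Ω.ι ∣_ O')).1 h5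
  have hqPimm : IsImmersion qP := by rw [← hψ]; infer_instance
  have hsurj : Surjective π := ⟨Set.range_eq_univ.1 (Set.eq_univ_of_univ_subset (hU.closure_eq.ge.trans
    ((π.isClosedMap.isClosed_range).closure_subset_iff.2 (by
      rw [← U.range_ι, ← hτπ]
      rintro _ ⟨x, rfl⟩
      exact ⟨τ x, rfl⟩))))⟩
  -- the isomorphism over `U`
  let V := π ⁻¹ᵁ U
  let s : (U : Scheme.{u}) ⟶ V := IsOpenImmersion.lift V.ι τ (by
    rw [Scheme.Opens.range_ι]
    rintro _ ⟨x, rfl⟩
    show π (τ x) ∈ U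
    rw [← Scheme.Hom.comp_apply, hτπ]
    exact x.2)
  have hs : s ≫ V.ι = τ := IsOpenImmersion.lift_fac _ _ _
  have hsπ : s ≫ (π ∣_ U) = 𝟙 _ := by
    rw [← cancel_mono U.ι, Category.assoc, morphismRestrict_ι, ← Category.assoc, hs, hτπ, Category.id_comp]
  have hsdom : IsSchemeTheoreticallyDominant s :=
    IsSchemeTheoreticallyDominant.of_isPullback (f := τ) (g := V.ι) (pX := 𝟙 _) (pY := s)
      (IsPullback.of_horiz_isIso_mono ⟨by rw [Category.id_comp, hs]⟩)
  have hπs : (π ∣_ U) ≫ s = 𝟙 _ := by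
    have : IsSeparated (qP ≫ tP) := by
      rw [hπf]; infer_instance
    rw [← cancel_mono V.ι, Category.id_comp]
    refine ext_of_isSchemeTheoreticallyDominant (qP ≫ tP) ?_ s ?_
    · rw [hπf, Category.assoc, Category.assoc, reassoc_of% hs, reassoc_of% hτπ, morphismRestrict_ι_assoc]
    · rw [← Category.assoc, ← Category.assoc, hsπ, Category.id_comp]
  refine ⟨N, G.image, π, qP ≫ c, inferInstance, by rw [Category.assoc]; exact hπf, inferInstance, hsurj,
    ⟨s, hπs, hsπ⟩, ?_⟩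
  have hsiso : IsIso s := ⟨π ∣_ U, hsπ, hπs⟩
  have : IsSchemeTheoreticallyDominant (s ≫ V.ι) := by rw [hs]; exact hτ
  rw [show (π ⁻¹ᵁ U).ι = inv s ≫ (s ≫ V.ι) by simp [V]]
  infer_instance

end Groth.Agent.Approx60.Chow
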