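import Groth.Agent.LimTop61.DimLim
import Groth.Agent.LimDesc62.Wrap

/-! Upper bounds on the dimensions of fibres descend along limits. -/

set_option autoImplicit false
set_option backward.isDefEq.respectTransparency.types false

universe u

open CategoryTheory CategoryTheory.Limits AlgebraicGeometry Opposite TopologicalSpace

noncomputable section

namespace Groth.Agent.Approx60

open LimDesc62

/-- Locally of finite type with fibres of dimension at most `d`. -/
def FdegLE (d : ℕ) : MorphismProperty Scheme.{u} :=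
  fun _ _ f => LocallyOfFiniteType f ∧ ∀ x, E4O.fdeg f x ≤ d

theorem fdeg_comp_isIso {X Y Z : Scheme.{u}} (f : X ⟶ Y) [LocallyOfFiniteType f] (e : Y ⟶ Z) [IsIso e]
    (x : X) : E4O.fdeg (f ≫ e) x = E4O.fdeg f x := by
  have h1 : IsPullback (𝟙 X) (f ≫ e) f (inv e) := IsPullback.of_horiz_isIso ⟨by simp⟩
  have h2 : IsPullback (𝟙 X) f (f ≫ e) e := IsPullback.of_horiz_isIso ⟨by simp⟩
  exact le_antisymm (E4O.fdeg_le_of_isPullback h1 x) (E4O.fdeg_le_of_isPullback h2 x)

theorem respectsIso_fdegLE (d : ℕ) : (FdegLE.{u} d).RespectsIso := by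
  refine MorphismProperty.RespectsIso.mk _ (fun {X Y Z} e f h => ?_) fun {X Y Z} e f h => ?_
  · obtain ⟨hf, h⟩ := h
    refine ⟨inferInstance, fun x => ?_⟩
    rw [E4O.fdeg_comp_closedImmersion e.hom f x]
    exact h _
  · obtain ⟨hf, h⟩ := h
    refine ⟨inferInstance, fun x => ?_⟩
    rw [fdeg_comp_isIso]
    exact h _

theorem fdegLE_iff {X Y : Scheme.{u}} (f : X ⟶ Y) [hf : LocallyOfFiniteType f] (d : ℕ) :
    FdegLE d f ↔ ∀ x, FlatMor.fibreDimAt f x ≤ d := by
  refine ⟨fun h x => ?_, fun h => ⟨hf, fun x => ?_⟩⟩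
  · obtain ⟨z, -, -, hz, -, -⟩ := E4O.exists_fibreDimAt_eq f x
    rw [hz]
    exact_mod_cast h.2 z
  · exact_mod_cast (E4O.fdeg_le_fibreDimAt (specializes_refl x) rfl).trans (h x)

theorem descProp_fdegLE (d : ℕ) : DescProp.{u} @LocallyOfFiniteType (FdegLE d) := by
  constructor
  intro I _ _ D c hc _ i _ _ T a _ _ ha h
  have : LocallyOfFiniteType a := ha
  let φ := LimTop61.bcSnd D a
  let cS := c.whisker (Over.forget i)
  have hS : IsLimit cS := (Functor.Initial.isLimitWhiskerEquiv (Over.forget i) c).symm hc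
  let cX := LimTop61.bcCone D c a (pullback.fst a (c.π.app i)) (pullback.snd a (c.π.app i)) pullback.condition
  have hX : IsLimit cX := LimTop61.isLimitBcCone D c hc a _ _ (IsPullback.of_hasPullback a (c.π.app i))
  have : ∀ j : Over i, CompactSpace ((Over.forget i ⋙ D).obj j) := fun j =>
    QuasiCompact.compactSpace_of_compactSpace (D.map j.hom)
  have : ∀ (j k : Over i) (f : j ⟶ k), IsAffineHom ((Over.forget i ⋙ D).map f) :=
    fun j k f => inferInstanceAs (IsAffineHom (D.map f.left))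
  have : ∀ j, LocallyOfFiniteType (φ.app j) := fun j =>
    inferInstanceAs (LocallyOfFiniteType (pullback.snd a (D.map j.hom)))
  have : ∀ j, QuasiCompact (φ.app j) := fun j =>
    inferInstanceAs (QuasiCompact (pullback.snd a (D.map j.hom)))
  have hcl : ∀ (j k : Over i) (f : j ⟶ k),
      IsClosedImmersion (pullback.lift ((LimTop61.bcDiagram D a).map f) (φ.app j) (φ.naturality f)) := by
    intro j k f
    have : IsIso (pullback.lift ((LimTop61.bcDiagram D a).map f) (φ.app j) (φ.naturality f)) := by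
      have e : pullback.lift ((LimTop61.bcDiagram D a).map f) (φ.app j) (φ.naturality f) =
          (LimTop61.bcDiagram_map_isPullback D a f).isoPullback.hom := by
        apply pullback.hom_ext
        · exact (pullback.lift_fst _ _ _).trans (IsPullback.isoPullback_hom_fst _).symm
        · exact (pullback.lift_snd _ _ _).trans (IsPullback.isoPullback_hom_snd _).symm
      rw [e]; infer_instance
    infer_instance
  have hlft : LocallyOfFiniteType (pullback.snd a (c.π.app i)) := h.1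
  obtain ⟨j, hj⟩ := LimTop61.exists_fibre_dim_le_stage φ cX cS hX hS hcl
    (pullback.snd a (c.π.app i)) (fun j => by
      show _ ≫ c.π.app j.left = cX.π.app j ≫ pullback.snd a (D.map j.hom)
      exact (pullback.lift_snd _ _ _).symm) d
    (fun s => (E4O.dim_fiber_le_iff (pullback.snd a (c.π.app i)) s _).2 fun x _ => by exact_mod_cast h.2 x)
  refine ⟨j.left, j.hom, inferInstance, fun x => ?_⟩
  exact_mod_cast (E4O.dim_fiber_le_iff (pullback.snd a (D.map j.hom)) _ _).1 (hj _) x rfl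

theorem S9195 {I : Type u} [SmallCategory I] [IsCofiltered I]
    (D : I ⥤ Scheme.{u}) (c : Limits.Cone D) (hc : Limits.IsLimit c)
    [∀ (i j : I) (f : i ⟶ j), IsAffineHom (D.map f)] (i₀ : I) [CompactSpace (D.obj i₀)]
    [QuasiSeparatedSpace (D.obj i₀)] {X₀ Y₀ : Scheme.{u}} (f₀ : X₀ ⟶ Y₀) (g₀ : Y₀ ⟶ D.obj i₀)
    [CompactSpace X₀] [QuasiSeparatedSpace X₀] [CompactSpace Y₀] [QuasiSeparatedSpace Y₀]
    [LocallyOfFiniteType f₀] (d : ℕ)
    {X Y : Scheme.{u}} (f : X ⟶ Y) (g : Y ⟶ c.pt) (qY : Y ⟶ Y₀) (qX : X ⟶ X₀)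
    (hY : IsPullback qY g g₀ (c.π.app i₀)) (hX : IsPullback qX f f₀ qY)
    (hd : ∀ x : X, FlatMor.fibreDimAt f x ≤ d) :
    ∃ (i : I) (φ : i ⟶ i₀) (Xi Yi : Scheme.{u}) (fi : Xi ⟶ Yi) (gi : Yi ⟶ D.obj i) (pY : Yi ⟶ Y₀)
      (pX : Xi ⟶ X₀), IsPullback pY gi g₀ (D.map φ) ∧ IsPullback pX fi f₀ pY ∧
        ∀ x : Xi, FlatMor.fibreDimAt fi x ≤ d := by
  have := respectsIso_lft.{u}
  have := respectsIso_fdegLE.{u} d
  have : LocallyOfFiniteType f := MorphismProperty.of_isPullback hX ‹_›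
  obtain ⟨j, φ, Xi, Yi, fi, gi, pY, pX, h1, h2, h3⟩ :=
    (descProp_fdegLE d).wrap D c hc i₀ f₀ g₀ ‹_› f g qY qX hY hX ((fdegLE_iff f d).2 hd)
  exact ⟨j, φ, Xi, Yi, fi, gi, pY, pX, h1, h2, @(fdegLE_iff fi (hf := h3.1) d).1 h3⟩

end Groth.Agent.Approx60
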