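import Groth.Agent.Approx60.Absolute
import Mathlib.CategoryTheory.Presentable.Directed

set_option autoImplicit false
set_option backward.isDefEq.respectTransparency false
set_option backward.defeqAttrib.useBackward true

/-! Noetherian approximation indexed by directed sets. -/

universe u

open CategoryTheory CategoryTheory.Limits AlgebraicGeometry Opposite

namespace Groth.Agent.Approx60

/-- Cofiltered index categories may be replaced by directed sets. -/
theorem exists_directed_initial (J : Type u) [SmallCategory J] [IsCofiltered J] :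
    ∃ (α : Type u) (_ : Preorder α) (_ : IsDirected α (fun a b => a ≤ b)) (_ : Nonempty α)
      (G : αᵒᵖ ⥤ J), G.Initial := by
  obtain ⟨α, _, _, _, F, _⟩ := IsFiltered.exists_directed Jᵒᵖ
  exact ⟨α, inferInstance, inferInstance, inferInstance, F.leftOp, inferInstance⟩

lemma preimage_opensRange_of_isPullback {U W X Y : Scheme.{u}} {g : U ⟶ W} {iU : U ⟶ X} {iV : W ⟶ Y}
    {f : X ⟶ Y} [IsOpenImmersion iU] [IsOpenImmersion iV] (h : IsPullback g iU iV f) :
    f ⁻¹ᵁ iV.opensRange = iU.opensRange := by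
  refine SetLike.coe_injective ?_
  have := congr($(h.isoPullback_hom_snd.symm).base)
  simp only [Scheme.Hom.coe_opensRange, this, Scheme.Hom.comp_base, TopCat.coe_comp,
    h.isoPullback.hom.surjective.range_comp, IsOpenImmersion.range_pullbackSnd]

theorem S0590 (S : Scheme.{u}) [CompactSpace S] [QuasiSeparatedSpace S] :
    ∃ (I : Type u) (_ : Preorder I) (_ : IsDirected I (fun a b => a ≤ b)) (_ : Nonempty I)
      (D : Iᵒᵖ ⥤ Scheme.{u}) (c : Limits.Cone D) (_ : Limits.IsLimit c),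
      (∀ (i j : Iᵒᵖ) (f : i ⟶ j), IsAffineHom (D.map f)) ∧
      (∀ i, CompactSpace (D.obj i) ∧
        LocallyOfFiniteType (Limits.IsTerminal.from specULiftZIsTerminal (D.obj i))) ∧
      Nonempty (c.pt ≅ S) := by
  obtain ⟨J, _, _, D, π, hD, ⟨hl⟩⟩ := exists_approximation S
  obtain ⟨α, _, _, _, G, _⟩ := exists_directed_initial J
  refine ⟨α, inferInstance, inferInstance, inferInstance, G ⋙ D, (Cone.mk S π).whisker G,
    (Functor.Initial.isLimitWhiskerEquiv G _).symm hl, fun i j f => hD.aff _ _ _,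
    fun i => ⟨hD.compact _, hD.lft _⟩, ⟨Iso.refl _⟩⟩

theorem S7447 (S : Scheme.{u}) [CompactSpace S] [QuasiSeparatedSpace S]
    (V : S.Opens) (I : Type u) [Preorder I] [IsDirected I (fun a b => a ≤ b)] [Nonempty I]
    (DV : Iᵒᵖ ⥤ Scheme.{u}) (haff : ∀ (i i' : Iᵒᵖ) (a : i ⟶ i'), IsAffineHom (DV.map a))
    (hft : ∀ i, CompactSpace (DV.obj i) ∧ LocallyOfFiniteType (Limits.IsTerminal.from specULiftZIsTerminal (DV.obj i)))
    (cV : Limits.Cone DV) (hcV : Limits.IsLimit cV) (eV : cV.pt ≅ (V : Scheme.{u})) :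
    ∃ (J : Type u) (_ : Preorder J) (_ : IsDirected J (fun a b => a ≤ b)) (_ : Nonempty J)
      (DS : Jᵒᵖ ⥤ Scheme.{u}) (cS : Limits.Cone DS) (_ : Limits.IsLimit cS) (eS : cS.pt ≅ S)
      (α : J →o I) (V' : ∀ j : J, (DS.obj (op j)).Opens)
      (φ : ∀ j : J, (V' j : Scheme.{u}) ≅ DV.obj (op (α j))),
      (∀ (j j' : Jᵒᵖ) (a : j ⟶ j'), IsAffineHom (DS.map a)) ∧
      (∀ j, CompactSpace (DS.obj j) ∧ LocallyOfFiniteType (Limits.IsTerminal.from specULiftZIsTerminal (DS.obj j))) ∧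
      (∀ (j j' : J) (h : j' ≤ j), (DS.map (homOfLE h).op) ⁻¹ᵁ (V' j') = V' j) ∧
      (∀ j : J, (eS.inv ≫ cS.π.app (op j)) ⁻¹ᵁ (V' j) = V) ∧
      (∀ j : J, ∃ ρ : (V : Scheme.{u}) ⟶ (V' j : Scheme.{u}),
        ρ ≫ (V' j).ι = V.ι ≫ eS.inv ≫ cS.π.app (op j) ∧ ρ ≫ (φ j).hom = eV.inv ≫ cV.π.app (op (α j))) ∧
      (∀ (j j' : J) (h : j' ≤ j), ∃ τ : (V' j : Scheme.{u}) ⟶ (V' j' : Scheme.{u}),
        τ ≫ (V' j').ι = (V' j).ι ≫ DS.map (homOfLE h).op ∧
        (φ j).hom ≫ DV.map (homOfLE (α.mono h)).op = τ ≫ (φ j').hom) := by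
  have hD : Good DV := ⟨haff, fun i => (hft i).1, fun i => (hft i).2⟩
  let iU : cV.pt ⟶ S := eV.hom ≫ V.ι
  obtain ⟨e⟩ := exists_extension hcV hD iU
  obtain ⟨J, _, _, _, G, _⟩ := exists_directed_initial e.J
  let β : J →o I :=
    { toFun := fun j => (e.F.obj (G.obj (op j))).unop
      monotone' := fun a b h => leOfHom (e.F.map (G.map (homOfLE h).op)).unop }
  let a : ∀ j : J, DV.obj (op (β j)) ⟶ e.D'.obj (G.obj (op j)) := fun j => e.α.app (G.obj (op j))
  have hi : ∀ j, IsOpenImmersion (a j) := fun j => e.imm _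
  have hmap : ∀ (j j' : J) (h : j' ≤ j), DV.map (homOfLE (β.mono h)).op ≫ a j' =
      a j ≫ e.D'.map (G.map (homOfLE h).op) := fun j j' h => by
    rw [Subsingleton.elim (homOfLE (β.mono h)).op (e.F.map (G.map (homOfLE h).op))]
    exact (e.sq (G.map (homOfLE h).op)).w
  have hπ : ∀ j, cV.π.app (op (β j)) ≫ a j = iU ≫ e.π.app (G.obj (op j)) := fun j => (e.sqπ _).w
  refine ⟨J, inferInstance, inferInstance, inferInstance, G ⋙ e.D', (Cone.mk S e.π).whisker G,
    (Functor.Initial.isLimitWhiskerEquiv G _).symm e.isLimit, Iso.refl _, β,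
    fun j => (a j).opensRange, fun j => (a j).isoOpensRange.symm, fun j j' f => e.good.aff _ _ _,
    fun j => ⟨e.good.compact _, e.good.lft _⟩, ?_, ?_, ?_, ?_⟩
  · intro j j' h
    show e.D'.map (G.map (homOfLE h).op) ⁻¹ᵁ (a j').opensRange = (a j).opensRange
    have := hi j
    have := hi j'
    exact preimage_opensRange_of_isPullback (e.sq (G.map (homOfLE h).op))
  · intro j
    show ((Iso.refl S).inv ≫ e.π.app (G.obj (op j))) ⁻¹ᵁ (a j).opensRange = V
    rw [Iso.refl_inv, Category.id_comp]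
    have := hi j
    have h2 : iU.opensRange = V := by
      rw [Scheme.Hom.opensRange_comp_of_isIso, Scheme.Opens.opensRange_ι]
    exact (preimage_opensRange_of_isPullback (e.sqπ (G.obj (op j)))).trans h2
  · intro j
    refine ⟨eV.inv ≫ cV.π.app (op (β j)) ≫ (a j).isoOpensRange.hom, ?_, ?_⟩
    · simp only [Category.assoc, Scheme.Hom.isoOpensRange_hom_ι, hπ]
      simp [iU]
    · simp
  · intro j j' h
    refine ⟨(a j).isoOpensRange.inv ≫ DV.map (homOfLE (β.mono h)).op ≫ (a j').isoOpensRange.hom, ?_, ?_⟩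
    · simp only [Category.assoc, Scheme.Hom.isoOpensRange_hom_ι, Functor.comp_map]
      rw [show DV.map (homOfLE (β.mono h)).op ≫ a j' = _ from hmap j j' h,
        Scheme.Hom.isoOpensRange_inv_comp_assoc]
    · simp

end Groth.Agent.Approx60
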