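import Groth.Agent.Approx60.LimitExists
import Groth.Agent.LimTop61.MaximalPoints
import Mathlib.AlgebraicGeometry.IdealSheaf.Functorial
import Mathlib.CategoryTheory.Limits.Constructions.Over.Connected

set_option autoImplicit false
set_option backward.isDefEq.respectTransparency false
set_option backward.defeqAttrib.useBackward true

/-! A property stable under thickenings, limits and splittings holds at a field-valued point. -/

universe u

open CategoryTheory CategoryTheory.Limits AlgebraicGeometry Opposite TopologicalSpace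

namespace Groth.Agent.Approx60

/-- The subscheme of the supremum of a directed family of ideal sheaves is the limit of the subschemes. -/
theorem exists_isLimit_iSup {T : Scheme.{u}} {κ : Type u} [Preorder κ] [IsDirected κ (fun a b => a ≤ b)]
    [Nonempty κ] (J : κ →o T.IdealSheafData) :
    ∃ (D : κᵒᵖ ⥤ Over T) (c : Cone D) (_ : IsLimit c),
      (∀ i, D.obj i = Over.mk (J i.unop).subschemeι) ∧ c.pt = Over.mk (⨆ k, J k).subschemeι ∧
      ∀ (i j : κᵒᵖ) (a : i ⟶ j), IsClosedImmersion (D.map a).left := by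
  let D : κᵒᵖ ⥤ Over T :=
    { obj := fun i => Over.mk (J i.unop).subschemeι
      map := fun a => Over.homMk (Scheme.IdealSheafData.inclusion (J.monotone (leOfHom a.unop)))
        (Scheme.IdealSheafData.inclusion_subschemeι _)
      map_id := fun i => by
        apply Over.OverMorphism.ext
        simp [← cancel_mono (J i.unop).subschemeι]
      map_comp := fun {i j k} a b => by
        apply Over.OverMorphism.ext
        simp [← cancel_mono (J k.unop).subschemeι] }
  let π : (Functor.const κᵒᵖ).obj (Over.mk (⨆ k, J k).subschemeι) ⟶ D :=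
    { app := fun i => Over.homMk (Scheme.IdealSheafData.inclusion (le_iSup J i.unop))
        (Scheme.IdealSheafData.inclusion_subschemeι _)
      naturality := fun i j a => by
        apply Over.OverMorphism.ext
        rw [← cancel_mono (J j.unop).subschemeι]
        simp [D] }
  have hle : ∀ s : Cone D, (⨆ k, J k).subschemeι.ker ≤ s.pt.hom.ker := fun s => by
    rw [Scheme.IdealSheafData.ker_subschemeι]
    refine iSup_le fun k => ?_
    let q : s.pt.left ⟶ (J k).subscheme := (s.π.app (op k)).left
    have e : q ≫ (J k).subschemeι = s.pt.hom := Over.w (s.π.app (op k))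
    rw [← e]
    exact (Scheme.IdealSheafData.ker_subschemeι (J k)).ge.trans (Scheme.Hom.le_ker_comp _ _)
  refine ⟨D, Cone.mk _ π,
    { lift := fun s => Over.homMk (IsClosedImmersion.lift (⨆ k, J k).subschemeι s.pt.hom (hle s))
        (IsClosedImmersion.lift_fac _ _ _)
      fac := fun s i => by
        apply Over.OverMorphism.ext
        rw [← cancel_mono (J i.unop).subschemeι]
        simp only [π, Over.comp_left, Over.homMk_left, Category.assoc,
          Scheme.IdealSheafData.inclusion_subschemeι, IsClosedImmersion.lift_fac]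
        exact (Over.w (s.π.app i)).symm
      uniq := fun s m _ => by
        apply Over.OverMorphism.ext
        rw [← cancel_mono (⨆ k, J k).subschemeι]
        simp only [Over.homMk_left, IsClosedImmersion.lift_fac]
        exact Over.w m }, fun i => rfl, rfl, fun i j a => ?_⟩
  have h : IsClosedImmersion ((D.map a).left ≫ (J j.unop).subschemeι) := by
    rw [show (D.map a).left ≫ (J j.unop).subschemeι = (J i.unop).subschemeι from Over.w (D.map a)]
    infer_instance
  exact IsClosedImmersion.of_comp (D.map a).left (J j.unop).subschemeι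

/-- Affine neighbourhoods of a point of a scheme have a one-point limit over any base, in the case of a
point without proper generizations. -/
theorem exists_limit_nhds {T S : Scheme.{u}} (a : S ⟶ T) (η : S) (hη : LimTop61.IsMaxPt η) :
    ∃ (A : Type u) (_ : SmallCategory A) (_ : IsCofiltered A) (D : A ⥤ Over T) (c : Cone D) (_ : IsLimit c),
      (∀ (i j : A) (m : i ⟶ j), IsAffineHom (D.map m).left) ∧
      (∀ i, ∃ V : S.Opens, IsAffineOpen V ∧ η ∈ V ∧ D.obj i = Over.mk (V.ι ≫ a)) ∧
      IsAffine c.pt.left ∧ Nonempty c.pt.left ∧ Subsingleton c.pt.left := by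
  let A := {V : S.affineOpens // η ∈ V.1}
  have hbasis : ∀ {U : S.Opens}, η ∈ U → ∃ V : A, V.1.1 ≤ U := fun {U} hU => by
    obtain ⟨_, ⟨W, hW, rfl⟩, hxW, hWU⟩ := S.isBasis_affineOpens.exists_subset_of_mem_open hU U.2
    exact ⟨⟨⟨W, hW⟩, hxW⟩, hWU⟩
  have : Nonempty A := ⟨(hbasis (Opens.mem_top η)).choose⟩
  have : IsCofiltered A :=
    { cone_objs := fun V W => by
        obtain ⟨X, hX⟩ := hbasis (U := V.1.1 ⊓ W.1.1) ⟨V.2, W.2⟩
        exact ⟨X, homOfLE (show X.1.1 ≤ V.1.1 from hX.trans inf_le_left),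
          homOfLE (show X.1.1 ≤ W.1.1 from hX.trans inf_le_right), trivial⟩
      cone_maps := fun {V W} f g => ⟨V, 𝟙 _, by rw [Subsingleton.elim f g]⟩ }
  have : IsConnected A := IsCofiltered.isConnected _
  let E : A ⥤ Scheme.{u} :=
    { obj := fun V => V.1.1
      map := fun {V W} m => S.homOfLE (show V.1.1 ≤ W.1.1 from leOfHom m)
      map_id := fun V => by simp [← cancel_mono V.1.1.ι]
      map_comp := fun {U V W} m n => by simp [← cancel_mono W.1.1.ι] }
  have hEaff : ∀ V, IsAffine (E.obj V) := fun V => V.1.2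
  have : HasLimit E := hasLimit_of_isAffine E
  let cE := limit.cone E
  have hcE : IsLimit cE := limit.isLimit E
  have hEmap : ∀ (i j : A) (m : i ⟶ j), IsAffineHom (E.map m) := fun i j m =>
    have := hEaff i; have := hEaff j; inferInstance
  let p : ∀ V : A, cE.pt ⟶ S := fun V => cE.π.app V ≫ V.1.1.ι
  have hp : ∀ V W : A, p V = p W := fun V W => by
    obtain ⟨X, l, r, -⟩ := IsCofilteredOrEmpty.cone_objs V W
    simp only [p, ← cE.w l, ← cE.w r, Category.assoc, E, Scheme.homOfLE_ι]
  obtain ⟨V₀⟩ := ‹Nonempty A›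
  let D : A ⥤ Over T :=
    { obj := fun V => Over.mk (V.1.1.ι ≫ a)
      map := fun {V W} m => Over.homMk (E.map m) (by simp [E])
      map_id := fun V => by apply Over.OverMorphism.ext; simp; rfl
      map_comp := fun m n => by apply Over.OverMorphism.ext; simp }
  let π : (Functor.const A).obj (Over.mk (p V₀ ≫ a)) ⟶ D :=
    { app := fun V => Over.homMk (cE.π.app V) (by
        show cE.π.app V ≫ V.1.1.ι ≫ a = p V₀ ≫ a
        rw [hp V₀ V, Category.assoc])
      naturality := fun V W m => by
        apply Over.OverMorphism.ext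
        simpa [D] using (cE.w m).symm }
  have hl : IsLimit ((Over.forget T).mapCone (Cone.mk _ π)) := hcE
  have hcq : ∀ V, CompactSpace (E.obj V) := fun V => have := hEaff V; inferInstance
  have hne : ∀ V, Nonempty (E.obj V) := fun V => ⟨⟨η, V.2⟩⟩
  have : IsAffineHom (cE.π.app V₀) := isAffineHom_π_app E cE hcE V₀
  refine ⟨A, inferInstance, inferInstance, D, Cone.mk _ π, isLimitOfReflects (Over.forget T) hl,
    fun i j m => hEmap i j m, fun V => ⟨V.1.1, V.1.2, V.2, rfl⟩, ?_, ?_, ?_⟩
  · exact isAffine_of_isAffineHom (cE.π.app V₀)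
  · exact Scheme.nonempty_of_isLimit E cE hcE
  · refine ⟨fun z z' => ?_⟩
    have key : ∀ (w : cE.pt) (V : A), p V w = η := fun w V => by
      refine hη _ (specializes_iff_forall_open.mpr fun U hU hηU => ?_)
      obtain ⟨W, hW⟩ := hbasis (U := ⟨U, hU⟩) hηU
      rw [hp V W]
      exact hW (cE.π.app W w).2
    refine LimTop61.eq_of_forall_π_apply_eq E cE hcE fun V => ?_
    exact Subtype.ext ((key z V).trans (key z' V).symm)

theorem S6666 (T : Scheme.{u}) [CompactSpace T] [QuasiSeparatedSpace T]
    [Nonempty T] (P : ∀ ⦃T' : Scheme.{u}⦄, (T' ⟶ T) → Prop)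
    (h1 : ∀ ⦃T' T'' : Scheme.{u}⦄ (a : T' ⟶ T) (t : T'' ⟶ T') [IsClosedImmersion t] [Surjective t]
      [CompactSpace T'] [QuasiSeparatedSpace T'] [CompactSpace T''] [QuasiSeparatedSpace T''], P (t ≫ a) ↔ P a)
    (h2 : ∀ ⦃I : Type u⦄ [SmallCategory I] [IsCofiltered I] (D : I ⥤ Over T) (c : Limits.Cone D) (_ : Limits.IsLimit c),
      (∀ (i j : I) (m : i ⟶ j), IsAffineHom (D.map m).left) →
      (∀ i, CompactSpace (D.obj i).left ∧ QuasiSeparatedSpace (D.obj i).left) →
      (∀ i, P (D.obj i).hom) → P c.pt.hom)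
    (h3 : ∀ ⦃T' Z V : Scheme.{u}⦄ (a : T' ⟶ T) [CompactSpace T'] [QuasiSeparatedSpace T'] (i : Z ⟶ T') [IsClosedImmersion i]
      (j : V ⟶ T') [IsOpenImmersion j] [CompactSpace V], Set.range j = (Set.range i)ᶜ → P a → P (j ≫ a) ∨ P (i ≫ a))
    (hT : P (𝟙 T)) :
    ∃ (K : Type u) (_ : Field K) (t : Spec (CommRingCat.of K) ⟶ T), P t := by
  have hqc : ∀ I : T.IdealSheafData, CompactSpace I.subscheme := fun I =>
    QuasiCompact.compactSpace_of_compactSpace I.subschemeι
  have hqs : ∀ I : T.IdealSheafData, QuasiSeparatedSpace I.subscheme := fun I =>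
    quasiSeparatedSpace_of_quasiSeparated I.subschemeι
  let s : Set T.IdealSheafData := {I | (I.support : Set T).Nonempty ∧ P I.subschemeι}
  have hbot : (⊥ : T.IdealSheafData) ∈ s := by
    refine ⟨by simp, ?_⟩
    have : IsIso (⊥ : T.IdealSheafData).subschemeι := (Scheme.isIso_subschemeι_iff_eq_bot _).mpr rfl
    have := hqc ⊥; have := hqs ⊥
    exact Category.comp_id ((⊥ : T.IdealSheafData).subschemeι) ▸ (h1 (𝟙 T) _).mpr hT
  obtain ⟨I, -, ⟨hIne, hPI⟩, hImax⟩ := zorn_le_nonempty₀ s (fun c hcs hc y hy => by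
    have : Nonempty c := ⟨⟨y, hy⟩⟩
    have : IsDirected c (fun a b => a ≤ b) := ⟨fun a b =>
      (hc.total a.2 b.2).elim (fun h => ⟨b, h, le_rfl⟩) (fun h => ⟨a, le_rfl, h⟩)⟩
    let J : c →o T.IdealSheafData := ⟨Subtype.val, fun _ _ h => h⟩
    obtain ⟨D, cn, hl, hobj, hpt, hmap⟩ := exists_isLimit_iSup J
    refine ⟨⨆ k, J k, ⟨?_, ?_⟩, fun z hz => le_iSup J ⟨z, hz⟩⟩
    · have := hqc
      have h := h2 D cn hl (fun i j m => have := hmap i j m; inferInstance)
      have hne : Nonempty cn.pt.left := by
        have : IsConnected (↥c)ᵒᵖ := IsCofiltered.isConnected _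
        have : ∀ i, Nonempty ((D ⋙ Over.forget T).obj i) := fun i => by
          show Nonempty (D.obj i).left
          rw [hobj i]
          obtain ⟨x, hx⟩ := (hcs i.unop.2).1
          obtain ⟨y, -⟩ := (Scheme.IdealSheafData.range_subschemeι _).ge hx
          exact ⟨y⟩
        have : ∀ i, CompactSpace ((D ⋙ Over.forget T).obj i) := fun i => by
          show CompactSpace (D.obj i).left
          rw [hobj i]; exact hqc _
        have : ∀ (i j : (↥c)ᵒᵖ) (m : i ⟶ j), IsAffineHom ((D ⋙ Over.forget T).map m) := fun i j m =>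
          have := hmap i j m; inferInstanceAs (IsAffineHom (D.map m).left)
        exact Scheme.nonempty_of_isLimit (D ⋙ Over.forget T) _ (isLimitOfPreserves (Over.forget T) hl)
      rw [hpt] at hne
      obtain ⟨x⟩ := hne
      exact ⟨_, (Scheme.IdealSheafData.range_subschemeι _).le ⟨x, rfl⟩⟩
    · have h := h2 D cn hl (fun i j m => have := hmap i j m; inferInstance)
        (fun i => by rw [hobj i]; exact ⟨hqc _, hqs _⟩)
        (fun i => by rw [hobj i]; exact (hcs i.unop.2).2)
      rw [hpt] at h
      exact h) ⊥ hbot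
  have := hqc I
  have := hqs I
  let S := I.subscheme
  let a : S ⟶ T := I.subschemeι
  obtain ⟨x, hx⟩ := hIne
  obtain ⟨y, -⟩ := (Scheme.IdealSheafData.range_subschemeι I).ge hx
  obtain ⟨η, hη, -⟩ := LimTop61.exists_isMaxPt_specializes (X := S) y
  have hV : ∀ V : S.Opens, IsAffineOpen V → η ∈ V → P (V.ι ≫ a) := fun V hV hηV => by
    have : CompactSpace (V : Scheme.{u}) := isCompact_iff_compactSpace.mp hV.isCompact
    have : QuasiSeparatedSpace (V : Scheme.{u}) :=
      (isQuasiSeparated_iff_quasiSeparatedSpace _ V.2).mp hV.isQuasiSeparated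
    let C : Closeds T := ⟨a '' (V : Set S)ᶜ, a.isClosedEmbedding.isClosedMap _ V.2.isClosed_compl⟩
    let J := Scheme.IdealSheafData.vanishingIdeal C
    have hCI : C ≤ I.support := by
      rintro _ ⟨z, -, rfl⟩
      exact (Scheme.IdealSheafData.range_subschemeι I).le ⟨z, rfl⟩
    have hIJ : I ≤ J := Scheme.IdealSheafData.le_support_iff_le_vanishingIdeal.mp hCI
    let i : J.subscheme ⟶ S := Scheme.IdealSheafData.inclusion hIJ
    have hi : i ≫ a = J.subschemeι := Scheme.IdealSheafData.inclusion_subschemeι _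
    have : IsClosedImmersion (i ≫ a) := by rw [hi]; infer_instance
    have : IsClosedImmersion i := IsClosedImmersion.of_comp i a
    have hJC : (J.support : Set T) = a '' (V : Set S)ᶜ := Scheme.IdealSheafData.coe_support_vanishingIdeal C
    have hr : Set.range i = (V : Set S)ᶜ := by
      refine Set.image_injective.mpr a.isClosedEmbedding.injective ?_
      rw [← hJC, ← Scheme.IdealSheafData.range_subschemeι, ← hi, Scheme.Hom.comp_base, TopCat.coe_comp,
        Set.range_comp]
    rcases h3 a i V.ι (by rw [hr, compl_compl, Scheme.Opens.range_ι]) hPI with h | h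
    · exact h
    · rcases (J.support : Set T).eq_empty_or_nonempty with he | hne
      · have : V = ⊤ := by
          refine top_le_iff.mp fun z _ => ?_
          by_contra hz
          exact Set.eq_empty_iff_forall_notMem.mp he (a z) (hJC.ge ⟨z, hz, rfl⟩)
        have : Surjective V.ι := ⟨fun z => ⟨⟨z, this ▸ trivial⟩, rfl⟩⟩
        have : IsIso V.ι := (isIso_iff_isOpenImmersion_and_epi_base V.ι).mpr
          ⟨inferInstance, (TopCat.epi_iff_surjective _).mpr V.ι.surjective⟩
        exact (h1 a V.ι).mpr hPI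
      · have hs : J ∈ s := ⟨hne, hi ▸ h⟩
        have hC' : a η ∈ (J.support : Set T) :=
          (Scheme.IdealSheafData.support_antitone (hImax hs hIJ)) ((Scheme.IdealSheafData.range_subschemeι I).le ⟨η, rfl⟩)
        rw [hJC] at hC'
        obtain ⟨z, hz, e⟩ := hC'
        exact absurd (a.isClosedEmbedding.injective e ▸ hηV) hz
  obtain ⟨A, _, _, D, c, hc, haff, hobj, hcaff, hne, hsub⟩ := exists_limit_nhds a η hη
  have hP : P c.pt.hom := h2 D c hc haff (fun i => by
      obtain ⟨V, hV, -, e⟩ := hobj i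
      rw [e]
      exact ⟨isCompact_iff_compactSpace.mp hV.isCompact,
        (isQuasiSeparated_iff_quasiSeparatedSpace _ V.2).mp hV.isQuasiSeparated⟩)
    (fun i => by
      obtain ⟨V, hV', hηV, e⟩ := hobj i
      rw [e]
      exact hV V hV' hηV)
  let L := c.pt.left
  let R := Γ(L, ⊤)
  have : IsAffine L := hcaff
  have : Subsingleton (Spec R : Scheme.{u}) := (Equiv.subsingleton_congr (Scheme.homeoOfIso L.isoSpec).toEquiv).mp hsub
  have : Nonempty (Spec R : Scheme.{u}) := ⟨L.isoSpec.hom hne.some⟩
  have : Nontrivial R := by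
    obtain ⟨p⟩ := ‹Nonempty (Spec R : Scheme.{u})›
    exact PrimeSpectrum.nonempty_iff_nontrivial.mp ⟨p⟩
  obtain ⟨m, hm⟩ := Ideal.exists_maximal R
  let _ : Field (R ⧸ m) := Ideal.Quotient.field m
  let t : Spec (CommRingCat.of (R ⧸ m)) ⟶ L := Spec.map (CommRingCat.ofHom (Ideal.Quotient.mk m)) ≫ L.isoSpec.inv
  have : IsClosedImmersion (Spec.map (CommRingCat.ofHom (Ideal.Quotient.mk m))) :=
    IsClosedImmersion.spec_of_surjective _ Ideal.Quotient.mk_surjective
  have : Surjective (Spec.map (CommRingCat.ofHom (Ideal.Quotient.mk m))) :=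
    ⟨fun _ => ⟨⟨⊥, Ideal.isPrime_bot⟩, Subsingleton.elim _ _⟩⟩
  have : IsClosedImmersion t := inferInstance
  have : Surjective t := inferInstance
  exact ⟨R ⧸ m, inferInstance, t ≫ c.pt.hom, (h1 c.pt.hom t).mpr hP⟩

end Groth.Agent.Approx60
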