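import Groth.Agent.Approx60.FlatDesc
import Groth.Agent.Lim60.Props
import Groth.Agent.LimTop61.Points
import Mathlib.AlgebraicGeometry.Morphisms.FlatRank
import Groth.Prelude.Def_Mor2

/-! Being finite locally free of a given degree descends along limits. -/

set_option autoImplicit false
set_option backward.isDefEq.respectTransparency false
set_option backward.defeqAttrib.useBackward true

universe u

open CategoryTheory CategoryTheory.Limits AlgebraicGeometry Opposite TopologicalSpace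

noncomputable section

namespace Groth.Agent.Approx60

open LimDesc62

theorem respectsIso_finLocFreeOfDeg (d : ℕ) :
    MorphismProperty.RespectsIso (C := Scheme.{u}) (fun _ _ f => Mor2.IsFinLocFreeOfDeg d f) := by
  refine MorphismProperty.RespectsIso.mk _ (fun {X Y Z} e f h => ?_) fun {X Y Z} e f h => ?_
  · obtain ⟨⟨h1, h2, h3⟩, hd⟩ := h
    exact ⟨⟨inferInstance, inferInstance, inferInstance⟩, fun y => by
      rw [Scheme.Hom.finrank_comp_left_of_isIso]; exact hd y⟩
  · obtain ⟨⟨h1, h2, h3⟩, hd⟩ := h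
    refine ⟨⟨inferInstance, inferInstance, inferInstance⟩, fun y => ?_⟩
    rw [Scheme.Hom.finrank_of_isPullback (𝟙 X) (f ≫ e.hom) f e.inv
      (IsPullback.of_horiz_isIso ⟨by simp⟩) y]
    exact hd _

theorem descProp_finLocFreeOfDeg (d : ℕ) :
    DescProp.{u} @LocallyOfFinitePresentation (fun _ _ f => Mor2.IsFinLocFreeOfDeg d f) := by
  constructor
  intro I _ _ D c hc _ i _ _ T a _ _ ha h
  have : LocallyOfFinitePresentation a := ha
  obtain ⟨⟨hfin, hflat, -⟩, hdeg⟩ := h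
  obtain ⟨j, φ, hj⟩ := Lim60.descProp_isFinite.desc D c hc i a inferInstance hfin
  obtain ⟨k, ψ, hk⟩ := descProp_flat.desc D c hc i a ha hflat
  obtain ⟨m, μ, ν, hμν⟩ := IsCofiltered.cospan φ ψ
  have hfin' : IsFinite (pullback.snd a (D.map (μ ≫ φ))) :=
    prop_snd_of_eq_comp (P := @IsFinite) (D.map μ) (D.map_comp μ φ) hj
  have hflat' : Flat (pullback.snd a (D.map (μ ≫ φ))) :=
    prop_snd_of_eq_comp (P := @Flat) (D.map ν) (by rw [hμν, D.map_comp]) hk
  let b := pullback.snd a (D.map (μ ≫ φ))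
  have : IsFinite b := hfin'
  have : Flat b := hflat'
  have : LocallyOfFinitePresentation b := MorphismProperty.pullback_snd _ _ ha
  have : CompactSpace (D.obj m) := QuasiCompact.compactSpace_of_compactSpace (D.map (μ ≫ φ))
  have hcl : IsClopen {y : D.obj m | b.finrank y ≠ d} := b.isLocallyConstant_finrank.isClopen_fiber (y := d) |>.compl
  let U : (D.obj m).Opens := ⟨_, hcl.isOpen⟩
  have : CompactSpace (U : Scheme.{u}) := isCompact_iff_compactSpace.1 hcl.isClosed.isCompact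
  have hlim : IsPullback (pullback.fst b (c.π.app m) ≫ pullback.fst a (D.map (μ ≫ φ))) (pullback.snd b (c.π.app m))
      a (c.π.app i) := by
    have := (IsPullback.of_hasPullback b (c.π.app m)).paste_horiz (IsPullback.of_hasPullback a (D.map (μ ≫ φ)))
    rwa [c.w] at this
  have hempty : IsEmpty ↥(pullback U.ι (c.π.app m)) := ⟨fun z => by
    have h1 : (pullback.fst U.ι (c.π.app m) z).1 ∈ {y : D.obj m | b.finrank y ≠ d} :=
      (pullback.fst U.ι (c.π.app m) z).2
    have e : c.π.app m (pullback.snd U.ι (c.π.app m) z) = (pullback.fst U.ι (c.π.app m) z).1 := by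
      rw [← Scheme.Hom.comp_apply, ← pullback.condition]; rfl
    refine h1 ?_
    have : IsFinite (pullback.snd a (c.π.app i)) := hfin
    have : Flat (pullback.snd a (c.π.app i)) := hflat
    rw [← e, ← Scheme.Hom.finrank_pullback_snd b (c.π.app m), ← hlim.isoPullback_hom_snd,
      Scheme.Hom.finrank_comp_left_of_isIso]
    exact hdeg _⟩
  obtain ⟨n, χ, hn⟩ := LimTop61.exists_isEmpty_pullback D c hc U.ι hempty
  refine ⟨n, χ ≫ μ ≫ φ, ?_⟩
  have := respectsIso_finLocFreeOfDeg.{u} d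
  have hn' : IsPullback (pullback.fst b (D.map χ) ≫ pullback.fst a (D.map (μ ≫ φ))) (pullback.snd b (D.map χ))
      a (D.map (χ ≫ μ ≫ φ)) := by
    rw [D.map_comp χ]
    exact (IsPullback.of_hasPullback b (D.map χ)).paste_horiz (IsPullback.of_hasPullback a (D.map (μ ≫ φ)))
  refine (prop_iff_of_isPullback (P := fun _ _ f => Mor2.IsFinLocFreeOfDeg d f) hn').1
    ⟨⟨inferInstance, inferInstance, inferInstance⟩, fun y => ?_⟩
  rw [Scheme.Hom.finrank_pullback_snd]
  by_contra hne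
  obtain ⟨z, -, -⟩ := Scheme.Pullback.exists_preimage_pullback (f := U.ι) (g := D.map χ) ⟨D.map χ y, hne⟩ y rfl
  exact hn.false z

theorem S9197 {I : Type u} [SmallCategory I] [IsCofiltered I]
    (D : I ⥤ Scheme.{u}) (c : Limits.Cone D) (hc : Limits.IsLimit c)
    [∀ (i j : I) (f : i ⟶ j), IsAffineHom (D.map f)] (i₀ : I) [CompactSpace (D.obj i₀)]
    [QuasiSeparatedSpace (D.obj i₀)] {X₀ Y₀ : Scheme.{u}} (f₀ : X₀ ⟶ Y₀) (g₀ : Y₀ ⟶ D.obj i₀)
    [CompactSpace X₀] [QuasiSeparatedSpace X₀] [CompactSpace Y₀] [QuasiSeparatedSpace Y₀]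
    [LocallyOfFinitePresentation f₀] (d : ℕ)
    {X Y : Scheme.{u}} (f : X ⟶ Y) (g : Y ⟶ c.pt) (qY : Y ⟶ Y₀) (qX : X ⟶ X₀)
    (hY : IsPullback qY g g₀ (c.π.app i₀)) (hX : IsPullback qX f f₀ qY) (hf : Mor2.IsFinLocFreeOfDeg d f) :
    ∃ (i : I) (φ : i ⟶ i₀) (Xi Yi : Scheme.{u}) (fi : Xi ⟶ Yi) (gi : Yi ⟶ D.obj i) (pY : Yi ⟶ Y₀)
      (pX : Xi ⟶ X₀), IsPullback pY gi g₀ (D.map φ) ∧ IsPullback pX fi f₀ pY ∧ Mor2.IsFinLocFreeOfDeg d fi := by
  have := respectsIso_lfp.{u}
  have := respectsIso_finLocFreeOfDeg.{u} d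
  exact (descProp_finLocFreeOfDeg d).wrap D c hc i₀ f₀ g₀ ‹_› f g qY qX hY hX hf

end Groth.Agent.Approx60
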