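import Groth.Agent.Stage62.FlatStageScheme
import Groth.Agent.Stage62.NoethDescent
import Groth.Agent.FBase64.ReducedModField
import Groth.Agent.LimTop61.AmpleStage
import Groth.Agent.LimDesc62.Wrap

/-! Flatness of morphisms descends along limits. -/

set_option autoImplicit false
set_option backward.isDefEq.respectTransparency.types false

universe u

open CategoryTheory CategoryTheory.Limits AlgebraicGeometry Opposite TopologicalSpace

noncomputable section

namespace Groth.Agent.Approx60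

open LimDesc62

theorem flat_of_isFlatOver_structure {X Y : Scheme.{u}} (π : X ⟶ Y)
    (h : FlatMod.IsFlatOver π (Coh.structureModule X)) : Flat π := by
  refine Flat.of_stalkMap π fun x => ?_
  have hx := h x
  unfold FlatMod.IsFlatOverAt at hx
  letI := FlatMod.moduleStalkOver π (Coh.structureModule X) x
  letI : Algebra (Y.presheaf.stalk (π x)) (X.presheaf.stalk x) := (π.stalkMap x).hom.toAlgebra
  haveI : IsScalarTower (Y.presheaf.stalk (π x)) (X.presheaf.stalk x)
      ((Coh.structureModule X).presheaf.stalk x) :=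
    ⟨fun a b n => by rw [Algebra.smul_def]; exact mul_smul ((π.stalkMap x).hom a) b n⟩
  exact (Module.Flat.of_linearEquiv ((QC70.unitStalkEquiv x).restrictScalars (Y.presheaf.stalk (π x))) :
    Module.Flat (Y.presheaf.stalk (π x)) (X.presheaf.stalk x))

theorem isFlatOver_pullback_structure_iff {X X₀ Y : Scheme.{u}} (f : X ⟶ Y) (q : X ⟶ X₀) :
    FlatMod.IsFlatOver f ((Scheme.Modules.pullback q).obj (Coh.structureModule X₀)) ↔ Flat f := by
  refine ⟨fun h => flat_of_isFlatOver_structure f fun x =>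
    Stage62.isFlatOverAt_of_iso f (PicLoc.pullbackStructureIso q) x (h x), fun _ x => ?_⟩
  exact Stage62.isFlatOverAt_of_iso f (PicLoc.pullbackStructureIso q).symm x
    (FBase64.RedField.isFlatOver_structure f x)

theorem descProp_flat : DescProp.{u} @LocallyOfFinitePresentation @Flat := by
  constructor
  intro I _ _ D c hc _ i _ _ T a _ _ ha h
  have : LocallyOfFinitePresentation a := ha
  have : LocallyOfFinitePresentation (a ≫ 𝟙 (D.obj i)) := by rw [Category.comp_id]; exact ha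
  have : QuasiCompact (a ≫ 𝟙 (D.obj i)) := by rw [Category.comp_id]; infer_instance
  have : IsIso (𝟙 c.pt) := IsIso.id _
  have : IsIso (𝟙 (D.obj i)) := IsIso.id _
  have hY : IsPullback (c.π.app i) (𝟙 c.pt) (𝟙 (D.obj i)) (c.π.app i) :=
    IsPullback.of_vert_isIso ⟨by simp⟩
  obtain ⟨j, φ, Xi, Yi, fi, gi, pY, pX, hYi, hXi, hflat⟩ :=
    (Stage62.isFlatOver_iff_exists_stage D c hc i a (𝟙 (D.obj i)) (Coh.structureModule T)
      (pullback.snd a (c.π.app i)) (𝟙 c.pt) (c.π.app i) (pullback.fst a (c.π.app i)) hY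
      (IsPullback.of_hasPullback a (c.π.app i))).1 ((isFlatOver_pullback_structure_iff _ _).2 h)
  refine ⟨j, φ, ?_⟩
  have hfi : Flat fi := (isFlatOver_pullback_structure_iff _ _).1 hflat
  have : IsIso gi := MorphismProperty.of_isPullback (P := MorphismProperty.isomorphisms Scheme.{u}) hYi
    (inferInstanceAs (IsIso (𝟙 (D.obj i))))
  have e : pY = gi ≫ D.map φ := by rw [← hYi.w, Category.comp_id]
  have hX' : IsPullback pX (fi ≫ gi) a (D.map φ) :=
    hXi.of_iso (Iso.refl _) (Iso.refl _) (asIso gi) (Iso.refl _) (by simp) (by simp) (by simp) (by simp [e])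
  exact (prop_iff_of_isPullback (P := @Flat) hX').1 (inferInstance : Flat (fi ≫ gi))

theorem S2075 {I : Type u} [SmallCategory I] [IsCofiltered I]
    (D : I ⥤ Scheme.{u}) (c : Limits.Cone D) (hc : Limits.IsLimit c)
    [∀ (i j : I) (f : i ⟶ j), IsAffineHom (D.map f)] (i₀ : I) [CompactSpace (D.obj i₀)]
    [QuasiSeparatedSpace (D.obj i₀)] {X₀ Y₀ : Scheme.{u}} (f₀ : X₀ ⟶ Y₀) (g₀ : Y₀ ⟶ D.obj i₀)
    [CompactSpace X₀] [QuasiSeparatedSpace X₀] [CompactSpace Y₀] [QuasiSeparatedSpace Y₀]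
    {X Y : Scheme.{u}} (f : X ⟶ Y) (g : Y ⟶ c.pt) (qY : Y ⟶ Y₀) (qX : X ⟶ X₀)
    (hY : IsPullback qY g g₀ (c.π.app i₀)) (hX : IsPullback qX f f₀ qY) [LocallyOfFinitePresentation f₀] [Flat f] :
    ∃ (i : I) (φ : i ⟶ i₀) (Xi Yi : Scheme.{u}) (fi : Xi ⟶ Yi) (gi : Yi ⟶ D.obj i) (pY : Yi ⟶ Y₀)
      (pX : Xi ⟶ X₀), IsPullback pY gi g₀ (D.map φ) ∧ IsPullback pX fi f₀ pY ∧ Flat fi := by
  have := respectsIso_lfp.{u}
  exact descProp_flat.wrap D c hc i₀ f₀ g₀ ‹_› f g qY qX hY hX ‹_›

end Groth.Agent.Approx60
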