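import Mathlib.AlgebraicGeometry.Limits
import Mathlib.AlgebraicGeometry.Morphisms.OpenImmersion

set_option autoImplicit false
set_option backward.isDefEq.respectTransparency false
set_option backward.defeqAttrib.useBackward true

/-! Gluing two schemes along open immersions. -/

universe u

open CategoryTheory CategoryTheory.Limits AlgebraicGeometry

namespace Groth.Agent.Approx60

variable {W X Y : Scheme.{u}} (f : W ⟶ X) (g : W ⟶ Y) [IsOpenImmersion f] [IsOpenImmersion g]

instance isOpenImmersion_inl : IsOpenImmersion (pushout.inl f g) :=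
  inferInstanceAs (IsOpenImmersion (colimit.ι (span f g) WalkingSpan.left))

instance isOpenImmersion_inr : IsOpenImmersion (pushout.inr f g) :=
  inferInstanceAs (IsOpenImmersion (colimit.ι (span f g) WalkingSpan.right))

lemma pushout_jointly_surjective (p : (pushout f g : Scheme.{u})) :
    (∃ x, pushout.inl f g x = p) ∨ ∃ y, pushout.inr f g y = p := by
  obtain ⟨i, x, hx⟩ := Scheme.IsLocallyDirected.ι_jointly_surjective (span f g) p
  rcases i with _ | _ | _
  · refine Or.inl ⟨f x, ?_⟩
    rw [← hx, ← Scheme.Hom.comp_apply]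
    exact congr($(colimit.w (span f g) WalkingSpan.Hom.fst) x)
  · exact Or.inl ⟨x, hx⟩
  · exact Or.inr ⟨x, hx⟩

lemma exists_of_inl_eq_inr {x : X} {y : Y} (h : pushout.inl f g x = pushout.inr f g y) :
    ∃ w, f w = x ∧ g w = y := by
  obtain ⟨k, fi, fj, z, h1, h2⟩ := (Scheme.IsLocallyDirected.ι_eq_ι_iff (span f g)
    (i := WalkingSpan.left) (j := WalkingSpan.right) (xi := x) (xj := y)).mp h
  rcases k with _ | _ | _
  · obtain rfl : fi = WalkingSpan.Hom.fst := Subsingleton.elim _ _
    obtain rfl : fj = WalkingSpan.Hom.snd := Subsingleton.elim _ _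
    exact ⟨z, h1, h2⟩
  · exact nomatch fj
  · exact nomatch fi

lemma inl_preimage_opensRange_inr : pushout.inl f g ⁻¹ᵁ (pushout.inr f g).opensRange = f.opensRange := by
  ext x
  constructor
  · rintro ⟨y, hy⟩
    obtain ⟨w, hw, -⟩ := exists_of_inl_eq_inr f g hy.symm
    exact ⟨w, hw⟩
  · rintro ⟨w, rfl⟩
    exact ⟨g w, by rw [← Scheme.Hom.comp_apply, ← Scheme.Hom.comp_apply, pushout.condition]⟩

lemma inr_preimage_opensRange_inl : pushout.inr f g ⁻¹ᵁ (pushout.inl f g).opensRange = g.opensRange := by
  ext y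
  constructor
  · rintro ⟨x, hx⟩
    obtain ⟨w, -, hw⟩ := exists_of_inl_eq_inr f g hx
    exact ⟨w, hw⟩
  · rintro ⟨w, rfl⟩
    exact ⟨f w, by rw [← Scheme.Hom.comp_apply, ← Scheme.Hom.comp_apply, pushout.condition]⟩

lemma sup_opensRange : (pushout.inl f g).opensRange ⊔ (pushout.inr f g).opensRange = ⊤ := by
  refine top_le_iff.mp fun p _ => ?_
  rcases pushout_jointly_surjective f g p with ⟨x, hx⟩ | ⟨y, hy⟩
  · exact Or.inl ⟨x, hx⟩
  · exact Or.inr ⟨y, hy⟩

lemma compactSpace_pushout [CompactSpace X] [CompactSpace Y] : CompactSpace (pushout f g : Scheme.{u}) := by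
  refine ⟨?_⟩
  have : (Set.univ : Set (pushout f g : Scheme.{u})) =
      Set.range (pushout.inl f g) ∪ Set.range (pushout.inr f g) :=
    (Set.eq_univ_of_forall fun p => pushout_jointly_surjective f g p).symm
  rw [this]
  exact (isCompact_range (pushout.inl f g).continuous).union (isCompact_range (pushout.inr f g).continuous)

/-- A scheme covered by two open subschemes is their pushout along the intersection. -/
theorem isIso_desc {S : Scheme.{u}} (iX : X ⟶ S) (iY : Y ⟶ S) [IsOpenImmersion iX] [IsOpenImmersion iY]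
    (w : f ≫ iX = g ≫ iY) (hcov : ∀ s : S, s ∈ Set.range iX ∨ s ∈ Set.range iY)
    (hint : ∀ x y, iX x = iY y → x ∈ Set.range f) : IsIso (pushout.desc iX iY w) := by
  have hl : ∀ x, pushout.desc iX iY w (pushout.inl f g x) = iX x := fun x => by
    rw [← Scheme.Hom.comp_apply, pushout.inl_desc]
  have hr : ∀ y, pushout.desc iX iY w (pushout.inr f g y) = iY y := fun y => by
    rw [← Scheme.Hom.comp_apply, pushout.inr_desc]
  have key : ∀ x y, iX x = iY y → pushout.inl f g x = pushout.inr f g y := by
    intro x y e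
    obtain ⟨z, rfl⟩ := hint x y e
    have : iY (g z) = iY y := by
      rw [← e, ← Scheme.Hom.comp_apply, ← w, Scheme.Hom.comp_apply]
    rw [← iY.isOpenEmbedding.injective this, ← Scheme.Hom.comp_apply, ← Scheme.Hom.comp_apply,
      pushout.condition]
  have hinj : Function.Injective (pushout.desc iX iY w) := by
    intro p p' e
    rcases pushout_jointly_surjective f g p with ⟨x, rfl⟩ | ⟨y, rfl⟩ <;>
      rcases pushout_jointly_surjective f g p' with ⟨x', rfl⟩ | ⟨y', rfl⟩ <;>
      simp only [hl, hr] at e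
    · rw [iX.isOpenEmbedding.injective e]
    · exact key _ _ e
    · exact (key _ _ e.symm).symm
    · rw [iY.isOpenEmbedding.injective e]
  have : IsOpenImmersion (pushout.desc iX iY w) := by
    refine IsOpenImmersion.of_forall_source_exists _ hinj fun p => ?_
    rcases pushout_jointly_surjective f g p with ⟨x, hx⟩ | ⟨y, hy⟩
    · exact ⟨X, pushout.inl f g, inferInstance, ⟨x, hx⟩, by rw [pushout.inl_desc]; infer_instance⟩
    · exact ⟨Y, pushout.inr f g, inferInstance, ⟨y, hy⟩, by rw [pushout.inr_desc]; infer_instance⟩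
  refine isIso_of_isOpenImmersion_of_opensRange_eq_top _ (top_le_iff.mp fun s _ => ?_)
  rcases hcov s with ⟨x, rfl⟩ | ⟨y, rfl⟩
  · exact ⟨_, hl x⟩
  · exact ⟨_, hr y⟩

end Groth.Agent.Approx60
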