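import Groth.Agent.Approx60.OpenImmToAffine
import Groth.Agent.Approx60.PushoutOpen
import Mathlib.AlgebraicGeometry.AffineTransitionLimit
import Mathlib.AlgebraicGeometry.Morphisms.FiniteType
import Mathlib.AlgebraicGeometry.Noetherian

set_option autoImplicit false
set_option backward.isDefEq.respectTransparency false
set_option backward.defeqAttrib.useBackward true

/-! Noetherian approximation, the gluing step: rings at the stages. -/

universe u

open CategoryTheory CategoryTheory.Limits AlgebraicGeometry Opposite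

namespace Groth.Agent.Approx60

/-- The structure map to the integers. -/
noncomputable abbrev toZ (X : Scheme.{u}) : X ⟶ Spec (CommRingCat.of (ULift.{u} ℤ)) :=
  specULiftZIsTerminal.from X

/-- A system of schemes of finite type over the integers with affine transition maps. -/
structure Good {I : Type u} [SmallCategory I] (D : I ⥤ Scheme.{u}) : Prop where
  aff : ∀ (i j : I) (a : i ⟶ j), IsAffineHom (D.map a)
  compact : ∀ i, CompactSpace (D.obj i)
  lft : ∀ i, LocallyOfFiniteType (toZ (D.obj i))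

theorem isLocallyNoetherian_of_lft_toZ (X : Scheme.{u}) [LocallyOfFiniteType (toZ X)] :
    IsLocallyNoetherian X :=
  have : IsNoetherianRing (ULift.{u} ℤ) := isNoetherianRing_of_ringEquiv ℤ ULift.ringEquiv.symm
  LocallyOfFiniteType.isLocallyNoetherian (toZ X)

theorem quasiSeparatedSpace_of_lft_toZ (X : Scheme.{u}) [LocallyOfFiniteType (toZ X)] :
    QuasiSeparatedSpace X :=
  have := isLocallyNoetherian_of_lft_toZ X
  inferInstance

/-- The data of the gluing step. -/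
structure GlueData (S : Scheme.{u}) where
  {I : Type u}
  [catI : SmallCategory I]
  [cofI : IsCofiltered I]
  D : I ⥤ Scheme.{u}
  c : Cone D
  hc : IsLimit c
  good : Good D
  {V : Scheme.{u}}
  [affV : IsAffine V]
  iU : c.pt ⟶ S
  iV : V ⟶ S
  [immU : IsOpenImmersion iU]
  [immV : IsOpenImmersion iV]
  cover : ∀ s : S, s ∈ Set.range iU ∨ s ∈ Set.range iV
  E : ∀ j, (D.obj j).Opens
  hE : ∀ {j k : I} (a : j ⟶ k), D.map a ⁻¹ᵁ E k = E j
  hE₀ : ∀ j, c.π.app j ⁻¹ᵁ E j = iU ⁻¹ᵁ iV.opensRange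
  n : ℕ
  g : Fin n → Γ(V, ⊤)
  f : ∀ j, Fin n → Γ((E j : Scheme.{u}), ⊤)
  hf : ∀ {j k : I} (a : j ⟶ k) l, ((D.map a).resLE (E k) (E j) (hE a).ge).appTop (f k l) = f j l
  hcov : ∀ j, ⨆ l, (E j : Scheme.{u}).basicOpen (f j l) = ⊤
  haff : ∀ j l, IsAffineOpen ((E j : Scheme.{u}).basicOpen (f j l))

attribute [instance] GlueData.catI GlueData.cofI GlueData.affV GlueData.immU GlueData.immV

lemma appTop_toSpecΓ_comp {X : Scheme.{u}} {C : CommRingCat.{u}} (φ : C ⟶ Γ(X, ⊤)) (a : C) :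
    (X.toSpecΓ ≫ Spec.map φ).appTop ((Scheme.ΓSpecIso C).inv a) = φ a := by
  have e : (Scheme.ΓSpecIso C).inv ≫ (X.toSpecΓ ≫ Spec.map φ).appTop = φ := by
    rw [Scheme.Hom.comp_appTop, Scheme.toSpecΓ_appTop, ← Category.assoc, ← Scheme.ΓSpecIso_inv_naturality,
      Category.assoc, Iso.inv_hom_id, Category.comp_id]
  exact congr($e a)

lemma map_pow_mul_eq_zero {R A : CommRingCat.{u}} (f : R ⟶ A) (x a : R) (N : ℕ) (h : x ^ N * a = 0) :
    f x ^ N * f a = 0 := by
  rw [← map_pow, ← map_mul, h, map_zero]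

namespace GlueData

variable {S : Scheme.{u}} (d : GlueData S)

/-- The overlap in the limit. -/
noncomputable abbrev W : d.c.pt.Opens := d.iU ⁻¹ᵁ d.iV.opensRange

noncomputable def w : (d.W : Scheme.{u}) ⟶ d.V :=
  IsOpenImmersion.lift d.iV (d.W.ι ≫ d.iU) (by
    rintro _ ⟨x, rfl⟩
    exact x.2)

lemma w_iV : d.w ≫ d.iV = d.W.ι ≫ d.iU := IsOpenImmersion.lift_fac _ _ _

instance : IsOpenImmersion d.w :=
  have : IsOpenImmersion (d.w ≫ d.iV) := by rw [w_iV]; infer_instance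
  IsOpenImmersion.of_comp d.w d.iV

noncomputable def ρ {j k : d.I} (a : j ⟶ k) : (d.E j : Scheme.{u}) ⟶ d.E k :=
  (d.D.map a).resLE (d.E k) (d.E j) (d.hE a).ge

lemma ρ_ι {j k : d.I} (a : j ⟶ k) : d.ρ a ≫ (d.E k).ι = (d.E j).ι ≫ d.D.map a :=
  Scheme.Hom.resLE_comp_ι _ _

lemma ρ_id (j : d.I) : d.ρ (𝟙 j) = 𝟙 _ := by
  rw [← cancel_mono (d.E j).ι, ρ_ι]; simp

lemma ρ_comp {i j k : d.I} (a : i ⟶ j) (b : j ⟶ k) : d.ρ (a ≫ b) = d.ρ a ≫ d.ρ b := by
  rw [← cancel_mono (d.E k).ι, Category.assoc, ρ_ι, ρ_ι, ← Category.assoc, ρ_ι]; simp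

noncomputable def σ (j : d.I) : (d.W : Scheme.{u}) ⟶ d.E j :=
  (d.c.π.app j).resLE (d.E j) d.W (d.hE₀ j).ge

lemma σ_ι (j : d.I) : d.σ j ≫ (d.E j).ι = d.W.ι ≫ d.c.π.app j := Scheme.Hom.resLE_comp_ι _ _

lemma σ_ρ {j k : d.I} (a : j ⟶ k) : d.σ j ≫ d.ρ a = d.σ k := by
  rw [← cancel_mono (d.E k).ι, Category.assoc, ρ_ι, ← Category.assoc, σ_ι, σ_ι, Category.assoc, Cone.w]

/-- The hypothesis tying the two sides together. -/
structure Compat : Prop where
  hfg : ∀ j l, (d.σ j).appTop (d.f j l) = d.w.appTop (d.g l)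
  hgr : ∀ l, d.V.basicOpen (d.g l) ≤ d.w.opensRange

/-- The diagram of overlaps. -/
noncomputable def ED : d.I ⥤ Scheme.{u} where
  obj j := d.E j
  map a := d.ρ a
  map_id j := d.ρ_id j
  map_comp a b := d.ρ_comp a b

noncomputable def EC : Cone d.ED where
  pt := d.W
  π := { app := fun j => d.σ j
         naturality := fun j k a => by simp [ED, d.σ_ρ a] }

noncomputable def isLimitEC : IsLimit d.EC :=
  have : IsConnected d.I := IsCofiltered.isConnected _
  isLimitOfIsPullbackOfIsConnected (F := d.ED) (G := d.D)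
    { app := fun j => (d.E j).ι, naturality := fun j k a => d.ρ_ι a } d.EC d.c
    { hom := d.W.ι, w := fun j => (d.σ_ι j).symm }
    (fun j => IsOpenImmersion.isPullback _ _ _ _ (d.σ_ι j).symm (by
      simp only [Scheme.Opens.opensRange_ι]; exact d.hE₀ j)) d.hc

lemma isCompact_E (j : d.I) : IsCompact (d.E j : Set (d.D.obj j)) := by
  have : IsCompact (⊤ : (d.E j : Scheme.{u}).Opens).1 := by
    rw [← d.hcov j]
    simp only [TopologicalSpace.Opens.carrier_eq_coe, TopologicalSpace.Opens.coe_iSup]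
    exact isCompact_iUnion fun l => (d.haff j l).isCompact
  have h := this.image (d.E j).ι.continuous
  simp only [TopologicalSpace.Opens.carrier_eq_coe, TopologicalSpace.Opens.coe_top, Set.image_univ,
    Scheme.Opens.range_ι] at h
  exact h

instance compactSpace_E (j : d.I) : CompactSpace (d.E j : Scheme.{u}) :=
  isCompact_iff_compactSpace.mp (d.isCompact_E j)

instance quasiSeparatedSpace_E (j : d.I) : QuasiSeparatedSpace (d.E j : Scheme.{u}) :=
  have := d.good.lft j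
  have := quasiSeparatedSpace_of_lft_toZ (d.D.obj j)
  quasiSeparatedSpace_of_quasiSeparated (d.E j).ι

instance isAffineHom_D {j k : d.I} (a : j ⟶ k) : IsAffineHom (d.D.map a) := d.good.aff j k a

instance isAffineHom_ED {j k : d.I} (a : j ⟶ k) : IsAffineHom (d.ED.map a) :=
  MorphismProperty.of_isPullback (IsOpenImmersion.isPullback (d.ρ a) (d.E j).ι (d.E k).ι (d.D.map a)
    (d.ρ_ι a).symm (by simp only [Scheme.Opens.opensRange_ι]; exact d.hE a)).flip (d.good.aff j k a)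

instance compactSpace_W : CompactSpace (d.W : Scheme.{u}) :=
  have : ∀ j, CompactSpace (d.ED.obj j) := fun j => d.compactSpace_E j
  Scheme.compactSpace_of_isLimit d.ED d.EC d.isLimitEC

variable (hd : d.Compat)
include hd

lemma iSup_basicOpen_g : ⨆ l, d.V.basicOpen (d.g l) = d.w.opensRange := by
  refine le_antisymm (iSup_le hd.hgr) ?_
  obtain ⟨j⟩ := IsCofiltered.nonempty (C := d.I)
  rintro _ ⟨x, rfl⟩
  have : (⊤ : (d.W : Scheme.{u}).Opens) ≤ d.w ⁻¹ᵁ ⨆ l, d.V.basicOpen (d.g l) := by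
    rw [Scheme.Hom.preimage_iSup]
    simp only [Scheme.preimage_basicOpen_top, ← hd.hfg j]
    simp only [← Scheme.preimage_basicOpen_top, ← Scheme.Hom.preimage_iSup, d.hcov]
    exact le_of_eq rfl
  exact this (Set.mem_univ x)

omit hd

/-- The ring of pairs of functions at a stage. -/
abbrev Pairs (j : d.I) : Type u := Γ(d.V, ⊤) × Γ((d.E j : Scheme.{u}), ⊤)

def h (j : d.I) (l : Fin d.n) : d.Pairs j := (d.g l, d.f j l)

noncomputable def m {j k : d.I} (a : j ⟶ k) : d.Pairs k →+* d.Pairs j :=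
  RingHom.prodMap (RingHom.id _) (d.ρ a).appTop.hom

lemma m_apply {j k : d.I} (a : j ⟶ k) (p : d.Pairs k) : d.m a p = (p.1, (d.ρ a).appTop p.2) := rfl

lemma m_h {j k : d.I} (a : j ⟶ k) (l : Fin d.n) : d.m a (d.h k l) = d.h j l :=
  Prod.ext rfl (d.hf a l)

lemma m_id (j : d.I) : d.m (𝟙 j) = RingHom.id _ := by
  ext p <;> simp [m_apply, ρ_id]

lemma m_comp {i j k : d.I} (a : i ⟶ j) (b : j ⟶ k) : d.m (a ≫ b) = (d.m a).comp (d.m b) := by
  ext p <;> simp [m_apply, ρ_comp]

/-- Pairs agreeing on the overlap. -/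
noncomputable def compatSubring (j : d.I) : Subring (d.Pairs j) :=
  ((d.σ j).appTop.hom.comp (RingHom.snd _ _)).eqLocus (d.w.appTop.hom.comp (RingHom.fst _ _))

lemma mem_compatSubring (j : d.I) (p : d.Pairs j) :
    p ∈ d.compatSubring j ↔ (d.σ j).appTop p.2 = d.w.appTop p.1 := Iff.rfl

lemma m_mem_compat {j k : d.I} (a : j ⟶ k) {p : d.Pairs k} (hp : p ∈ d.compatSubring k) :
    d.m a p ∈ d.compatSubring j := by
  rw [mem_compatSubring, m_apply]
  rw [mem_compatSubring, ← d.σ_ρ a, Scheme.Hom.comp_appTop, CommRingCat.comp_apply] at hp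
  exact hp

/-- A subring of pairs giving a model of the glued scheme. -/
structure IsModel {j : d.I} (C : Subring (d.Pairs j)) : Prop where
  le : C ≤ d.compatSubring j
  mem_h : ∀ l, d.h j l ∈ C
  surj : ∀ l (x : Γ((d.E j : Scheme.{u}), ⊤)), ∃ (N : ℕ) (a : d.Pairs j), a ∈ C ∧ a.2 = d.f j l ^ N * x
  fg : ∃ F : Finset (d.Pairs j), Subring.closure (F : Set (d.Pairs j)) = C

theorem exists_finset_closure (A : CommRingCat.{u}) (t : Spec A ⟶ Spec (CommRingCat.of (ULift.{u} ℤ)))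
    [LocallyOfFiniteType t] : ∃ F : Finset A, Subring.closure (F : Set A) = ⊤ := by
  obtain ⟨φ, rfl⟩ : ∃ φ, Spec.map φ = t := ⟨_, Spec.map_preimage t⟩
  have h : φ.hom.FiniteType := (HasRingHomProperty.Spec_iff (P := @LocallyOfFiniteType)).mp ‹_›
  let _ : Algebra (ULift.{u} ℤ) A := φ.hom.toAlgebra
  obtain ⟨F, hF⟩ := h.out
  refine ⟨F, top_le_iff.mp ?_⟩
  have := congrArg Subalgebra.toSubring hF
  rw [Algebra.adjoin_eq_ring_closure, Algebra.top_toSubring] at this
  rw [← this, Subring.closure_le, Set.union_subset_iff]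
  refine ⟨?_, Subring.subset_closure⟩
  rintro _ ⟨⟨z⟩, rfl⟩
  have : (⟨z⟩ : ULift.{u} ℤ) = (z : ULift.{u} ℤ) := by ext; simp
  rw [this, map_intCast]
  exact intCast_mem _ z

include hd

lemma h_mem_compat (j : d.I) (l : Fin d.n) : d.h j l ∈ d.compatSubring j := hd.hfg j l

lemma exists_lift (j : d.I) (l : Fin d.n) (x : Γ((d.E j : Scheme.{u}), ⊤)) :
    ∃ (N : ℕ) (a : d.Pairs j), a ∈ d.compatSubring j ∧ a.2 = d.f j l ^ N * x := by
  obtain ⟨N, b, hb⟩ := exists_eq_pow_mul_of_range d.w (d.g l) (hd.hgr l) ((d.σ j).appTop x)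
  refine ⟨N, (b, d.f j l ^ N * x), ?_, rfl⟩
  rw [mem_compatSubring, map_mul, map_pow, hd.hfg, hb]

omit hd in
theorem exists_finset_closure_section (j : d.I) {U : (d.E j : Scheme.{u}).Opens} (hU : IsAffineOpen U) :
    ∃ G : Finset Γ((d.E j : Scheme.{u}), U),
      Subring.closure (SetLike.coe G : Set Γ((d.E j : Scheme.{u}), U)) = ⊤ := by
  have := d.good.lft j
  let t : Spec Γ((d.E j : Scheme.{u}), U) ⟶ Spec (CommRingCat.of (ULift.{u} ℤ)) :=
    hU.fromSpec ≫ (d.E j).ι ≫ toZ (d.D.obj j)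
  have : LocallyOfFiniteType t :=
    inferInstanceAs (LocallyOfFiniteType (hU.fromSpec ≫ (d.E j).ι ≫ toZ (d.D.obj j)))
  exact exists_finset_closure _ t

theorem exists_model (j : d.I) (F : Finset (d.Pairs j)) (hF : ∀ p ∈ F, p ∈ d.compatSubring j) :
    ∃ C, d.IsModel (j := j) C ∧ ∀ p ∈ F, p ∈ C := by
  classical
  have hgen := fun l => d.exists_finset_closure_section j (d.haff j l)
  choose G hG using hgen
  have hnum : ∀ l, ∀ y ∈ G l, ∃ (a : d.Pairs j) (N : ℕ), a ∈ d.compatSubring j ∧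
      a.2 |_ (d.E j : Scheme.{u}).basicOpen (d.f j l) = (d.f j l |_ _) ^ N * y := by
    intro l y _
    have hloc : IsLocalization.Away (d.f j l) Γ((d.E j : Scheme.{u}), (d.E j : Scheme.{u}).basicOpen (d.f j l)) :=
      isLocalization_basicOpen_of_qcqs (U := (⊤ : (d.E j : Scheme.{u}).Opens)) isCompact_univ
        isQuasiSeparated_univ _
    obtain ⟨⟨x, _, k, rfl⟩, hx⟩ := IsLocalization.surj (M := Submonoid.powers (d.f j l)) y
    obtain ⟨N, a, ha, ha2⟩ := d.exists_lift hd j l x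
    refine ⟨a, N + k, ha, ?_⟩
    have e := congrArg (algebraMap Γ((d.E j : Scheme.{u}), ⊤)
      Γ((d.E j : Scheme.{u}), (d.E j : Scheme.{u}).basicOpen (d.f j l))) ha2
    rw [map_mul, map_pow, ← hx, map_pow] at e
    refine e.trans ?_
    show _ = (algebraMap Γ((d.E j : Scheme.{u}), ⊤) _ (d.f j l)) ^ (N + k) * y
    ring
  choose a N ha ha2 using hnum
  let F' : Finset (d.Pairs j) := F ∪ Finset.univ.image (d.h j) ∪
    Finset.univ.biUnion fun l => (G l).attach.image fun y => a l y.1 y.2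
  have hF' : ∀ p ∈ F', p ∈ d.compatSubring j := by
    intro p hp
    simp only [F', Finset.mem_union, Finset.mem_biUnion, Finset.mem_image, Finset.mem_univ, true_and] at hp
    rcases hp with (hp | ⟨l, rfl⟩) | ⟨l, y, -, rfl⟩
    · exact hF p hp
    · exact d.h_mem_compat hd j l
    · exact ha l _ y.2
  refine ⟨Subring.closure (F' : Set (d.Pairs j)), ⟨Subring.closure_le.mpr hF', fun l => Subring.subset_closure ?_,
    fun l x => ?_, ⟨F', rfl⟩⟩, fun p hp => Subring.subset_closure ?_⟩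
  · simp [F']
  swap
  · simp [F', hp]
  set C := Subring.closure (F' : Set (d.Pairs j))
  have hh : d.h j l ∈ C := Subring.subset_closure (by simp [F'])
  let r := fun z : Γ((d.E j : Scheme.{u}), ⊤) => z |_ (d.E j : Scheme.{u}).basicOpen (d.f j l)
  let ψ : Γ((d.E j : Scheme.{u}), ⊤) →+* Γ((d.E j : Scheme.{u}), (d.E j : Scheme.{u}).basicOpen (d.f j l)) :=
    algebraMap _ _
  let T : Subring Γ((d.E j : Scheme.{u}), (d.E j : Scheme.{u}).basicOpen (d.f j l)) :=
    { carrier := {y | ∃ (M : ℕ) (b : d.Pairs j), b ∈ C ∧ ψ b.2 = ψ (d.f j l) ^ M * y}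
      one_mem' := ⟨0, 1, one_mem _, by simp⟩
      zero_mem' := ⟨0, 0, zero_mem _, by simp⟩
      mul_mem' := by
        rintro y z ⟨M, b, hb, e⟩ ⟨M', b', hb', e'⟩
        exact ⟨M + M', b * b', mul_mem hb hb', by rw [Prod.snd_mul, map_mul, e, e']; ring⟩
      add_mem' := by
        rintro y z ⟨M, b, hb, e⟩ ⟨M', b', hb', e'⟩
        refine ⟨M + M', d.h j l ^ M' * b + d.h j l ^ M * b',
          add_mem (mul_mem (pow_mem hh _) hb) (mul_mem (pow_mem hh _) hb'), ?_⟩
        simp only [Prod.snd_add, Prod.snd_mul, Prod.pow_snd, h, map_add, map_mul, map_pow, e, e']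
        ring
      neg_mem' := by
        rintro y ⟨M, b, hb, e⟩
        exact ⟨M, -b, neg_mem hb, by simp [e]⟩ }
  have hT : T = ⊤ := by
    refine top_le_iff.mp ((hG l).symm.le.trans (Subring.closure_le.mpr fun y hy => ?_))
    exact ⟨N l y hy, a l y hy, Subring.subset_closure (by
      simp only [F', Finset.coe_union, Set.mem_union, Finset.coe_biUnion, Set.mem_iUnion, Finset.mem_coe,
        Finset.mem_image, Finset.mem_univ, true_and]
      exact Or.inr ⟨l, trivial, ⟨y, hy⟩, Finset.mem_attach _ _, rfl⟩), ha2 l y hy⟩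
  obtain ⟨M, b, hb, e⟩ : ψ x ∈ T := hT ▸ Subring.mem_top _
  rw [← map_pow, ← map_mul] at e
  obtain ⟨K, hK⟩ := exists_of_res_eq_of_qcqs_of_top e
  exact ⟨K + M, d.h j l ^ K * b, mul_mem (pow_mem hh _) hb, by
    simp only [Prod.snd_mul, Prod.pow_snd, h, hK]; ring⟩

omit hd

/-- The map to the affine side of a model. -/
noncomputable def q {j : d.I} (C : Subring (d.Pairs j)) : (d.E j : Scheme.{u}) ⟶ Spec (CommRingCat.of C) :=
  (d.E j : Scheme.{u}).toSpecΓ ≫ Spec.map (CommRingCat.ofHom ((RingHom.snd _ _).comp C.subtype))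

lemma q_appTop {j : d.I} (C : Subring (d.Pairs j)) (a : C) :
    (d.q C).appTop ((Scheme.ΓSpecIso (CommRingCat.of C)).inv a) = a.1.2 :=
  appTop_toSpecΓ_comp (X := (d.E j : Scheme.{u})) (C := CommRingCat.of C)
    (CommRingCat.ofHom ((RingHom.snd _ _).comp C.subtype)) a

include hd

theorem isOpenImmersion_q {j : d.I} {C : Subring (d.Pairs j)} (hC : d.IsModel C) :
    IsOpenImmersion (d.q C) ∧ Set.range (d.q C) =
      ((⨆ l, (Spec (CommRingCat.of C)).basicOpen
        ((Scheme.ΓSpecIso (CommRingCat.of C)).inv ⟨d.h j l, hC.mem_h l⟩) :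
          (Spec (CommRingCat.of C)).Opens) : Set _) := by
  have e : ∀ l, (d.q C).appTop ((Scheme.ΓSpecIso (CommRingCat.of C)).inv ⟨d.h j l, hC.mem_h l⟩) = d.f j l :=
    fun l => d.q_appTop C ⟨d.h j l, hC.mem_h l⟩
  refine isOpenImmersion_of_sections (d.q C) _ ?_ ?_ ?_ ?_
  · exact (iSup_congr fun l => congrArg (Scheme.basicOpen _) (e l)).trans (d.hcov j)
  · intro l
    exact (congrArg (Scheme.basicOpen _) (e l)).symm ▸ d.haff j l
  · intro l c hc
    obtain ⟨a, rfl⟩ := (ConcreteCategory.bijective_of_isIso (Scheme.ΓSpecIso (CommRingCat.of C)).inv).surjective c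
    have hc' : a.1.2 = 0 := (d.q_appTop C a).symm.trans hc
    have h1 : d.w.appTop a.1.1 = 0 := by
      have := (d.mem_compatSubring j a.1).mp (hC.le a.2)
      rw [hc', map_zero] at this
      exact this.symm
    obtain ⟨N, hN⟩ := exists_pow_mul_eq_zero_of_range d.w (d.g l) (hd.hgr l) _ h1
    refine ⟨N, ?_⟩
    have : (⟨d.h j l, hC.mem_h l⟩ : C) ^ N * a = 0 := by
      refine Subtype.ext (Prod.ext ?_ ?_)
      · exact hN
      · show d.f j l ^ N * a.1.2 = 0
        rw [hc', mul_zero]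
    exact map_pow_mul_eq_zero _ _ _ N this
  · intro l x
    obtain ⟨N, a, ha, ha2⟩ := hC.surj l x
    refine ⟨N, (Scheme.ΓSpecIso (CommRingCat.of C)).inv ⟨a, ha⟩, ?_⟩
    exact (d.q_appTop C ⟨a, ha⟩).trans (ha2.trans (congrArg (fun z => z ^ N * x) (e l).symm))

end GlueData

end Groth.Agent.Approx60
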