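import Mathlib.AlgebraicGeometry.AffineTransitionLimit

set_option autoImplicit false
set_option backward.isDefEq.respectTransparency false
set_option backward.defeqAttrib.useBackward true

/-! Being a limit cone of schemes is local on a stage. -/

universe u

open CategoryTheory CategoryTheory.Limits AlgebraicGeometry

namespace Groth.Agent.Approx60

variable {I : Type u} [SmallCategory I] [IsCofiltered I] {D : I ⥤ Scheme.{u}} {c : Cone D}

lemma hom_ext_of_locally (i : I) {ι : Type*} (U : ι → (D.obj i).Opens) (hU : ⨆ a, U a = ⊤)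
    (h : ∀ a, Nonempty (IsLimit (opensCone D c i (U a)))) {Z : Scheme.{u}} (f g : Z ⟶ c.pt)
    (e : ∀ j, f ≫ c.π.app j = g ≫ c.π.app j) : f = g := by
  let V : ι → Z.Opens := fun a => f ⁻¹ᵁ (c.π.app i ⁻¹ᵁ U a)
  have hV : ⨆ a, V a = ⊤ := by
    simp only [V, ← Scheme.Hom.preimage_iSup, hU]; rfl
  refine Scheme.Cover.hom_ext (Z.openCoverOfIsOpenCover V hV) _ _ fun a => ?_
  have hg : V a ≤ g ⁻¹ᵁ (c.π.app i ⁻¹ᵁ U a) := by
    simp only [V, ← Scheme.Hom.comp_preimage, e]; rfl
  have key : f.resLE (c.π.app i ⁻¹ᵁ U a) (V a) le_rfl = g.resLE (c.π.app i ⁻¹ᵁ U a) (V a) hg := by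
    refine (h a).some.hom_ext fun j => ?_
    rw [← cancel_mono (D.map j.hom ⁻¹ᵁ U a).ι]
    simp [e]
  have := congrArg (· ≫ (c.π.app i ⁻¹ᵁ U a).ι) key
  simpa using this

/-- A cone is a limit cone if it is one over the members of an open cover of a stage. -/
theorem nonempty_isLimit_of_locally (i : I) {ι : Type u} (U : ι → (D.obj i).Opens) (hU : ⨆ a, U a = ⊤)
    (h : ∀ a, Nonempty (IsLimit (opensCone D c i (U a)))) : Nonempty (IsLimit c) := by
  have : ∀ s : Cone D, ∃ l : s.pt ⟶ c.pt, ∀ j, l ≫ c.π.app j = s.π.app j := by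
    intro s
    let V : ι → s.pt.Opens := fun a => s.π.app i ⁻¹ᵁ U a
    have hV : ⨆ a, V a = ⊤ := by
      simp only [V, ← Scheme.Hom.preimage_iSup, hU]; rfl
    let l : ∀ a, (V a : Scheme.{u}) ⟶ c.pt := fun a =>
      (h a).some.lift (opensCone D s i (U a)) ≫ (c.π.app i ⁻¹ᵁ U a).ι
    have hl : ∀ a j, l a ≫ c.π.app j = (V a).ι ≫ s.π.app j := by
      intro a j
      obtain ⟨m, φ, ψ, -⟩ := IsCofilteredOrEmpty.cone_objs i j
      have := congrArg (· ≫ (D.map φ ⁻¹ᵁ U a).ι ≫ D.map ψ)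
        ((h a).some.fac (opensCone D s i (U a)) (Over.mk φ))
      simpa [l, V] using this
    let 𝒰 := s.pt.openCoverOfIsOpenCover V hV
    refine ⟨𝒰.glueMorphisms l ?_, fun j => Scheme.Cover.hom_ext 𝒰 _ _ fun a => ?_⟩
    · intro a b
      refine hom_ext_of_locally i U hU h _ _ fun j => ?_
      simp only [Category.assoc, hl]
      rw [← Category.assoc, ← Category.assoc]
      exact congrArg (· ≫ s.π.app j) pullback.condition
    · rw [Scheme.Cover.ι_glueMorphisms_assoc, hl]; rfl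
  choose l hl using this
  exact ⟨{ lift := l, fac := hl, uniq := fun s m hm =>
    hom_ext_of_locally i U hU h _ _ fun j => (hm j).trans (hl s j).symm }⟩

end Groth.Agent.Approx60
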