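import Groth.Agent.Approx60.GlueRings
import Groth.Agent.Approx60.LimitLocal
import Mathlib.Algebra.Category.Ring.FilteredColimits
import Mathlib.Algebra.Category.Ring.Colimits
import Mathlib.Algebra.Category.Ring.Constructions

set_option autoImplicit false
set_option backward.isDefEq.respectTransparency false
set_option backward.defeqAttrib.useBackward true

/-! Noetherian approximation, the gluing step: the glued system and its limit. -/

universe u

open CategoryTheory CategoryTheory.Limits AlgebraicGeometry Opposite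

namespace Groth.Agent.Approx60

/-- An approximation of `S` extending a given one of an open subscheme. -/
structure Extension {I : Type u} [SmallCategory I] (D : I ⥤ Scheme.{u}) (c : Cone D) {S : Scheme.{u}}
    (iU : c.pt ⟶ S) where
  {J : Type u}
  [catJ : SmallCategory J]
  [cofJ : IsCofiltered J]
  F : J ⥤ I
  D' : J ⥤ Scheme.{u}
  π : (Functor.const J).obj S ⟶ D'
  isLimit : IsLimit (Cone.mk S π)
  good : Good D'
  α : F ⋙ D ⟶ D'
  imm : ∀ j, IsOpenImmersion (α.app j)
  sq : ∀ {j k : J} (a : j ⟶ k), IsPullback (D.map (F.map a)) (α.app j) (α.app k) (D'.map a)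
  sqπ : ∀ j, IsPullback (c.π.app (F.obj j)) iU (α.app j) (π.app j)

attribute [instance] Extension.catJ Extension.cofJ

lemma appTop_specMap {R A : CommRingCat.{u}} (φ : R ⟶ A) (r : R) :
    (Spec.map φ).appTop ((Scheme.ΓSpecIso R).inv r) = (Scheme.ΓSpecIso A).inv (φ r) :=
  (congr($(Scheme.ΓSpecIso_inv_naturality φ) r)).symm

namespace GlueData

variable {S : Scheme.{u}} (d : GlueData S) (hd : d.Compat)

/-- Stages of the glued system. -/
structure Obj (hd : d.Compat) where
  j : d.I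
  C : Subring (d.Pairs j)
  model : d.IsModel C

variable {hd}

instance category : SmallCategory (d.Obj hd) where
  Hom X Y := {a : X.j ⟶ Y.j // ∀ p ∈ Y.C, d.m a p ∈ X.C}
  id X := ⟨𝟙 _, fun p hp => by rwa [m_id]⟩
  comp a b := ⟨a.1 ≫ b.1, fun p hp => by rw [m_comp]; exact a.2 _ (b.2 p hp)⟩
  id_comp _ := Subtype.ext (Category.id_comp _)
  comp_id _ := Subtype.ext (Category.comp_id _)
  assoc _ _ _ := Subtype.ext (Category.assoc _ _ _)

/-- The projection to the given system. -/
def proj (hd : d.Compat) : d.Obj hd ⥤ d.I where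
  obj X := X.j
  map a := a.1

lemma exists_obj (hd : d.Compat) {j : d.I} (P : Set (d.Pairs j)) (hP : P.Finite)
    (h : ∀ p ∈ P, p ∈ d.compatSubring j) : ∃ X : d.Obj hd, ∃ e : X.j = j, ∀ p ∈ P, e ▸ p ∈ X.C := by
  obtain ⟨C, hC, hF⟩ := d.exists_model hd j hP.toFinset fun p hp => h p (hP.mem_toFinset.mp hp)
  exact ⟨⟨j, C, hC⟩, rfl, fun p hp => hF p (hP.mem_toFinset.mpr hp)⟩

/-- Refinements of objects along a map of the index category, containing given pairs. -/
lemma exists_refine (hd : d.Compat) {j : d.I} (P : Set (d.Pairs j)) (hP : P.Finite)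
    (h : ∀ p ∈ P, p ∈ d.compatSubring j) (Ys : List (Σ Y : d.Obj hd, (j ⟶ Y.j))) :
    ∃ (C : Subring (d.Pairs j)) (hC : d.IsModel C), (∀ p ∈ P, p ∈ C) ∧
      ∀ Y ∈ Ys, ∀ p ∈ Y.1.C, d.m Y.2 p ∈ C := by
  classical
  choose G hG using fun Y : Σ Y : d.Obj hd, (j ⟶ Y.j) => Y.1.model.fg
  let F : Finset (d.Pairs j) := hP.toFinset ∪ Ys.toFinset.biUnion fun Y => (G Y).image (d.m Y.2)
  obtain ⟨C, hC, hF⟩ := d.exists_model hd j F fun p hp => by
    simp only [F, Finset.mem_union, Finset.mem_biUnion, Finset.mem_image] at hp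
    rcases hp with hp | ⟨Y, -, q, hq, rfl⟩
    · exact h p (hP.mem_toFinset.mp hp)
    · exact d.m_mem_compat _ (Y.1.model.le (hG Y ▸ Subring.subset_closure hq))
  refine ⟨C, hC, fun p hp => hF p (Finset.mem_union_left _ (hP.mem_toFinset.mpr hp)), fun Y hY p hp => ?_⟩
  have : Subring.closure (G Y : Set (d.Pairs Y.1.j)) ≤ C.comap (d.m Y.2) := Subring.closure_le.mpr fun q hq =>
    hF _ (Finset.mem_union_right _ (Finset.mem_biUnion.mpr ⟨Y, List.mem_toFinset.mpr hY,
      Finset.mem_image_of_mem _ hq⟩))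
  exact this (hG Y ▸ hp)

instance nonempty_obj : Nonempty (d.Obj hd) := by
  obtain ⟨j⟩ := IsCofiltered.nonempty (C := d.I)
  obtain ⟨X, -⟩ := d.exists_obj hd (j := j) ∅ Set.finite_empty (fun _ h => h.elim)
  exact ⟨X⟩

instance isCofiltered : IsCofiltered (d.Obj hd) where
  cone_objs X Y := by
    obtain ⟨j, a, b, -⟩ := IsCofilteredOrEmpty.cone_objs X.j Y.j
    obtain ⟨C, hC, -, h⟩ := d.exists_refine hd (j := j) ∅ Set.finite_empty (fun _ h => h.elim) [⟨X, a⟩, ⟨Y, b⟩]
    exact ⟨⟨j, C, hC⟩, ⟨a, h ⟨X, a⟩ (by simp)⟩, ⟨b, h ⟨Y, b⟩ (by simp)⟩, trivial⟩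
  cone_maps {X Y} s s' := by
    obtain ⟨j, a, e⟩ := IsCofilteredOrEmpty.cone_maps s.1 s'.1
    obtain ⟨C, hC, -, h⟩ := d.exists_refine hd (j := j) ∅ Set.finite_empty (fun _ h => h.elim) [⟨X, a⟩]
    exact ⟨⟨j, C, hC⟩, ⟨a, h ⟨X, a⟩ (by simp)⟩, Subtype.ext e⟩

instance initial_proj : (d.proj hd).Initial := by
  refine Functor.initial_of_exists_of_isCofiltered _ (fun j => ?_) (fun {i X} s s' => ?_)
  · obtain ⟨C, hC, -⟩ := d.exists_refine hd (j := j) ∅ Set.finite_empty (fun _ h => h.elim) []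
    exact ⟨⟨j, C, hC⟩, ⟨𝟙 j⟩⟩
  · obtain ⟨j, a, e⟩ := IsCofilteredOrEmpty.cone_maps (C := d.I) (show X.j ⟶ i from s) s'
    obtain ⟨C, hC, -, h⟩ := d.exists_refine hd (j := j) ∅ Set.finite_empty (fun _ h => h.elim) [⟨X, a⟩]
    exact ⟨⟨j, C, hC⟩, ⟨a, h ⟨X, a⟩ (by simp)⟩, e⟩

/-- The map of rings between two models. -/
noncomputable def ringMap {X Y : d.Obj hd} (a : X ⟶ Y) : Y.C →+* X.C :=
  ((d.m a.1).comp Y.C.subtype).codRestrict X.C fun p => a.2 p.1 p.2

lemma ringMap_apply {X Y : d.Obj hd} (a : X ⟶ Y) (p : Y.C) : (d.ringMap a p).1 = d.m a.1 p.1 := rfl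

/-- The rings of the models. -/
noncomputable def rings (hd : d.Compat) : (d.Obj hd)ᵒᵖ ⥤ CommRingCat.{u} where
  obj X := CommRingCat.of X.unop.C
  map a := CommRingCat.ofHom (d.ringMap a.unop)
  map_id X := by
    ext p : 2
    exact Subtype.ext (DFunLike.congr_fun (d.m_id X.unop.j) p.1)
  map_comp {X Y Z} a b := by
    ext p : 2
    exact Subtype.ext (DFunLike.congr_fun (d.m_comp b.unop.1 a.unop.1) p.1)

/-- The affine parts. -/
noncomputable def specs (hd : d.Compat) : d.Obj hd ⥤ Scheme.{u} where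
  obj X := Spec (CommRingCat.of X.C)
  map a := Spec.map (CommRingCat.ofHom (d.ringMap a))
  map_id X := ((d.rings hd).rightOp ⋙ Scheme.Spec).map_id X
  map_comp a b := ((d.rings hd).rightOp ⋙ Scheme.Spec).map_comp a b

/-- The open immersion into the affine part. -/
noncomputable def qq (X : d.Obj hd) : (d.E X.j : Scheme.{u}) ⟶ (d.specs hd).obj X := d.q X.C

instance isOpenImmersion_qq (X : d.Obj hd) : IsOpenImmersion (d.qq X) :=
  (d.isOpenImmersion_q hd X.model).1

lemma qq_map {X Y : d.Obj hd} (a : X ⟶ Y) : d.ρ a.1 ≫ d.qq Y = d.qq X ≫ (d.specs hd).map a := by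
  show d.ρ a.1 ≫ d.q Y.C = d.q X.C ≫ Spec.map (CommRingCat.ofHom (d.ringMap a))
  unfold q
  rw [← Category.assoc, Scheme.toSpecΓ_naturality, Category.assoc, Category.assoc]
  congr 1
  rw [← Spec.map_comp, ← Spec.map_comp]
  rfl

lemma qq_condition {X Y : d.Obj hd} (a : X ⟶ Y) :
    (d.E X.j).ι ≫ d.D.map a.1 ≫ pushout.inl (d.E Y.j).ι (d.qq Y) =
      d.qq X ≫ (d.specs hd).map a ≫ pushout.inr (d.E Y.j).ι (d.qq Y) := by
  rw [← Category.assoc, ← ρ_ι, Category.assoc, pushout.condition, ← Category.assoc, qq_map, Category.assoc]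

/-- The glued system. -/
noncomputable def glued (hd : d.Compat) : d.Obj hd ⥤ Scheme.{u} where
  obj X := pushout (d.E X.j).ι (d.qq X)
  map {X Y} a := pushout.desc (d.D.map a.1 ≫ pushout.inl _ _) ((d.specs hd).map a ≫ pushout.inr _ _)
    (d.qq_condition a)
  map_id X := by
    apply pushout.hom_ext
    · rw [pushout.inl_desc, Category.comp_id, show (𝟙 X : X ⟶ X).1 = 𝟙 X.j from rfl, d.D.map_id,
        Category.id_comp]
    · rw [pushout.inr_desc, Category.comp_id, CategoryTheory.Functor.map_id, Category.id_comp]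
  map_comp {X Y Z} a b := by
    apply pushout.hom_ext
    · rw [pushout.inl_desc, pushout.inl_desc_assoc, show (a ≫ b).1 = a.1 ≫ b.1 from rfl, d.D.map_comp,
        Category.assoc, Category.assoc, pushout.inl_desc]
    · rw [pushout.inr_desc, pushout.inr_desc_assoc, Functor.map_comp, Category.assoc, Category.assoc,
        pushout.inr_desc]

noncomputable abbrev inl (X : d.Obj hd) : d.D.obj X.j ⟶ (d.glued hd).obj X := pushout.inl _ _

noncomputable abbrev inr (X : d.Obj hd) : (d.specs hd).obj X ⟶ (d.glued hd).obj X := pushout.inr _ _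

lemma inl_map {X Y : d.Obj hd} (a : X ⟶ Y) : d.inl X ≫ (d.glued hd).map a = d.D.map a.1 ≫ d.inl Y :=
  pushout.inl_desc _ _ _

lemma inr_map {X Y : d.Obj hd} (a : X ⟶ Y) :
    d.inr X ≫ (d.glued hd).map a = (d.specs hd).map a ≫ d.inr Y :=
  pushout.inr_desc _ _ _

lemma sup_inl_inr (X : d.Obj hd) : (d.inl X).opensRange ⊔ (d.inr X).opensRange = ⊤ := sup_opensRange _ _

lemma opensRange_qq (X : d.Obj hd) : (d.qq X).opensRange = ⨆ l, ((d.specs hd).obj X).basicOpen
    ((Scheme.ΓSpecIso (CommRingCat.of X.C)).inv ⟨d.h X.j l, X.model.mem_h l⟩) :=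
  SetLike.coe_injective (d.isOpenImmersion_q hd X.model).2

lemma preimage_range_qq {X Y : d.Obj hd} (a : X ⟶ Y) :
    (d.specs hd).map a ⁻¹ᵁ (d.qq Y).opensRange = (d.qq X).opensRange := by
  rw [opensRange_qq, opensRange_qq, Scheme.Hom.preimage_iSup]
  refine iSup_congr fun l => ?_
  have e := appTop_specMap (R := CommRingCat.of Y.C) (A := CommRingCat.of X.C)
    (CommRingCat.ofHom (d.ringMap a)) ⟨d.h Y.j l, Y.model.mem_h l⟩
  have e2 : (CommRingCat.ofHom (d.ringMap a)) ⟨d.h Y.j l, Y.model.mem_h l⟩ =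
      (⟨d.h X.j l, X.model.mem_h l⟩ : X.C) := Subtype.ext (d.m_h a.1 l)
  exact (Scheme.preimage_basicOpen_top (Spec.map (CommRingCat.ofHom (d.ringMap a))) _).trans
    (congrArg (Scheme.basicOpen (Spec (CommRingCat.of X.C)))
      (e.trans (congrArg (Scheme.ΓSpecIso (CommRingCat.of X.C)).inv.hom e2)))

lemma preimage_inl {X Y : d.Obj hd} (a : X ⟶ Y) :
    (d.glued hd).map a ⁻¹ᵁ (d.inl Y).opensRange = (d.inl X).opensRange := by
  ext p
  constructor
  · intro hp
    rcases pushout_jointly_surjective _ _ p with ⟨x, hx⟩ | ⟨y, hy⟩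
    · exact ⟨x, hx⟩
    · obtain ⟨x', hx'⟩ := hp
      have e : d.inl Y x' = d.inr Y ((d.specs hd).map a y) := by
        rw [← Scheme.Hom.comp_apply, ← inr_map, Scheme.Hom.comp_apply]
        exact hx'.trans (congrArg _ hy.symm)
      obtain ⟨z, -, hz⟩ := exists_of_inl_eq_inr _ _ e
      obtain ⟨z', hz'⟩ := (d.preimage_range_qq a).le (show y ∈ (d.specs hd).map a ⁻¹ᵁ (d.qq Y).opensRange from ⟨z, hz⟩)
      refine ⟨(d.E X.j).ι z', ?_⟩
      rw [← hy, ← hz', ← Scheme.Hom.comp_apply, ← Scheme.Hom.comp_apply, pushout.condition]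
      rfl
  · rintro ⟨x, rfl⟩
    exact ⟨d.D.map a.1 x, by rw [← Scheme.Hom.comp_apply, ← inl_map, Scheme.Hom.comp_apply]⟩

lemma preimage_inr {X Y : d.Obj hd} (a : X ⟶ Y) :
    (d.glued hd).map a ⁻¹ᵁ (d.inr Y).opensRange = (d.inr X).opensRange := by
  ext p
  constructor
  · intro hp
    rcases pushout_jointly_surjective _ _ p with ⟨x, hx⟩ | ⟨y, hy⟩
    · obtain ⟨y', hy'⟩ := hp
      have e : d.inl Y (d.D.map a.1 x) = d.inr Y y' := by
        rw [← Scheme.Hom.comp_apply, ← inl_map, Scheme.Hom.comp_apply]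
        exact (hy'.trans (congrArg _ hx.symm)).symm
      obtain ⟨z, hz, -⟩ := exists_of_inl_eq_inr _ _ e
      have : x ∈ d.E X.j := (d.hE a.1).le (show d.D.map a.1 x ∈ d.E Y.j from hz ▸ z.2)
      refine ⟨d.qq X ⟨x, this⟩, ?_⟩
      rw [← hx, ← Scheme.Hom.comp_apply, ← pushout.condition, Scheme.Hom.comp_apply]
      rfl
    · exact ⟨y, hy⟩
  · rintro ⟨y, rfl⟩
    exact ⟨(d.specs hd).map a y, by rw [← Scheme.Hom.comp_apply, ← inr_map, Scheme.Hom.comp_apply]⟩

instance isAffineHom_glued {X Y : d.Obj hd} (a : X ⟶ Y) : IsAffineHom ((d.glued hd).map a) := by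
  refine isAffineHom_of_forall_exists_isAffineOpen (f := (d.glued hd).map a) fun p => ?_
  rcases pushout_jointly_surjective _ _ p with ⟨x, rfl⟩ | ⟨y, rfl⟩
  · obtain ⟨_, ⟨U, hU, rfl⟩, hxU, -⟩ :=
      (d.D.obj Y.j).isBasis_affineOpens.exists_subset_of_mem_open (Set.mem_univ x) isOpen_univ
    refine ⟨d.inl Y ''ᵁ U, ⟨x, hxU, rfl⟩, hU.image_of_isOpenImmersion _, ?_⟩
    have e : (d.glued hd).map a ⁻¹ᵁ (d.inl Y ''ᵁ U) = d.inl X ''ᵁ (d.D.map a.1 ⁻¹ᵁ U) := by
      have h1 : (d.glued hd).map a ⁻¹ᵁ (d.inl Y ''ᵁ U) ≤ (d.inl X).opensRange :=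
        (Scheme.Hom.preimage_mono _ (Scheme.Hom.image_le_opensRange (d.inl Y) U)).trans (d.preimage_inl a).le
      rw [← inf_eq_right.mpr h1, ← Scheme.Hom.image_preimage_eq_opensRange_inf, ← Scheme.Hom.comp_preimage,
        inl_map, Scheme.Hom.comp_preimage, Scheme.Hom.preimage_image_eq]
    rw [e]
    exact (hU.preimage _).image_of_isOpenImmersion _
  · have hT : IsAffine ((d.specs hd).obj Y) := isAffine_Spec _
    have hT' : IsAffine ((d.specs hd).obj X) := isAffine_Spec _
    refine ⟨(d.inr Y).opensRange, ⟨y, rfl⟩, isAffineOpen_opensRange _, ?_⟩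
    rw [preimage_inr]
    exact isAffineOpen_opensRange _

theorem good_glued : Good (d.glued hd) where
  aff X Y a := inferInstance
  compact X :=
    have := d.good.compact X.j
    have : CompactSpace ((d.specs hd).obj X) := inferInstanceAs (CompactSpace (Spec (CommRingCat.of X.C)))
    compactSpace_pushout _ _
  lft X := by
    refine IsZariskiLocalAtSource.of_iSup_eq_top (P := @LocallyOfFiniteType)
      (fun b : Bool => cond b (d.inl X).opensRange (d.inr X).opensRange) ?_ fun b => ?_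
    · rw [iSup_bool_eq]; exact d.sup_inl_inr X
    · have key : ∀ {P : Scheme.{u}} (i : P ⟶ (d.glued hd).obj X) [IsOpenImmersion i],
          LocallyOfFiniteType (toZ P) → LocallyOfFiniteType (i.opensRange.ι ≫ toZ ((d.glued hd).obj X)) := by
        intro P i _ h
        have e : i.opensRange.ι ≫ toZ _ = i.isoOpensRange.inv ≫ toZ P := specULiftZIsTerminal.hom_ext _ _
        rw [e]; infer_instance
      classical
      cases b
      · refine key (d.inr X) ?_
        obtain ⟨F, hF⟩ := X.model.fg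
        let φ : CommRingCat.of (ULift.{u} ℤ) ⟶ CommRingCat.of X.C :=
          CommRingCat.ofHom ((Int.castRingHom X.C).comp ULift.ringEquiv.toRingHom)
        have e : toZ ((d.specs hd).obj X) = Spec.map φ := specULiftZIsTerminal.hom_ext _ _
        rw [e, HasRingHomProperty.Spec_iff (P := @LocallyOfFiniteType)]
        let _ := φ.hom.toAlgebra
        refine ⟨⟨F.subtype (· ∈ X.C), top_le_iff.mp fun p hpt => ?_⟩⟩
        clear hpt
        obtain ⟨p, hp⟩ := p
        have hp' : p ∈ Subring.closure (F : Set (d.Pairs X.j)) := hF ▸ hp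
        clear e
        induction hp' using Subring.closure_induction with
        | mem q hq => exact Algebra.subset_adjoin (by simpa [Finset.mem_subtype] using hq)
        | zero => exact zero_mem _
        | one => exact one_mem _
        | add q r hq hr h1 h2 => exact add_mem (h1 (hF ▸ hq)) (h2 (hF ▸ hr))
        | neg q hq h1 => exact neg_mem (h1 (hF ▸ hq))
        | mul q r hq hr h1 h2 => exact mul_mem (h1 (hF ▸ hq)) (h2 (hF ▸ hr))
      · exact key (d.inl X) (d.good.lft X.j)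

/-- The projection from the affine part. -/
noncomputable def v (X : d.Obj hd) : d.V ⟶ (d.specs hd).obj X :=
  d.V.toSpecΓ ≫ Spec.map (CommRingCat.ofHom ((RingHom.fst _ _).comp X.C.subtype))

lemma v_map {X Y : d.Obj hd} (a : X ⟶ Y) : d.v X ≫ (d.specs hd).map a = d.v Y := by
  show (_ ≫ _) ≫ Spec.map (CommRingCat.ofHom (d.ringMap a)) = _
  rw [Category.assoc, ← Spec.map_comp]
  rfl

lemma σ_qq (X : d.Obj hd) : d.σ X.j ≫ d.qq X = d.w ≫ d.v X := by
  show d.σ X.j ≫ d.q X.C = _
  unfold q v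
  rw [← Category.assoc, Scheme.toSpecΓ_naturality, Category.assoc, ← Category.assoc d.w,
    Scheme.toSpecΓ_naturality, Category.assoc]
  congr 1
  rw [← Spec.map_comp, ← Spec.map_comp]
  congr 1
  ext p : 2
  exact X.model.le p.2

lemma v_preimage (X : d.Obj hd) : d.v X ⁻¹ᵁ (d.qq X).opensRange = d.w.opensRange := by
  rw [opensRange_qq, Scheme.Hom.preimage_iSup, ← d.iSup_basicOpen_g hd]
  refine iSup_congr fun l => ?_
  rw [Scheme.preimage_basicOpen_top]
  exact congrArg (Scheme.basicOpen _) (appTop_toSpecΓ_comp (X := d.V) (C := CommRingCat.of X.C)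
    (CommRingCat.ofHom ((RingHom.fst _ _).comp X.C.subtype)) ⟨d.h X.j l, X.model.mem_h l⟩)

lemma glue_condition (X : d.Obj hd) :
    d.W.ι ≫ d.c.π.app X.j ≫ d.inl X = d.w ≫ d.v X ≫ d.inr X := by
  rw [← Category.assoc, ← σ_ι, Category.assoc, pushout.condition, ← Category.assoc, σ_qq, Category.assoc]

noncomputable abbrev descS : pushout d.W.ι d.w ⟶ S := pushout.desc d.iU d.iV d.w_iV.symm

instance isIso_descS : IsIso d.descS :=
  isIso_desc _ _ _ _ _ d.cover fun x y e => ⟨⟨x, ⟨y, e.symm⟩⟩, rfl⟩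

/-- The projections from `S`. -/
noncomputable def projS (X : d.Obj hd) : S ⟶ (d.glued hd).obj X :=
  inv d.descS ≫ pushout.desc (d.c.π.app X.j ≫ d.inl X) (d.v X ≫ d.inr X) (d.glue_condition X)

lemma iU_projS (X : d.Obj hd) : d.iU ≫ d.projS X = d.c.π.app X.j ≫ d.inl X := by
  have e : d.iU = pushout.inl _ _ ≫ d.descS := (pushout.inl_desc _ _ _).symm
  conv_lhs => rw [e, projS, Category.assoc, IsIso.hom_inv_id_assoc, pushout.inl_desc]

lemma iV_projS (X : d.Obj hd) : d.iV ≫ d.projS X = d.v X ≫ d.inr X := by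
  have e : d.iV = pushout.inr _ _ ≫ d.descS := (pushout.inr_desc _ _ _).symm
  conv_lhs => rw [e, projS, Category.assoc, IsIso.hom_inv_id_assoc, pushout.inr_desc]

lemma projS_map {X Y : d.Obj hd} (a : X ⟶ Y) : d.projS X ≫ (d.glued hd).map a = d.projS Y := by
  rw [← cancel_epi d.descS]
  apply pushout.hom_ext
  · rw [pushout.inl_desc_assoc, pushout.inl_desc_assoc, ← Category.assoc, iU_projS, iU_projS, Category.assoc,
      inl_map, ← Category.assoc, Cone.w]
  · rw [pushout.inr_desc_assoc, pushout.inr_desc_assoc, ← Category.assoc, iV_projS, iV_projS, Category.assoc,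
      inr_map, ← Category.assoc, v_map]

lemma preimage_projS_inl (X : d.Obj hd) : d.projS X ⁻¹ᵁ (d.inl X).opensRange = d.iU.opensRange := by
  ext p
  constructor
  · intro hp
    rcases d.cover p with ⟨x, hx⟩ | ⟨y, hy⟩
    · exact ⟨x, hx⟩
    · obtain ⟨x', hx'⟩ := hp
      have e : d.inl X x' = d.inr X (d.v X y) := by
        rw [← Scheme.Hom.comp_apply, ← iV_projS, Scheme.Hom.comp_apply]
        exact hx'.trans (congrArg _ hy.symm)
      obtain ⟨z, -, hz⟩ := exists_of_inl_eq_inr _ _ e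
      obtain ⟨z', hz'⟩ := (d.v_preimage X).le (show y ∈ d.v X ⁻¹ᵁ (d.qq X).opensRange from ⟨z, hz⟩)
      refine ⟨d.W.ι z', ?_⟩
      rw [← hy, ← hz', ← Scheme.Hom.comp_apply, ← Scheme.Hom.comp_apply, w_iV]
  · rintro ⟨x, rfl⟩
    exact ⟨d.c.π.app X.j x, (congr($(d.iU_projS X) x)).symm⟩

lemma preimage_projS_inr (X : d.Obj hd) : d.projS X ⁻¹ᵁ (d.inr X).opensRange = d.iV.opensRange := by
  ext p
  constructor
  · intro hp
    rcases d.cover p with ⟨x, hx⟩ | ⟨y, hy⟩
    · obtain ⟨y', hy'⟩ := hp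
      have e : d.inl X (d.c.π.app X.j x) = d.inr X y' := by
        rw [← Scheme.Hom.comp_apply, ← iU_projS, Scheme.Hom.comp_apply]
        exact (hy'.trans (congrArg _ hx.symm)).symm
      obtain ⟨z, hz, -⟩ := exists_of_inl_eq_inr _ _ e
      have hx' : x ∈ d.W := (d.hE₀ X.j).le (show d.c.π.app X.j x ∈ d.E X.j from hz ▸ z.2)
      exact hx ▸ hx'
    · exact ⟨y, hy⟩
  · rintro ⟨y, rfl⟩
    exact ⟨d.v X y, (congr($(d.iV_projS X) y)).symm⟩

noncomputable def gluedCone (hd : d.Compat) : Cone (d.glued hd) where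
  pt := S
  π := { app := fun X => d.projS X
         naturality := fun X Y a => by simp [d.projS_map a] }

/-- The affine part is a limit. -/
noncomputable def sectionsCocone (hd : d.Compat) : Cocone (d.rings hd) where
  pt := Γ(d.V, ⊤)
  ι := { app := fun X => CommRingCat.ofHom ((RingHom.fst _ _).comp X.unop.C.subtype)
         naturality := fun X Y a => rfl }

theorem nonempty_isColimit_sectionsCocone : Nonempty (IsColimit (d.sectionsCocone hd)) := by
  have : ReflectsColimit (d.rings hd) (forget CommRingCat.{u}) := reflectsColimit_of_reflectsIsomorphisms _ _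
  refine ⟨isColimitOfReflects (forget CommRingCat.{u}) (Types.FilteredColimit.isColimitOf' _ _ ?_ ?_)⟩
  · intro b
    have : ∀ j, QuasiSeparatedSpace (d.ED.obj j) := fun j => d.quasiSeparatedSpace_E j
    have : ∀ j, CompactSpace (d.ED.obj j) := fun j => d.compactSpace_E j
    have : ∀ {i j : d.I} (a : i ⟶ j), IsAffineHom (d.ED.map a) := fun a => inferInstance
    obtain ⟨j, r, hr⟩ := exists_appTop_π_eq_of_isLimit d.ED d.EC d.isLimitEC (d.w.appTop b)
    obtain ⟨X, rfl, hX⟩ := d.exists_obj hd (j := j) {((b, r) : d.Pairs j)} (Set.finite_singleton _)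
      (by rintro p rfl; exact hr.symm)
    exact ⟨op X, ⟨(b, r), hX _ rfl⟩, rfl⟩
  · intro X x y hxy
    obtain ⟨⟨x1, x2⟩, hx⟩ := x
    obtain ⟨⟨y1, y2⟩, hy⟩ := y
    obtain rfl : x1 = y1 := hxy
    have : ∀ {i j : d.I} (a : i ⟶ j), IsAffineHom (d.ED.map a) := fun a => inferInstance
    have : CompactSpace (d.ED.obj X.unop.j) := d.compactSpace_E X.unop.j
    have h0 : (d.EC.π.app X.unop.j).appTop (x2 - y2) = 0 := by
      have h1 := X.unop.model.le hx
      have h2 := X.unop.model.le hy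
      simp only [mem_compatSubring] at h1 h2
      exact (map_sub (d.σ X.unop.j).appTop.hom x2 y2).trans (sub_eq_zero.mpr (h1.trans h2.symm))
    obtain ⟨j, a, ha⟩ := exists_appTop_map_eq_zero_of_isLimit d.ED d.EC d.isLimitEC (x2 - y2) h0
    obtain ⟨C, hC, -, h⟩ := d.exists_refine hd (j := j) ∅ Set.finite_empty (fun _ h => h.elim) [⟨X.unop, a⟩]
    let f : (⟨j, C, hC⟩ : d.Obj hd) ⟶ X.unop := ⟨a, h ⟨X.unop, a⟩ (by simp)⟩
    refine ⟨op ⟨j, C, hC⟩, f.op, ?_⟩
    refine Subtype.ext (Prod.ext rfl ?_)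
    exact sub_eq_zero.mp ((map_sub (d.ρ a).appTop.hom x2 y2).symm.trans ha)

noncomputable def affineCone (hd : d.Compat) : Cone (d.specs hd) where
  pt := d.V
  π := { app := fun X => d.v X
         naturality := fun X Y a => by simp [d.v_map a] }

noncomputable def isLimitAffineCone (hd : d.Compat) : IsLimit (d.affineCone hd) :=
  (isLimitOfPreserves Scheme.Spec
    (isLimitConeRightOpOfCocone (d.rings hd) (d.nonempty_isColimit_sectionsCocone).some)).ofIsoLimit
    (Cone.ext d.V.isoSpec.symm fun X => by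
      simp [affineCone, v, sectionsCocone, Scheme.isoSpec])

theorem nonempty_isLimit_gluedCone : Nonempty (IsLimit (d.gluedCone hd)) := by
  obtain ⟨X₀⟩ := d.nonempty_obj (hd := hd)
  refine nonempty_isLimit_of_locally X₀
    (fun b : ULift.{u} Bool => cond b.down (d.inl X₀).opensRange (d.inr X₀).opensRange) ?_ ?_
  · refine top_le_iff.mp ((d.sup_inl_inr X₀).ge.trans (sup_le ?_ ?_))
    · exact le_iSup_of_le ⟨true⟩ le_rfl
    · exact le_iSup_of_le ⟨false⟩ le_rfl
  have key : ∀ (Q : d.Obj hd ⥤ Scheme.{u}) (k : Q ⟶ d.glued hd) [∀ X, IsOpenImmersion (k.app X)]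
      (cQ : Cone Q) (iQ : cQ.pt ⟶ S) [IsOpenImmersion iQ],
      (∀ {X Y : d.Obj hd} (a : X ⟶ Y), (d.glued hd).map a ⁻¹ᵁ (k.app Y).opensRange = (k.app X).opensRange) →
      (∀ X, d.projS X ⁻¹ᵁ (k.app X).opensRange = iQ.opensRange) →
      (∀ X, iQ ≫ d.projS X = cQ.π.app X ≫ k.app X) → IsLimit cQ →
      Nonempty (IsLimit (opensCone (d.glued hd) (d.gluedCone hd) X₀ (k.app X₀).opensRange)) := by
    intro Q k _ cQ iQ _ hpre hpre' hw hlim
    have : IsConnected (Over X₀) := CategoryTheory.isConnected_of_hasTerminal (Over X₀)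
    let e : ∀ j : Over X₀, Q.obj j.left ≅ ((d.glued hd).map j.hom ⁻¹ᵁ (k.app X₀).opensRange : Scheme.{u}) :=
      fun j => IsOpenImmersion.isoOfRangeEq (k.app j.left) (Scheme.Opens.ι _) (by
        rw [Scheme.Opens.range_ι, hpre]; rfl)
    have he : ∀ j, (e j).hom ≫ Scheme.Opens.ι _ = k.app j.left := fun j =>
      IsOpenImmersion.isoOfRangeEq_hom_fac _ _ _
    let n : Over.forget X₀ ⋙ Q ≅ opensDiagram (d.glued hd) X₀ (k.app X₀).opensRange :=
      NatIso.ofComponents e fun {i j} f => by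
        rw [← cancel_mono (Scheme.Opens.ι _)]
        simp [he, reassoc_of% (he i)]
    let e0 : cQ.pt ≅ (d.projS X₀ ⁻¹ᵁ (k.app X₀).opensRange : Scheme.{u}) :=
      IsOpenImmersion.isoOfRangeEq iQ (Scheme.Opens.ι _) (by rw [Scheme.Opens.range_ι, hpre']; rfl)
    have he0 : e0.hom ≫ Scheme.Opens.ι _ = iQ := IsOpenImmersion.isoOfRangeEq_hom_fac _ _ _
    refine ⟨((IsLimit.postcomposeHomEquiv n _).symm
      ((Functor.Initial.isLimitWhiskerEquiv (Over.forget X₀) cQ).symm hlim)).ofIsoLimit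
      (Cone.ext e0 fun j => ?_)⟩
    rw [← cancel_mono (Scheme.Opens.ι _)]
    simp [n, he, gluedCone, reassoc_of% he0, hw]
  rintro ⟨_ | _⟩
  · exact key (d.specs hd) { app := fun X => d.inr X, naturality := fun X Y a => (d.inr_map a).symm }
      (d.affineCone hd) d.iV (fun a => d.preimage_inr a) (fun X => d.preimage_projS_inr X)
      (fun X => d.iV_projS X) (d.isLimitAffineCone hd)
  · exact key (d.proj hd ⋙ d.D) { app := fun X => d.inl X, naturality := fun X Y a => (d.inl_map a).symm }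
      (d.c.whisker (d.proj hd)) d.iU (fun a => d.preimage_inl a) (fun X => d.preimage_projS_inl X)
      (fun X => d.iU_projS X) ((Functor.Initial.isLimitWhiskerEquiv (d.proj hd) d.c).symm d.hc)

/-- The gluing step. -/
theorem nonempty_extension (hd : d.Compat) : Nonempty (Extension d.D d.c d.iU) := by
  refine ⟨{ J := d.Obj hd
            F := d.proj hd
            D' := d.glued hd
            π := (d.gluedCone hd).π
            isLimit := d.nonempty_isLimit_gluedCone.some
            good := d.good_glued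
            α := { app := fun X => d.inl X, naturality := fun X Y a => (d.inl_map a).symm }
            imm := fun X => inferInstanceAs (IsOpenImmersion (d.inl X))
            sq := fun {X Y} a => ?_
            sqπ := fun X => ?_ }⟩
  · exact IsOpenImmersion.isPullback _ _ _ _ (d.inl_map a) (d.preimage_inl a)
  · exact IsOpenImmersion.isPullback _ _ _ _ (d.iU_projS X) (d.preimage_projS_inl X)

end GlueData

end Groth.Agent.Approx60
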