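import Groth.Agent.Approx60.LimitLocal
import Mathlib.AlgebraicGeometry.RelativeGluing

set_option autoImplicit false
set_option backward.isDefEq.respectTransparency false
set_option backward.defeqAttrib.useBackward true

/-! Cofiltered diagrams of schemes with affine transition maps have limits. -/

universe u

open CategoryTheory CategoryTheory.Limits AlgebraicGeometry

attribute [local instance] CategoryTheory.isConnected_of_hasTerminal

namespace Groth.Agent.Approx60

theorem hasLimit_of_isAffine {I : Type u} [SmallCategory I] [IsCofiltered I] (D : I ⥤ Scheme.{u})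
    [∀ i, IsAffine (D.obj i)] : HasLimit D := by
  let α : D ⟶ (D ⋙ Scheme.Γ.rightOp) ⋙ Scheme.Spec := D.whiskerLeft ΓSpec.adjunction.unit
  have (i : _) : IsIso (α.app i) := IsAffine.affine
  have : IsIso α := NatIso.isIso_of_isIso_app α
  have : HasLimit (D ⋙ Scheme.Γ.rightOp) := inferInstance
  exact hasLimit_of_iso (asIso α).symm

variable {I : Type u} [SmallCategory I] [IsCofiltered I] (D : I ⥤ Scheme.{u})
  [∀ (i j : I) (f : i ⟶ j), IsAffineHom (D.map f)] (i : I)

instance hasLimit_opensDiagram (U : (D.obj i).affineOpens) : HasLimit (opensDiagram D i U.1) :=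
  have : ∀ j : Over i, IsAffine ((opensDiagram D i U.1).obj j) := fun j => U.2.preimage (D.map j.hom)
  hasLimit_of_isAffine _

/-- Restriction of opens diagrams to a smaller open. -/
noncomputable def opensTrans {U V : (D.obj i).Opens} (h : U ≤ V) : opensDiagram D i U ⟶ opensDiagram D i V where
  app j := (D.obj j.left).homOfLE (Scheme.Hom.preimage_mono (D.map j.hom) h)
  naturality j k f := by
    rw [← cancel_mono (D.map k.hom ⁻¹ᵁ V).ι]
    simp

noncomputable def piecesFunctor : (D.obj i).affineOpens ⥤ Scheme.{u} where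
  obj U := limit (opensDiagram D i U.1)
  map {U V} h := limMap (opensTrans D i h.le)
  map_id U := limit.hom_ext fun j => by simp [opensTrans]
  map_comp f g := limit.hom_ext fun j => by simp [opensTrans]

noncomputable def gluingData :
    Scheme.Cover.RelativeGluingData (D.obj i).directedAffineCover where
  functor := piecesFunctor D i
  natTrans :=
    { app := fun U => limit.π (opensDiagram D i U.1) (Over.mk (𝟙 i)) ≫
        (D.map (𝟙 i)).resLE U.1 (D.map (𝟙 i) ⁻¹ᵁ U.1) le_rfl
      naturality := fun U V h => by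
        dsimp [piecesFunctor]
        rw [← cancel_mono V.1.ι]
        simp [opensTrans]
        erw [Scheme.Cover.trans_map (D.obj i).directedAffineCover h]
        simp [Scheme.directedAffineCover] }
  equifibered := by
    intro U V h
    have h' : U.1 ≤ V.1 := h.le
    have hsq : (piecesFunctor D i).map h ≫ limit.π (opensDiagram D i V.1) (Over.mk (𝟙 i)) ≫
        (D.map (𝟙 i)).resLE V.1 (D.map (𝟙 i) ⁻¹ᵁ V.1) le_rfl =
        (limit.π (opensDiagram D i U.1) (Over.mk (𝟙 i)) ≫
        (D.map (𝟙 i)).resLE U.1 (D.map (𝟙 i) ⁻¹ᵁ U.1) le_rfl) ≫ (D.obj i).homOfLE h' := by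
      dsimp [piecesFunctor]
      rw [← cancel_mono V.1.ι]
      simp [opensTrans]
    have hw : ∀ (s : PullbackCone (limit.π (opensDiagram D i V.1) (Over.mk (𝟙 i)) ≫
        (D.map (𝟙 i)).resLE V.1 (D.map (𝟙 i) ⁻¹ᵁ V.1) le_rfl) ((D.obj i).homOfLE h')) (j : Over i),
        ((s.fst ≫ limit.π _ j ≫ (D.map j.hom ⁻¹ᵁ V.1).ι) ≫ D.map j.hom) = s.snd ≫ U.1.ι := by
      intro s j
      have e1 := congrArg (· ≫ V.1.ι) s.condition
      have e2 : limit.π (opensDiagram D i V.1) j ≫ (D.map j.hom ⁻¹ᵁ V.1).ι ≫ D.map j.hom =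
          limit.π (opensDiagram D i V.1) (Over.mk (𝟙 i)) ≫ (D.map (𝟙 i) ⁻¹ᵁ V.1).ι ≫ D.map (𝟙 i) := by
        rw [← limit.w (opensDiagram D i V.1) (Over.homMk j.hom : j ⟶ Over.mk (𝟙 i))]
        simp
      simp only [Category.assoc, Scheme.Hom.resLE_comp_ι, Scheme.homOfLE_ι] at e1 ⊢
      rw [e2]
      exact e1
    have hr : ∀ s j, Set.range (((PullbackCone.fst (f := limit.π (opensDiagram D i V.1) (Over.mk (𝟙 i)) ≫
        (D.map (𝟙 i)).resLE V.1 (D.map (𝟙 i) ⁻¹ᵁ V.1) le_rfl) (g := (D.obj i).homOfLE h') s) ≫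
        limit.π _ j ≫ (D.map j.hom ⁻¹ᵁ V.1).ι)) ⊆ Set.range (D.map j.hom ⁻¹ᵁ U.1).ι := by
      rintro s j _ ⟨z, rfl⟩
      rw [Scheme.Opens.range_ι]
      have := congr($(hw s j) z)
      simp only [Scheme.Hom.comp_apply] at this
      show D.map j.hom _ ∈ U.1
      simp only [Scheme.Hom.comp_apply]
      exact this ▸ (s.snd z).2
    refine IsPullback.mk ⟨hsq⟩ ⟨PullbackCone.IsLimit.mk _ (fun s => limit.lift (opensDiagram D i U.1)
      { pt := s.pt
        π :=
        { app := fun j => IsOpenImmersion.lift (D.map j.hom ⁻¹ᵁ U.1).ι _ (hr s j)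
          naturality := fun j k f => by
            rw [← cancel_mono (D.map k.hom ⁻¹ᵁ U.1).ι]
            simp only [Functor.const_obj_obj, Functor.const_obj_map, Category.id_comp, Category.assoc,
              IsOpenImmersion.lift_fac, opensDiagram_map, Scheme.Hom.resLE_comp_ι,
              IsOpenImmersion.lift_fac_assoc]
            rw [← limit.w (opensDiagram D i V.1) f]
            simp } }) ?_ ?_ ?_⟩
    · intro s
      refine limit.hom_ext fun j => ?_
      rw [← cancel_mono (D.map j.hom ⁻¹ᵁ V.1).ι]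
      simp [piecesFunctor, opensTrans]
    · intro s
      rw [← cancel_mono U.1.ι]
      simpa using hw s (Over.mk (𝟙 i))
    · intro s m hm1 hm2
      refine limit.hom_ext fun j => ?_
      rw [← cancel_mono (D.map j.hom ⁻¹ᵁ U.1).ι, limit.lift_π]
      simp only [IsOpenImmersion.lift_fac]
      rw [← hm1]
      simp [piecesFunctor, opensTrans]

theorem hasLimit_of_isAffineHom : HasLimit D := by
  obtain ⟨i⟩ := IsCofiltered.nonempty (C := I)
  let d := gluingData D i
  let g : Cone (Over.forget i ⋙ D) :=
    { pt := d.glued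
      π :=
      { app := fun j => colimit.desc d.functor
          { pt := D.obj j.left
            ι :=
            { app := fun U => limit.π (opensDiagram D i U.1) j ≫ (D.map j.hom ⁻¹ᵁ U.1).ι
              naturality := fun U V h => by simp [d, gluingData, piecesFunctor, opensTrans] } }
        naturality := fun j k f => colimit.hom_ext fun U => by
          dsimp
          simp only [Category.id_comp, colimit.ι_desc, colimit.ι_desc_assoc, Category.assoc]
          rw [← limit.w (opensDiagram D i U.1) f]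
          simp } }
  let c : Cone D := Functor.Initial.extendCone.obj g
  have hc : ∀ j : Over i, c.π.app j.left = g.π.app j := fun j =>
    (Functor.Initial.extendCone_obj_π_app' (F := Over.forget i) g (X := j) (Y := j.left) (𝟙 j.left)).trans
      (by simp)
  have hbase : c.π.app i = d.toBase := by
    refine (hc (Over.mk (𝟙 i))).trans (colimit.hom_ext fun U => ?_)
    rw [colimit.ι_desc]
    erw [Scheme.Cover.RelativeGluingData.ι_toBase (d := d) (i := U)]
    simp [d, gluingData, Scheme.directedAffineCover]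
  refine ⟨⟨⟨c, (nonempty_isLimit_of_locally i (fun U : (D.obj i).affineOpens => U.1)
    (iSup_affineOpens_eq_top _) fun U => ?_).some⟩⟩⟩
  have hr : Set.range (colimit.ι d.functor U) = Set.range (c.π.app i ⁻¹ᵁ U.1).ι := by
    rw [← Scheme.Cover.RelativeGluingData.preimage_toBase_eq_range_ι, Scheme.Opens.range_ι, hbase]
    simp [Scheme.directedAffineCover, Scheme.Opens.range_ι]
    rfl
  let e := IsOpenImmersion.isoOfRangeEq (colimit.ι d.functor U) (c.π.app i ⁻¹ᵁ U.1).ι hr
  have he : e.hom ≫ (c.π.app i ⁻¹ᵁ U.1).ι = colimit.ι d.functor U :=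
    IsOpenImmersion.isoOfRangeEq_hom_fac _ _ _
  refine ⟨(limit.isLimit (opensDiagram D i U.1)).ofIsoLimit (Cones.ext e fun j => ?_)⟩
  rw [← cancel_mono (D.map j.hom ⁻¹ᵁ U.1).ι]
  simp [reassoc_of% he, hc, g]

theorem S2151 : ∃ (c : Cone D) (_ : IsLimit c), ∀ i, IsAffineHom (c.π.app i) := by
  have := hasLimit_of_isAffineHom D
  exact ⟨limit.cone D, limit.isLimit D, fun i => isAffineHom_π_app D _ (limit.isLimit D) i⟩

end Groth.Agent.Approx60
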