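import Groth.Agent.Approx60.Directed
import Groth.Agent.Approx60.ImmStage
import Mathlib.CategoryTheory.Comma.Basic

set_option autoImplicit false
set_option backward.isDefEq.respectTransparency false
set_option backward.defeqAttrib.useBackward true

/-! Morphisms of qcqs schemes as limits of morphisms of schemes of finite type over the integers. -/

universe u

open CategoryTheory CategoryTheory.Limits AlgebraicGeometry Opposite TopologicalSpace

namespace Groth.Agent.Approx60

/-- A morphism between schemes locally of finite type over the integers is of finite presentation. -/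
theorem lfp_of_lft_toZ {X Y : Scheme.{u}} (g : X ⟶ Y) [LocallyOfFiniteType (toZ X)]
    [LocallyOfFiniteType (toZ Y)] : LocallyOfFinitePresentation g := by
  have : LocallyOfFiniteType (g ≫ toZ Y) := by
    rw [show g ≫ toZ Y = toZ X from specULiftZIsTerminal.hom_ext _ _]; infer_instance
  have := locallyOfFiniteType_of_comp g (toZ Y)
  have := isLocallyNoetherian_of_lft_toZ Y
  exact LocallyOfFinitePresentation.iff_locallyOfFiniteType.mpr inferInstance

variable {A B : Type u} [SmallCategory A] [SmallCategory B] {X S : Scheme.{u}} (f : X ⟶ S)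
  {DX : A ⥤ Scheme.{u}} {DS : B ⥤ Scheme.{u}} (πX : (Functor.const A).obj X ⟶ DX)
  (πS : (Functor.const B).obj S ⟶ DS)

/-- Compatibility of a morphism between stages with a given morphism. -/
def morphProp : ObjectProperty (Comma DX DS) := fun o => πX.app o.left ≫ o.hom = f ≫ πS.app o.right

abbrev MorphIndex : Type u := (morphProp f πX πS).FullSubcategory

variable {f πX πS}

lemma MorphIndex.w (o : MorphIndex f πX πS) : πX.app o.obj.left ≫ o.obj.hom = f ≫ πS.app o.obj.right :=
  o.property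

lemma const_w {C : Type u} [SmallCategory C] {Y : Scheme.{u}} {E : C ⥤ Scheme.{u}}
    (τ : (Functor.const C).obj Y ⟶ E) {a b : C} (u : a ⟶ b) : τ.app a ≫ E.map u = τ.app b := by
  simpa using (τ.naturality u).symm

variable [IsCofiltered A] (hA : IsLimit (Cone.mk X πX)) (hDX : Good DX) (hDS : Good DS)

include hA hDX hDS in
lemma exists_stage_hom (b : B) :
    ∃ (a : A) (g : DX.obj a ⟶ DS.obj b), πX.app a ≫ g = f ≫ πS.app b := by
  have : ∀ (i j : A) (m : i ⟶ j), IsAffineHom (DX.map m) := hDX.aff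
  have : ∀ a, CompactSpace (DX.obj a) := hDX.compact
  have : ∀ a, QuasiSeparatedSpace (DX.obj a) := fun a =>
    have := hDX.lft a; quasiSeparatedSpace_of_lft_toZ (DX.obj a)
  have := hDS.lft b
  have : IsNoetherianRing (ULift.{u} ℤ) := isNoetherianRing_of_ringEquiv ℤ ULift.ringEquiv.symm
  have : LocallyOfFinitePresentation (toZ (DS.obj b)) :=
    LocallyOfFinitePresentation.iff_locallyOfFiniteType.mpr inferInstance
  obtain ⟨a, g, hg, -⟩ := Scheme.exists_π_app_comp_eq_of_locallyOfFinitePresentation DX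
    { app := fun a => toZ (DX.obj a), naturality := fun _ _ _ => specULiftZIsTerminal.hom_ext _ _ }
    (toZ (DS.obj b)) (Cone.mk X πX) hA (f ≫ πS.app b)
    (by ext a : 2; exact specULiftZIsTerminal.hom_ext _ _)
  exact ⟨a, g, hg⟩

include hA hDX hDS in
lemma exists_equalize {b : B} {a : A} (g g' : DX.obj a ⟶ DS.obj b) (h : πX.app a ≫ g = πX.app a ≫ g') :
    ∃ (a' : A) (u : a' ⟶ a), DX.map u ≫ g = DX.map u ≫ g' := by
  have : ∀ (i j : A) (m : i ⟶ j), IsAffineHom (DX.map m) := hDX.aff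
  have : ∀ a, CompactSpace (DX.obj a) := hDX.compact
  have := hDS.lft b
  exact Scheme.exists_hom_comp_eq_comp_of_locallyOfFiniteType DX
    { app := fun a => toZ (DX.obj a), naturality := fun _ _ _ => specULiftZIsTerminal.hom_ext _ _ }
    (toZ (DS.obj b)) (Cone.mk X πX) hA g g' (specULiftZIsTerminal.hom_ext _ _)
    (specULiftZIsTerminal.hom_ext _ _) h

include hA hDX hDS in
/-- Objects over prescribed stages, compatible with finitely many given maps. -/
lemma exists_obj_over (o : MorphIndex f πX πS) {a : A} {b : B} (u : a ⟶ o.obj.left) (v : b ⟶ o.obj.right) :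
    ∃ (o' : MorphIndex f πX πS) (m : o' ⟶ o) (t : o'.obj.left ⟶ a) (s : o'.obj.right ⟶ b),
      m.hom.left = t ≫ u ∧ m.hom.right = s ≫ v := by
  obtain ⟨a₁, g, hg⟩ := exists_stage_hom (f := f) (πS := πS) hA hDX hDS b
  obtain ⟨a₂, p, q, -⟩ := IsCofilteredOrEmpty.cone_objs a₁ a
  have h2 : πX.app a₂ ≫ DX.map (q ≫ u) ≫ o.obj.hom = πX.app a₂ ≫ (DX.map p ≫ g) ≫ DS.map v := by
    rw [← Category.assoc, const_w, o.w, Category.assoc, ← Category.assoc (πX.app a₂), const_w,
      ← Category.assoc, hg, Category.assoc, const_w]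
  obtain ⟨a₃, r, hr⟩ := exists_equalize hA hDX hDS _ _ h2
  let o' : MorphIndex f πX πS := ⟨⟨a₃, b, DX.map (r ≫ p) ≫ g⟩, by
    show πX.app a₃ ≫ DX.map (r ≫ p) ≫ g = f ≫ πS.app b
    rw [← Category.assoc, const_w, hg]⟩
  refine ⟨o', ObjectProperty.homMk { left := r ≫ q ≫ u, right := v, w := ?_ }, r ≫ q, 𝟙 b, ?_, ?_⟩
  · show DX.map (r ≫ q ≫ u) ≫ o.obj.hom = (DX.map (r ≫ p) ≫ g) ≫ DS.map v
    simpa only [Functor.map_comp, Category.assoc] using hr
  · exact (Category.assoc _ _ _).symm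
  · exact (Category.id_comp _).symm

variable [IsCofiltered B]

include hA hDX hDS in
theorem isCofiltered_morphIndex : IsCofiltered (MorphIndex f πX πS) := by
  obtain ⟨b⟩ := IsCofiltered.nonempty (C := B)
  obtain ⟨a, g, hg⟩ := exists_stage_hom (f := f) (πS := πS) hA hDX hDS b
  have : Nonempty (MorphIndex f πX πS) := ⟨⟨⟨a, b, g⟩, hg⟩⟩
  refine { cone_objs := fun o o' => ?_, cone_maps := fun {o o'} m m' => ?_ }
  · obtain ⟨a₀, u, u', -⟩ := IsCofilteredOrEmpty.cone_objs o.obj.left o'.obj.left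
    obtain ⟨b₀, v, v', -⟩ := IsCofilteredOrEmpty.cone_objs o.obj.right o'.obj.right
    obtain ⟨o₁, m₁, t₁, s₁, -, -⟩ := exists_obj_over hA hDX hDS o u v
    have h : πX.app o₁.obj.left ≫ DX.map (t₁ ≫ u') ≫ o'.obj.hom =
        πX.app o₁.obj.left ≫ o₁.obj.hom ≫ DS.map (s₁ ≫ v') := by
      rw [← Category.assoc, const_w, o'.w, ← Category.assoc, o₁.w, Category.assoc, const_w]
    obtain ⟨a₂, r, hr⟩ := exists_equalize hA hDX hDS _ _ h
    let o₂ : MorphIndex f πX πS := ⟨⟨a₂, o₁.obj.right, DX.map r ≫ o₁.obj.hom⟩, by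
      show πX.app a₂ ≫ DX.map r ≫ o₁.obj.hom = _
      rw [← Category.assoc, const_w, o₁.w]⟩
    refine ⟨o₂, ObjectProperty.homMk { left := r, right := 𝟙 _, w := ?_ } ≫ m₁,
      ObjectProperty.homMk { left := r ≫ t₁ ≫ u', right := s₁ ≫ v', w := ?_ }, trivial⟩
    · simp [o₂]
    · simpa [o₂] using hr
  · obtain ⟨a₀, u, hu⟩ := IsCofilteredOrEmpty.cone_maps m.hom.left m'.hom.left
    obtain ⟨b₀, v, hv⟩ := IsCofilteredOrEmpty.cone_maps m.hom.right m'.hom.right
    obtain ⟨o₁, m₁, t, s, ht, hs⟩ := exists_obj_over hA hDX hDS o u v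
    refine ⟨o₁, m₁, ObjectProperty.hom_ext _ (CommaMorphism.ext ?_ ?_)⟩
    · simp only [ObjectProperty.FullSubcategory.comp_hom, Comma.comp_left, ht, Category.assoc, hu]
    · simp only [ObjectProperty.FullSubcategory.comp_hom, Comma.comp_right, hs, Category.assoc, hv]

variable (f πX πS)

/-- The projection to the index category of the source. -/
abbrev MorphIndex.fst : MorphIndex f πX πS ⥤ A := (morphProp f πX πS).ι ⋙ Comma.fst DX DS

/-- The projection to the index category of the target. -/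
abbrev MorphIndex.snd : MorphIndex f πX πS ⥤ B := (morphProp f πX πS).ι ⋙ Comma.snd DX DS

variable {f πX πS}

include hA hDX hDS in
theorem initial_fst : (MorphIndex.fst f πX πS).Initial := by
  have := isCofiltered_morphIndex (f := f) (πS := πS) hA hDX hDS
  refine Functor.initial_of_exists_of_isCofiltered _ (fun a => ?_) (fun {a o} s s' => ?_)
  · obtain ⟨b⟩ := IsCofiltered.nonempty (C := B)
    obtain ⟨a₁, g, hg⟩ := exists_stage_hom (f := f) (πS := πS) hA hDX hDS b
    obtain ⟨a₂, p, q, -⟩ := IsCofilteredOrEmpty.cone_objs a₁ a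
    exact ⟨⟨⟨a₂, b, DX.map p ≫ g⟩, by
      show πX.app a₂ ≫ DX.map p ≫ g = _
      rw [← Category.assoc, const_w, hg]⟩, ⟨q⟩⟩
  · obtain ⟨a₀, u, hu⟩ := IsCofilteredOrEmpty.cone_maps (C := A) s s'
    let o₀ : MorphIndex f πX πS := ⟨⟨a₀, o.obj.right, DX.map u ≫ o.obj.hom⟩, by
      show πX.app a₀ ≫ DX.map u ≫ o.obj.hom = _
      rw [← Category.assoc, const_w]; exact o.w⟩
    exact ⟨o₀, ObjectProperty.homMk { left := u, right := 𝟙 _, w := by simp [o₀] }, hu⟩

include hA hDX hDS in
theorem initial_snd : (MorphIndex.snd f πX πS).Initial := by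
  have := isCofiltered_morphIndex (f := f) (πS := πS) hA hDX hDS
  refine Functor.initial_of_exists_of_isCofiltered _ (fun b => ?_) (fun {b o} s s' => ?_)
  · obtain ⟨a₁, g, hg⟩ := exists_stage_hom (f := f) (πS := πS) hA hDX hDS b
    exact ⟨⟨⟨a₁, b, g⟩, hg⟩, ⟨𝟙 b⟩⟩
  · obtain ⟨b₀, v, hv⟩ := IsCofilteredOrEmpty.cone_maps (C := B) s s'
    obtain ⟨o₁, m₁, t, r, -, hr⟩ := exists_obj_over hA hDX hDS o (𝟙 _) v
    refine ⟨o₁, m₁, ?_⟩
    show m₁.hom.right ≫ s = m₁.hom.right ≫ s'
    rw [hr, Category.assoc, Category.assoc, hv]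

/-- A morphism of qcqs schemes is a cofiltered limit of morphisms between schemes of finite type over the
integers. -/
theorem exists_morph_approximation {X S : Scheme.{u}} (f : X ⟶ S) [CompactSpace X] [QuasiSeparatedSpace X]
    [CompactSpace S] [QuasiSeparatedSpace S] :
    ∃ (α : Type u) (_ : Preorder α) (_ : IsDirected α (fun a b => a ≤ b)) (_ : Nonempty α)
      (DX DS : αᵒᵖ ⥤ Scheme.{u}) (φ : DX ⟶ DS) (πX : (Functor.const αᵒᵖ).obj X ⟶ DX)
      (πS : (Functor.const αᵒᵖ).obj S ⟶ DS),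
      Good DX ∧ Good DS ∧ Nonempty (IsLimit (Cone.mk X πX)) ∧ Nonempty (IsLimit (Cone.mk S πS)) ∧
      ∀ i, πX.app i ≫ φ.app i = f ≫ πS.app i := by
  obtain ⟨A, _, _, DX, πX, hDX, ⟨hA⟩⟩ := exists_approximation X
  obtain ⟨B, _, _, DS, πS, hDS, ⟨hB⟩⟩ := exists_approximation S
  have := isCofiltered_morphIndex (f := f) (πS := πS) hA hDX hDS
  have := initial_fst (f := f) (πS := πS) hA hDX hDS
  have := initial_snd (f := f) (πS := πS) hA hDX hDS
  obtain ⟨α, _, _, _, G, _⟩ := exists_directed_initial (MorphIndex f πX πS)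
  let F₁ := G ⋙ MorphIndex.fst f πX πS
  let F₂ := G ⋙ MorphIndex.snd f πX πS
  have : F₁.Initial := inferInstance
  have : F₂.Initial := inferInstance
  refine ⟨α, inferInstance, inferInstance, inferInstance, F₁ ⋙ DX, F₂ ⋙ DS,
    { app := fun i => (G.obj i).obj.hom, naturality := fun i j m => (G.map m).hom.w },
    ((Cone.mk X πX).whisker F₁).π, ((Cone.mk S πS).whisker F₂).π,
    ⟨fun _ _ _ => hDX.aff _ _ _, fun _ => hDX.compact _, fun _ => hDX.lft _⟩,
    ⟨fun _ _ _ => hDS.aff _ _ _, fun _ => hDS.compact _, fun _ => hDS.lft _⟩,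
    ⟨(Functor.Initial.isLimitWhiskerEquiv F₁ _).symm hA⟩, ⟨(Functor.Initial.isLimitWhiskerEquiv F₂ _).symm hB⟩,
    fun i => (G.obj i).property⟩

theorem S7384 {X S : Scheme.{u}} (f : X ⟶ S) [CompactSpace X]
    [QuasiSeparatedSpace X] [CompactSpace S] [QuasiSeparatedSpace S] :
    ∃ (I : Type u) (_ : Preorder I) (_ : IsDirected I (fun a b => a ≤ b)) (_ : Nonempty I)
      (DX DS : Iᵒᵖ ⥤ Scheme.{u}) (φ : DX ⟶ DS)
      (cX : Limits.Cone DX) (cS : Limits.Cone DS) (_ : Limits.IsLimit cX) (_ : Limits.IsLimit cS)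
      (eX : cX.pt ≅ X) (eS : cS.pt ≅ S),
      (∀ (i j : Iᵒᵖ) (a : i ⟶ j), IsAffineHom (DX.map a) ∧ IsAffineHom (DS.map a)) ∧
      (∀ i, CompactSpace (DX.obj i) ∧ CompactSpace (DS.obj i) ∧
        LocallyOfFiniteType (Limits.IsTerminal.from specULiftZIsTerminal (DX.obj i)) ∧
        LocallyOfFiniteType (Limits.IsTerminal.from specULiftZIsTerminal (DS.obj i))) ∧
      (∀ i, cX.π.app i ≫ φ.app i = eX.hom ≫ f ≫ eS.inv ≫ cS.π.app i) := by
  obtain ⟨α, _, _, _, DX, DS, φ, πX, πS, hX, hS, ⟨hlX⟩, ⟨hlS⟩, hφ⟩ := exists_morph_approximation f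
  exact ⟨α, inferInstance, inferInstance, inferInstance, DX, DS, φ, Cone.mk X πX, Cone.mk S πS, hlX, hlS,
    Iso.refl _, Iso.refl _, fun i j a => ⟨hX.aff i j a, hS.aff i j a⟩,
    fun i => ⟨hX.compact i, hS.compact i, hX.lft i, hS.lft i⟩, fun i => by simpa using hφ i⟩

theorem exists_finset_affine_cover_image {X S : Scheme.{u}} (f : X ⟶ S) [CompactSpace X] :
    ∃ s : Set S.affineOpens, s.Finite ∧ ∀ x, f x ∈ ⨆ U : s, U.1.1 := by
  obtain ⟨t, ht⟩ := (isCompact_range f.continuous).elim_finite_subcover (fun U : S.affineOpens => (U.1 : Set S))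
    (fun U => U.1.2) (fun y _ => by
      obtain ⟨_, ⟨U, hU, rfl⟩, hyU, -⟩ :=
        S.isBasis_affineOpens.exists_subset_of_mem_open (Set.mem_univ y) isOpen_univ
      exact Set.mem_iUnion.mpr ⟨⟨U, hU⟩, hyU⟩)
  refine ⟨t, t.finite_toSet, fun x => ?_⟩
  obtain ⟨U, hU, hxU⟩ := Set.mem_iUnion₂.mp (ht ⟨x, rfl⟩)
  exact Opens.mem_iSup.mpr ⟨⟨U, hU⟩, hxU⟩

/-- A qcqs scheme over a quasi-separated scheme is a limit of schemes of finite presentation over it. -/
theorem exists_fp_limit {X S : Scheme.{u}} (f : X ⟶ S) [CompactSpace X] [QuasiSeparatedSpace X]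
    [QuasiSeparatedSpace S] :
    ∃ (α : Type u) (_ : Preorder α) (_ : IsDirected α (fun a b => a ≤ b)) (_ : Nonempty α)
      (D : αᵒᵖ ⥤ Over S) (π : (Functor.const αᵒᵖ).obj (Over.mk f) ⟶ D),
      Nonempty (IsLimit (Cone.mk (Over.mk f) π)) ∧
      (∀ i, LocallyOfFinitePresentation (D.obj i).hom ∧ QuasiCompact (D.obj i).hom ∧
        QuasiSeparated (D.obj i).hom ∧ CompactSpace (D.obj i).left ∧ QuasiSeparatedSpace (D.obj i).left) ∧
      (∀ (i j : αᵒᵖ) (a : i ⟶ j), IsAffineHom (D.map a).left) := by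
  obtain ⟨s, hs, hcov⟩ := exists_finset_affine_cover_image f
  let W : S.Opens := ⨆ U : s, U.1.1
  have hWc : IsCompact (W : Set S) := by
    have : Finite s := hs.to_subtype
    rw [Opens.coe_iSup]; exact isCompact_iUnion fun U => U.1.2.isCompact
  have : CompactSpace (W : Scheme.{u}) := isCompact_iff_compactSpace.mp hWc
  have : QuasiSeparatedSpace (W : Scheme.{u}) :=
    (isQuasiSeparated_iff_quasiSeparatedSpace _ W.2).mp (.of_quasiSeparatedSpace _)
  let f₀ : X ⟶ W := IsOpenImmersion.lift W.ι f (by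
    rintro _ ⟨x, rfl⟩
    rw [Scheme.Opens.range_ι]
    exact hcov x)
  have hf₀ : f₀ ≫ W.ι = f := IsOpenImmersion.lift_fac _ _ _
  obtain ⟨α, _, _, _, DX, DS, φ, πX, πS, hX, hS, ⟨hlX⟩, ⟨hlS⟩, hφ⟩ := exists_morph_approximation f₀
  have : ∀ (i j : αᵒᵖ) (a : i ⟶ j), IsAffineHom (DX.map a) := hX.aff
  have : ∀ (i j : αᵒᵖ) (a : i ⟶ j), IsAffineHom (DS.map a) := hS.aff
  have : ∀ i, CompactSpace (DS.obj i) := hS.compact
  have : ∀ i, CompactSpace (DX.obj i) := hX.compact
  have : ∀ i, QuasiSeparatedSpace (DS.obj i) := fun i =>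
    have := hS.lft i; quasiSeparatedSpace_of_lft_toZ (DS.obj i)
  have : ∀ i, QuasiSeparatedSpace (DX.obj i) := fun i =>
    have := hX.lft i; quasiSeparatedSpace_of_lft_toZ (DX.obj i)
  let p : ∀ i, (W : Scheme.{u}) ⟶ DS.obj i := fun i => πS.app i
  have hp : ∀ {i j : αᵒᵖ} (a : i ⟶ j), p i ≫ DS.map a = p j := fun a => const_w πS a
  have haffp : ∀ i, IsAffineHom (p i) := fun i => isAffineHom_π_app DS (Cone.mk _ πS) hlS i
  let T : ∀ i, Over S := fun i => Over.mk (pullback.snd (φ.app i) (p i) ≫ W.ι)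
  let D : αᵒᵖ ⥤ Over S :=
    { obj := T
      map := fun {i j} a => Over.homMk (pullback.map (φ.app i) (p i) (φ.app j) (p j) (DX.map a) (𝟙 _) (DS.map a)
        (φ.naturality a).symm (by simp [hp])) (by simp [T, pullback.map])
      map_id := fun i => by
        apply Over.OverMorphism.ext
        apply pullback.hom_ext <;> simp [T, pullback.map]
      map_comp := fun {i j k} a a' => by
        apply Over.OverMorphism.ext
        apply pullback.hom_ext <;> simp [T, pullback.map] }
  have hfst : ∀ {i j : αᵒᵖ} (a : i ⟶ j), (D.map a).left ≫ pullback.fst (φ.app j) (p j) =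
      pullback.fst (φ.app i) (p i) ≫ DX.map a := fun a => pullback.lift_fst _ _ _
  have hsnd : ∀ {i j : αᵒᵖ} (a : i ⟶ j), (D.map a).left ≫ pullback.snd (φ.app j) (p j) =
      pullback.snd (φ.app i) (p i) := fun a => (pullback.lift_snd _ _ _).trans (Category.comp_id _)
  let π : (Functor.const αᵒᵖ).obj (Over.mk f) ⟶ D :=
    { app := fun i => Over.homMk (pullback.lift (πX.app i) f₀ (hφ i)) (by simp [D, T, hf₀])
      naturality := fun i j a => by
        apply Over.OverMorphism.ext
        apply pullback.hom_ext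
        · simp [D, T, pullback.map, const_w]
        · simp [D, T, pullback.map] }
  have : IsConnected αᵒᵖ := IsCofiltered.isConnected _
  let cL : Cone (D ⋙ Over.forget S) := (Over.forget S).mapCone (Cone.mk (Over.mk f) π)
  have hfac : ∀ (c : Cone (D ⋙ Over.forget S)) (i j : αᵒᵖ), c.π.app i ≫ pullback.snd (φ.app i) (p i) =
      c.π.app j ≫ pullback.snd (φ.app j) (p j) := fun c i j => by
    obtain ⟨k, a, b, -⟩ := IsCofilteredOrEmpty.cone_objs i j
    rw [← c.w a, ← c.w b]
    simp only [Category.assoc, Functor.comp_map, Over.forget_map, hsnd]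
  let toX : ∀ c : Cone (D ⋙ Over.forget S), c.pt ⟶ X := fun c =>
    hlX.lift (Cone.mk c.pt
      { app := fun i => c.π.app i ≫ pullback.fst (φ.app i) (p i)
        naturality := fun i j a => by
          refine (Category.id_comp _).trans ?_
          refine (congrArg (· ≫ pullback.fst (φ.app j) (p j)) (c.w a).symm).trans ?_
          exact (Category.assoc _ _ _).trans ((congrArg (c.π.app i ≫ ·) (hfst a)).trans (Category.assoc _ _ _).symm) })
  have htoX : ∀ c i, toX c ≫ πX.app i = c.π.app i ≫ pullback.fst (φ.app i) (p i) := fun c i =>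
    hlX.fac _ i
  have hl : IsLimit cL :=
    { lift := toX
      fac := fun c i => by
        apply pullback.hom_ext
        · simp [cL, π, htoX]
        · simp only [cL, π, Functor.mapCone_π_app, Over.forget_map, Over.homMk_left, Category.assoc,
            pullback.lift_snd]
          refine hlS.hom_ext fun j => ?_
          show (toX c ≫ f₀) ≫ p j = (c.π.app i ≫ pullback.snd (φ.app i) (p i)) ≫ p j
          rw [hfac c i j, Category.assoc, ← hφ j, ← Category.assoc, htoX, Category.assoc, Category.assoc,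
            pullback.condition]
      uniq := fun c m hm => hlX.hom_ext fun i => by
        show m ≫ πX.app i = toX c ≫ πX.app i
        rw [htoX, ← hm i]
        simp [cL, π] }
  have hW : LocallyOfFinitePresentation W.ι ∧ QuasiCompact W.ι := ⟨inferInstance, inferInstance⟩
  refine ⟨α, inferInstance, inferInstance, inferInstance, D, π, ⟨isLimitOfReflects (Over.forget S) hl⟩, fun i => ?_, fun i j a => ?_⟩
  · have := hX.lft i
    have := hS.lft i
    have := lfp_of_lft_toZ (φ.app i)
    have := hW.1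
    have := hW.2
    have : QuasiCompact (φ.app i) := inferInstance
    have : QuasiSeparated (φ.app i) := (quasiSeparated_iff_quasiSeparatedSpace (φ.app i)).mpr inferInstance
    have : CompactSpace (pullback (φ.app i) (p i) : Scheme.{u}) :=
      QuasiCompact.compactSpace_of_compactSpace (pullback.snd (φ.app i) (p i))
    have : QuasiSeparatedSpace (pullback (φ.app i) (p i) : Scheme.{u}) :=
      quasiSeparatedSpace_of_quasiSeparated (pullback.snd (φ.app i) (p i))
    exact ⟨inferInstanceAs (LocallyOfFinitePresentation (pullback.snd (φ.app i) (p i) ≫ W.ι)),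
      inferInstanceAs (QuasiCompact (pullback.snd (φ.app i) (p i) ≫ W.ι)),
      inferInstanceAs (QuasiSeparated (pullback.snd (φ.app i) (p i) ≫ W.ι)), ‹_›, ‹_›⟩
  · have := haffp i
    have := haffp j
    have : IsAffineHom (pullback.fst (φ.app i) (p i)) := MorphismProperty.pullback_fst _ _ (haffp i)
    have : IsAffineHom (pullback.fst (φ.app j) (p j)) := MorphismProperty.pullback_fst _ _ (haffp j)
    have : IsAffineHom ((D.map a).left ≫ pullback.fst (φ.app j) (p j)) := by rw [hfst]; infer_instance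
    have : IsSeparated (pullback.fst (φ.app j) (p j)) := IsSeparated.of_isAffineHom (f := pullback.fst (φ.app j) (p j))
    exact MorphismProperty.of_postcomp @IsAffineHom _ (pullback.fst (φ.app j) (p j)) ‹_› ‹_›

theorem S7383 {X S : Scheme.{u}} (f : X ⟶ S)
    [CompactSpace X] [QuasiSeparatedSpace X] [QuasiSeparatedSpace S] :
    ∃ (I : Type u) (_ : Preorder I) (_ : IsDirected I (fun a b => a ≤ b)) (_ : Nonempty I)
      (D : Iᵒᵖ ⥤ Over S) (c : Limits.Cone D) (_ : Limits.IsLimit c),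
      (∀ i, LocallyOfFinitePresentation (D.obj i).hom ∧ QuasiCompact (D.obj i).hom ∧
        QuasiSeparated (D.obj i).hom) ∧
      (∀ (i j : Iᵒᵖ) (a : i ⟶ j), IsAffineHom (D.map a).left) ∧
      Nonempty (c.pt ≅ Over.mk f) := by
  obtain ⟨α, _, _, _, D, π, ⟨hl⟩, hobj, hmap⟩ := exists_fp_limit f
  exact ⟨α, inferInstance, inferInstance, inferInstance, D, Cone.mk (Over.mk f) π, hl,
    fun i => ⟨(hobj i).1, (hobj i).2.1, (hobj i).2.2.1⟩, hmap, ⟨Iso.refl _⟩⟩

end Groth.Agent.Approx60
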