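import Groth.Prelude.Def_Found
import Groth.Agent.Ram24.Nagata
import Groth.Agent.CAlg1.NagataTheorem
import Groth.Agent.ConstrTop58.Basic
import Groth.Agent.Var76.FibreBound
import Groth.Agent.EGA73.ProperCrit
import Mathlib.AlgebraicGeometry.SpreadingOut
import Mathlib.RingTheory.Ideal.KrullsHeightTheorem

/-!
# Curves testing universal closedness over a Nagata base
-/

set_option autoImplicit false
set_option backward.isDefEq.respectTransparency.types false
set_option linter.style.haveILetI false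
universe u

open CategoryTheory CategoryTheory.Limits AlgebraicGeometry

namespace Groth.Agent.Approx60.NagCurve

section Algebra

variable {R : Type u} [CommRing R] [IsNoetherianRing R]

/-- Between a prime and a maximal one there is a prime avoiding a given element such that nothing
lies strictly between it and the maximal one. -/
lemma exists_prime_coatom {q m : Ideal R} [q.IsPrime] [m.IsPrime] (hqm : q ≤ m) {g : R}
    (hgq : g ∉ q) (hgm : g ∈ m) :
    ∃ p : Ideal R, p.IsPrime ∧ q ≤ p ∧ g ∉ p ∧ p < m ∧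
      ∀ Q : Ideal R, Q.IsPrime → p < Q → Q ≤ m → Q = m := by
  obtain ⟨p, ⟨hp, hqp, hpm, hgp⟩, hmax⟩ : ∃ p : Ideal R, (p.IsPrime ∧ q ≤ p ∧ p ≤ m ∧ g ∉ p) ∧
      ∀ I : Ideal R, (I.IsPrime ∧ q ≤ I ∧ I ≤ m ∧ g ∉ I) → ¬ p < I :=
    set_has_maximal_iff_noetherian.mpr ‹IsNoetherianRing R›
      {p : Ideal R | p.IsPrime ∧ q ≤ p ∧ p ≤ m ∧ g ∉ p} ⟨q, ‹_›, le_rfl, hqm, hgq⟩
  refine ⟨p, hp, hqp, hgp, lt_of_le_of_ne hpm (fun h => hgp (h ▸ hgm)), fun Q hQ hpQ hQm => ?_⟩
  have hall : ∀ Q : Ideal R, Q.IsPrime → p < Q → Q ≤ m → g ∈ Q := fun Q hQ hpQ hQm => by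
    by_contra hg
    exact hmax Q ⟨hQ, hqp.trans hpQ.le, hQm, hg⟩ hpQ
  by_contra hne
  have hgQ := hall Q hQ hpQ hQm
  have hQlt : Q < m := lt_of_le_of_ne hQm hne
  let J := p ⊔ Ideal.span {g}
  have hfin : J.minimalPrimes.Finite := Ideal.finite_minimalPrimes_of_isNoetherianRing R J
  classical
  let T := hfin.toFinset.filter fun P => P ≠ m
  have hav : ¬ ((m : Set R) ⊆ ⋃ P ∈ (↑T : Set (Ideal R)), (P : Set R)) := by
    intro hsub
    obtain ⟨P, hP, hmP⟩ := (Ideal.subset_union_prime (s := T) (f := id) ⊥ ⊥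
      (fun P hP _ _ => (hfin.mem_toFinset.1 (Finset.mem_filter.1 hP).1).1.1)).1 hsub
    have hPm := (Finset.mem_filter.1 hP).2
    have hPmin := hfin.mem_toFinset.1 (Finset.mem_filter.1 hP).1
    have : P ≤ m := hPmin.2 ⟨‹m.IsPrime›, sup_le hpm (by simpa [Ideal.span_le] using hgm)⟩ hmP
    exact hPm (le_antisymm this hmP)
  obtain ⟨h, hhm, hh⟩ := Set.not_subset.mp hav
  obtain ⟨Qh, hQh, hQhm⟩ := Ideal.exists_minimalPrimes_le (I := p ⊔ Ideal.span {h}) (J := m)
    (sup_le hpm (by simpa [Ideal.span_le] using hhm))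
  have hpQh : p ≤ Qh := le_sup_left.trans hQh.1.2
  have hhQh : h ∈ Qh := hQh.1.2 (Ideal.mem_sup_right (Ideal.mem_span_singleton_self h))
  have hhp : h ∉ p := fun hp' => by
    obtain ⟨P, hP, hPQ⟩ := Ideal.exists_minimalPrimes_le (I := J) (J := Q)
      (sup_le hpQ.le (by simpa [Ideal.span_le] using hgQ))
    have hPm : P ≠ m := fun he => hQlt.not_ge (he ▸ hPQ)
    exact hh (Set.mem_biUnion (x := P) (Finset.mem_coe.2 (Finset.mem_filter.2 ⟨hfin.mem_toFinset.2 hP, hPm⟩))
      ((le_sup_left.trans hP.1.2) hp'))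
  have hpQh' : p < Qh := lt_of_le_of_ne hpQh (fun he => hhp (he ▸ hhQh))
  have hgQh := hall Qh hQh.1.1 hpQh' hQhm
  haveI := hQh.1.1
  obtain ⟨P, hP, hPQ⟩ := Ideal.exists_minimalPrimes_le (I := J) (J := Qh)
    (sup_le hpQh (by simpa [Ideal.span_le] using hgQh))
  have hPm : P ≠ m := by
    intro he
    obtain ⟨P', hP', hP'Q⟩ := Ideal.exists_minimalPrimes_le (I := J) (J := Q)
      (sup_le hpQ.le (by simpa [Ideal.span_le] using hgQ))
    have := (he ▸ hP).2 hP'.1 (hP'Q.trans hQm)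
    exact hQlt.not_ge (this.trans hP'Q)
  have hhP : h ∉ P := fun hh' => hh (Set.mem_biUnion (x := P)
    (Finset.mem_coe.2 (Finset.mem_filter.2 ⟨hfin.mem_toFinset.2 hP, hPm⟩)) hh')
  have hPlt : P < Qh := lt_of_le_of_ne hPQ (fun he => hhP (he ▸ hhQh))
  have hpP : p < P := lt_of_le_of_ne (le_sup_left.trans hP.1.2)
    (fun he => hgp (he ▸ hP.1.2 (Ideal.mem_sup_right (Ideal.mem_span_singleton_self g))))
  -- Krull's principal ideal theorem in `R ⧸ p`
  haveI := hP.1.1
  haveI := hQh.1.1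
  let π := Ideal.Quotient.mk p
  have hπ : Function.Surjective π := Ideal.Quotient.mk_surjective
  have hker : RingHom.ker π = p := Ideal.mk_ker
  haveI : (P.map π).IsPrime := Ideal.map_isPrime_of_surjective hπ (hker.le.trans hpP.le)
  haveI : (Qh.map π).IsPrime := Ideal.map_isPrime_of_surjective hπ (hker.le.trans hpQh)
  haveI : IsDomain (R ⧸ p) := Ideal.Quotient.isDomain p
  have hcm : ∀ I : Ideal R, p ≤ I → (I.map π).comap π = I := fun I hI => by
    rw [Ideal.comap_map_of_surjective π hπ, ← RingHom.ker_eq_comap_bot, hker, sup_of_le_left hI]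
  have hlt2 : P.map π < Qh.map π := lt_of_le_of_ne (Ideal.map_mono hPQ) (fun he => hPlt.ne
    (by rw [← hcm P hpP.le, ← hcm Qh hpQh, he]))
  have hlt1 : ⊥ < P.map π := lt_of_le_of_ne bot_le (fun he => hpP.ne
    (by rw [← hcm P hpP.le, ← he, ← RingHom.ker_eq_comap_bot, hker]))
  have hmin : Qh.map π ∈ (Ideal.span {π h}).minimalPrimes := by
    refine ⟨⟨inferInstance, ?_⟩, fun I hI hle => ?_⟩
    · rw [Ideal.span_le, Set.singleton_subset_iff]
      exact Ideal.mem_map_of_mem π hhQh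
    · haveI := hI.1
      have h1 : I.comap π ≤ Qh := (hcm Qh hpQh) ▸ Ideal.comap_mono hle
      have h2 : p ⊔ Ideal.span {h} ≤ I.comap π := sup_le
        (hker.ge.trans (Ideal.ker_le_comap π)) (by
          rw [Ideal.span_le, Set.singleton_subset_iff]
          exact hI.2 (Ideal.mem_span_singleton_self _))
      have h3 := hQh.2 ⟨inferInstance, h2⟩ h1
      rw [← Ideal.map_comap_of_surjective π hπ I]
      exact Ideal.map_mono h3
  haveI : (Ideal.span {π h}).IsPrincipal := ⟨⟨π h, rfl⟩⟩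
  have hle := Ideal.height_le_one_of_isPrincipal_of_mem_minimalPrimes (Ideal.span {π h}) (Qh.map π) hmin
  haveI : (⊥ : Ideal (R ⧸ p)).IsPrime := Ideal.isPrime_bot
  have a1 := Ideal.height_strict_mono_of_isPrime hlt1
  have a2 := Ideal.height_strict_mono_of_isPrime hlt2
  have b1 : (1 : ℕ∞) ≤ (P.map π).height := ENat.one_le_iff_ne_zero.mpr (ne_zero_of_lt a1)
  exact (lt_of_le_of_lt b1 a2).not_ge hle

/-- An element outside a height one maximal ideal cutting out that ideal from a nonzero one. -/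
lemma exists_not_mem_of_height_one [IsDomain R] {M : Ideal R} [M.IsPrime]
    (hM : ∀ Q : Ideal R, Q.IsPrime → Q < M → Q = ⊥) (hMmax : M.IsMaximal) {I : Ideal R} (hI : I ≠ ⊥) :
    ∃ g : R, g ∉ M ∧ ∀ Q : Ideal R, Q.IsPrime → I ≤ Q → g ∉ Q → Q = M := by
  classical
  have hfin : I.minimalPrimes.Finite := Ideal.finite_minimalPrimes_of_isNoetherianRing R I
  let T := hfin.toFinset.filter fun P => P ≠ M
  have hT : ¬ (∏ P ∈ T, P) ≤ M := by
    intro hle
    obtain ⟨P, hP, hPM⟩ := (‹M.IsPrime›.prod_le).1 hle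
    have hne := (Finset.mem_filter.1 hP).2
    have hmin := hfin.mem_toFinset.1 (Finset.mem_filter.1 hP).1
    exact hI (le_bot_iff.1 (hM P hmin.1.1 (lt_of_le_of_ne hPM hne) ▸ hmin.1.2))
  obtain ⟨g, hg, hgM⟩ := SetLike.not_le_iff_exists.1 hT
  refine ⟨g, hgM, fun Q hQ hIQ hgQ => ?_⟩
  obtain ⟨P, hP, hPQ⟩ := Ideal.exists_minimalPrimes_le (I := I) (J := Q) hIQ
  by_cases hPM : P = M
  · exact (hMmax.eq_of_le hQ.ne_top (hPM ▸ hPQ)).symm
  · exact (hgQ (hPQ ((Ideal.prod_le_inf.trans
      (Finset.inf_le (Finset.mem_filter.2 ⟨hfin.mem_toFinset.2 hP, hPM⟩))) hg))).elim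

end Algebra

set_option maxHeartbeats 1000000 in
/-- The normal model, inside a finite extension of a residue field of a Nagata ring, of a one step
specialisation to a closed point. -/
lemma exists_normal_model {B₀ : Type u} [CommRing B₀] (hN : CAlg.IsNagata B₀) {p m : Ideal B₀}
    [p.IsPrime] [m.IsMaximal] (hpm : p < m)
    (hbtw : ∀ Q : Ideal B₀, Q.IsPrime → p < Q → Q ≤ m → Q = m)
    (L : Type u) [Field L] (θ : p.ResidueField →+* L) (hθ : θ.Finite) :
    ∃ (B' : Type u) (_ : CommRing B') (_ : IsDomain B') (_ : IsNoetherianRing B')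
      (_ : IsIntegrallyClosed B') (β : B₀ →+* B') (M : Ideal B'), β.Finite ∧ M.IsMaximal ∧
      M.comap β = m ∧ M ≠ ⊥ ∧ (∀ Q : Ideal B', Q.IsPrime → Q < M → Q = ⊥) ∧
      ∀ (A : Type u) [CommRing A] (a : B' →+* A), (∀ b, b ≠ 0 → IsUnit (a b)) →
        ∃ χ : L →+* A, χ.comp (θ.comp (algebraMap B₀ p.ResidueField)) = a.comp β := by
  let B := B₀ ⧸ p
  haveI : IsDomain B := Ideal.Quotient.isDomain p
  haveI : IsNoetherianRing B₀ := hN.1
  letI : Algebra p.ResidueField L := θ.toAlgebra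
  haveI : FiniteDimensional p.ResidueField L := hθ
  letI : Algebra B L := (θ.comp (algebraMap B p.ResidueField)).toAlgebra
  haveI : IsScalarTower B p.ResidueField L := IsScalarTower.of_algebraMap_eq' rfl
  let B' := integralClosure B L
  haveI : Module.Finite B B' := Ram24.finite_integralClosure_of_isNagata B p.ResidueField L
    (CAlg1.Nag.isNagata_quotient p hN)
  haveI : IsFractionRing B' L := integralClosure.isFractionRing_of_finite_extension p.ResidueField L
  haveI : IsIntegrallyClosed B' := integralClosure.isIntegrallyClosedOfFiniteExtension p.ResidueField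
  haveI : IsNoetherianRing B' := IsNoetherianRing.of_finite B B'
  let β : B₀ →+* B' := (algebraMap B B').comp (Ideal.Quotient.mk p)
  have hmk : Function.Surjective (Ideal.Quotient.mk p) := Ideal.Quotient.mk_surjective
  have hinj : Function.Injective (algebraMap B B') := fun a b h => by
    have h' : algebraMap B L a = algebraMap B L b := congrArg (Subtype.val : B' → L) h
    exact IsFractionRing.injective B p.ResidueField (θ.injective h')
  have hker : RingHom.ker (Ideal.Quotient.mk p) = p := Ideal.mk_ker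
  let mB : Ideal B := m.map (Ideal.Quotient.mk p)
  have hmB : mB.comap (Ideal.Quotient.mk p) = m := by
    rw [Ideal.comap_map_of_surjective _ hmk, ← RingHom.ker_eq_comap_bot, hker, sup_of_le_left hpm.le]
  haveI : mB.IsMaximal := by
    refine (Ideal.map_eq_top_or_isMaximal_of_surjective _ hmk ‹m.IsMaximal›).resolve_left fun h => ?_
    exact ‹m.IsMaximal›.ne_top (by rw [← hmB, show mB = ⊤ from h, Ideal.comap_top])
  obtain ⟨M, hMp, hM⟩ := Ideal.exists_ideal_over_prime_of_isIntegral_of_isDomain (S := B') mB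
    (by rw [(RingHom.injective_iff_ker_eq_bot _).mp hinj]; exact bot_le)
  haveI := hMp
  have hMmax : M.IsMaximal :=
    Ideal.isMaximal_of_isIntegral_of_isMaximal_comap (R := B) M (by rw [hM]; infer_instance)
  have hβM : M.comap β = m := by
    show M.comap ((algebraMap B B').comp (Ideal.Quotient.mk p)) = m
    rw [← Ideal.comap_comap, hM, hmB]
  refine ⟨B', inferInstance, inferInstance, inferInstance, inferInstance, β, M, ?_, hMmax, hβM, ?_,
    fun Q hQ hQM => ?_, fun A _ a ha => ?_⟩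
  · exact (RingHom.finite_algebraMap.mpr ‹Module.Finite B B'›).comp (RingHom.Finite.of_surjective _ hmk)
  · intro h
    rw [h] at hM
    have h0 : mB = ⊥ := by
      rw [← hM, ← RingHom.ker_eq_comap_bot]; exact (RingHom.injective_iff_ker_eq_bot _).mp hinj
    exact hpm.ne (by rw [← hmB, h0, ← RingHom.ker_eq_comap_bot, hker])
  · haveI := hQ
    have hlt : Q.comap (algebraMap B B') < mB := hM ▸ Ideal.IsIntegral.comap_lt_comap hQM
    have hple : p ≤ (Q.comap (algebraMap B B')).comap (Ideal.Quotient.mk p) :=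
      hker.ge.trans (Ideal.ker_le_comap _)
    have hle : (Q.comap (algebraMap B B')).comap (Ideal.Quotient.mk p) ≤ m := hmB ▸ Ideal.comap_mono hlt.le
    have hne : (Q.comap (algebraMap B B')).comap (Ideal.Quotient.mk p) ≠ m := fun h => hlt.ne
      (Ideal.comap_injective_of_surjective _ hmk (h.trans hmB.symm))
    have heq : (Q.comap (algebraMap B B')).comap (Ideal.Quotient.mk p) = p := by
      refine (hple.eq_or_lt.resolve_right fun hlt' => hne ?_).symm
      exact hbtw _ inferInstance hlt' hle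
    refine Ideal.eq_bot_of_comap_eq_bot (R := B) (Ideal.comap_injective_of_surjective _ hmk ?_)
    rw [heq, ← RingHom.ker_eq_comap_bot, hker]
  · have hu : ∀ y : nonZeroDivisors B', IsUnit (a y) := fun y => ha _ (nonZeroDivisors.ne_zero y.2)
    refine ⟨IsLocalization.lift hu, RingHom.ext fun b => ?_⟩
    show IsLocalization.lift hu (algebraMap B L (Ideal.Quotient.mk p b)) = a (β b)
    rw [show algebraMap B L (Ideal.Quotient.mk p b) = algebraMap B' L (β b) from rfl, IsLocalization.lift_eq]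

set_option maxHeartbeats 2000000 in
/-- No point lies over a one step specialisation to a closed point outside the image of a closed set
when curves lift. -/
lemma false_of_specialisation {S X Y : Scheme.{u}} [IsLocallyNoetherian S] (q : Y ⟶ S) [LocallyOfFiniteType q]
    (f : X ⟶ Y) [LocallyOfFiniteType f]
    (H : ∀ (C : Scheme.{u}) (r : C ⟶ S) [IsIntegral C] [LocallyOfFiniteType r] [QuasiCompact r],
      (∀ x : C, IsIntegrallyClosed (C.presheaf.stalk x)) →
      ∀ (c : C), IsClosed ({c} : Set C) → ringKrullDim (C.presheaf.stalk c) = 1 →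
      ∀ (U : C.Opens), (U : Set C) = {c}ᶜ →
      ∀ (u : (U : Scheme.{u}) ⟶ X) (g : C ⟶ Y), g ≫ q = r → u ≫ f = U.ι ≫ g →
      ∀ (k : Spec (CommRingCat.of (FractionRing (C.presheaf.stalk c))) ⟶ (U : Scheme.{u})),
        k ≫ U.ι = Spec.map (CommRingCat.ofHom (algebraMap (C.presheaf.stalk c)
          (FractionRing (C.presheaf.stalk c)))) ≫ C.fromSpecStalk c →
      ∃ l : Spec (C.presheaf.stalk c) ⟶ X, l ≫ f = C.fromSpecStalk c ≫ g ∧
        Spec.map (CommRingCat.ofHom (algebraMap (C.presheaf.stalk c) (FractionRing (C.presheaf.stalk c)))) ≫ l =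
          k ≫ u)
    {T : Scheme.{u}} (w : T ⟶ Y) [LocallyOfFiniteType w]
    (B₀ : CommRingCat.{u}) (e : Spec B₀ ⟶ T) [IsOpenImmersion e] (hN : CAlg.IsNagata B₀)
    {p m : PrimeSpectrum B₀} [m.asIdeal.IsMaximal] (hpm : p.asIdeal < m.asIdeal)
    (hbtw : ∀ Q : Ideal B₀, Q.IsPrime → p.asIdeal < Q → Q ≤ m.asIdeal → Q = m.asIdeal)
    (L : CommRingCat.{u}) (hL : IsField L) (θ : CommRingCat.of p.asIdeal.ResidueField ⟶ L)
    (hθ : θ.hom.Finite)
    (Φ : Spec L ⟶ pullback f w)
    (hΦ : Φ ≫ pullback.snd f w =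
      Spec.map θ ≫ Spec.map (CommRingCat.ofHom (algebraMap B₀ p.asIdeal.ResidueField)) ≫ e)
    (Z : Set ↥(pullback f w)) (hZ : IsClosed Z) (hΦZ : Set.range Φ ⊆ Z)
    (hm : e m ∉ pullback.snd f w '' Z) : False := by
  letI := hL.toField
  obtain ⟨B', _, _, _, _, β, M, hβ, hMmax, hβM, hM0, hM1, hχ⟩ :=
    exists_normal_model hN hpm hbtw L θ.hom hθ
  haveI := hMmax
  let C₀ := Spec (CommRingCat.of B')
  let j : C₀ ⟶ T := Spec.map (CommRingCat.ofHom β) ≫ e
  haveI : LocallyOfFiniteType (Spec.map (CommRingCat.ofHom β)) :=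
    (HasRingHomProperty.Spec_iff (P := @LocallyOfFiniteType)).mpr hβ.finiteType
  haveI : LocallyOfFiniteType j := inferInstance
  let η₀ : C₀ := (⟨⊥, Ideal.isPrime_bot⟩ : PrimeSpectrum B')
  let sI := Spec.stalkIso (CommRingCat.of B') η₀
  obtain ⟨χ, hχ'⟩ := hχ (C₀.presheaf.stalk η₀)
    (CommRingCat.ofHom (algebraMap B' (Localization.AtPrime (R := B') (PrimeSpectrum.asIdeal η₀))) ≫ sI.inv).hom
    (fun b hb => by
      refine IsUnit.map sI.inv.hom ?_
      exact IsLocalization.map_units _ (⟨b, fun h => hb (Ideal.mem_bot.mp h)⟩ : (PrimeSpectrum.asIdeal η₀).primeCompl))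
  let φ : Spec (C₀.presheaf.stalk η₀) ⟶ pullback f w := Spec.map (CommRingCat.ofHom χ) ≫ Φ
  have hφ : φ ≫ pullback.snd f w = C₀.fromSpecStalk η₀ ≫ j := by
    rw [Category.assoc, hΦ, Spec.fromSpecStalk_eq, ← Spec.algebraMap_stalkIso_inv, ← Spec.map_comp_assoc,
      ← Spec.map_comp_assoc, ← Spec.map_comp_assoc]
    congr 2
    ext b
    exact DFunLike.congr_fun hχ' b
  obtain ⟨U₀, hη₀, fU, hfU, hfUπ⟩ := spread_out_of_isGermInjective' j (pullback.snd f w) φ hφ
  -- cut out the closed point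
  obtain ⟨I, hI⟩ := (PrimeSpectrum.isClosed_iff_zeroLocus_ideal ((U₀ : Set C₀)ᶜ)).mp
    U₀.2.isClosed_compl
  have hI0 : I ≠ ⊥ := by
    rintro rfl
    exact (hI.ge (show η₀ ∈ PrimeSpectrum.zeroLocus ((⊥ : Ideal B') : Set B') from
      fun x hx => (Ideal.mem_bot.mp hx) ▸ Ideal.zero_mem _)) hη₀
  obtain ⟨g, hgM, hg⟩ := exists_not_mem_of_height_one hM1 hMmax hI0
  let Bg := Localization.Away g
  haveI : IsDomain Bg := IsLocalization.isDomain_localization
    (powers_le_nonZeroDivisors_of_noZeroDivisors fun h => hgM (h ▸ M.zero_mem))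
  let C := Spec (CommRingCat.of Bg)
  let ιg : C ⟶ C₀ := Spec.map (CommRingCat.ofHom (algebraMap B' Bg))
  haveI : IsOpenImmersion ιg := IsOpenImmersion.of_isLocalization g
  have hrange : Set.range ιg = ((PrimeSpectrum.basicOpen g : TopologicalSpace.Opens (PrimeSpectrum B')) :
      Set (PrimeSpectrum B')) :=
    PrimeSpectrum.localization_away_comap_range Bg g
  obtain ⟨c, hc⟩ : ∃ c : C, ιg c = (⟨M, hMmax.isPrime⟩ : PrimeSpectrum B') :=
    hrange.ge (show (⟨M, hMmax.isPrime⟩ : PrimeSpectrum B') ∈ PrimeSpectrum.basicOpen g from hgM)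
  have hιinj : Function.Injective ιg := ιg.isOpenEmbedding.injective
  have hclosed : IsClosed ({c} : Set C) := by
    rw [show ({c} : Set C) = ιg ⁻¹' {ιg c} by rw [← Set.image_singleton, Set.preimage_image_eq _ hιinj], hc]
    exact ((PrimeSpectrum.isClosed_singleton_iff_isMaximal _).mpr hMmax).preimage ιg.continuous
  have hstalk : ∀ y : C, ∃ P : PrimeSpectrum B', P = ιg y ∧
      Nonempty (Localization.AtPrime P.asIdeal ≃+* C.presheaf.stalk y) := fun y =>
    ⟨ιg y, rfl, ⟨((Spec.stalkIso (CommRingCat.of B') (ιg y)).symm ≪≫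
      asIso (ιg.stalkMap y)).commRingCatIsoToRingEquiv⟩⟩
  have hnormal : ∀ y : C, IsIntegrallyClosed (C.presheaf.stalk y) := fun y => by
    obtain ⟨P, -, ⟨E⟩⟩ := hstalk y
    haveI : IsIntegrallyClosed (Localization.AtPrime P.asIdeal) :=
      isIntegrallyClosed_of_isLocalization _ P.asIdeal.primeCompl P.asIdeal.primeCompl_le_nonZeroDivisors
    exact IsIntegrallyClosed.of_equiv E
  have hdim : ringKrullDim (C.presheaf.stalk c) = 1 := by
    obtain ⟨P, hP, ⟨E⟩⟩ := hstalk c
    rw [← ringKrullDim_eq_of_ringEquiv E, IsLocalization.AtPrime.ringKrullDim_eq_height P.asIdeal]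
    have hPM : P.asIdeal = M := by rw [hP, hc]
    have h1 : M.height ≤ (1 : ℕ) := Ideal.height_le_iff.mpr fun Q hQ hQM => by
      rw [hM1 Q hQ hQM, Ideal.height_bot]; exact Nat.cast_lt.mpr Nat.one_pos
    haveI : (⊥ : Ideal B').IsPrime := Ideal.isPrime_bot
    have h2 : (⊥ : Ideal B').height < M.height := Ideal.height_strict_mono_of_isPrime (bot_lt_iff_ne_bot.mpr hM0)
    have h3 : M.height = 1 := le_antisymm h1 (Order.one_le_iff_ne_zero.mpr (ne_zero_of_lt h2))
    rw [hPM, h3]
    rfl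
  let U : C.Opens := ⟨{c}ᶜ, hclosed.isOpen_compl⟩
  have hU : Set.range (U.ι ≫ ιg) ⊆ Set.range U₀.ι := by
    rw [Scheme.Opens.range_ι]
    rintro _ ⟨y, rfl⟩
    by_contra hy
    have hyI : (I : Set B') ⊆ (ιg (U.ι y)).asIdeal := by
      have := hI.le (show (U.ι ≫ ιg) y ∈ (U₀ : Set C₀)ᶜ from hy)
      rwa [Scheme.Hom.comp_apply, PrimeSpectrum.mem_zeroLocus] at this
    have hyg : g ∉ (ιg (U.ι y)).asIdeal := hrange.le ⟨_, rfl⟩
    have hyM : ιg (U.ι y) = ιg c := by
      rw [hc]; exact PrimeSpectrum.ext (hg _ (ιg (U.ι y)).isPrime hyI hyg)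
    have h1 : U.ι y ∈ Set.range U.ι := ⟨y, rfl⟩
    rw [Scheme.Opens.range_ι] at h1
    exact h1 (hιinj hyM)
  let uP : (U : Scheme.{u}) ⟶ pullback f w := IsOpenImmersion.lift U₀.ι (U.ι ≫ ιg) hU ≫ fU
  have huP : uP ≫ pullback.snd f w = U.ι ≫ ιg ≫ j := by
    rw [Category.assoc, hfUπ, IsOpenImmersion.lift_fac_assoc, Category.assoc]
  haveI : QuasiSeparatedSpace S := inferInstance
  let k₀ : Spec (CommRingCat.of (FractionRing (C.presheaf.stalk c))) ⟶ C :=
    Spec.map (CommRingCat.ofHom (algebraMap (C.presheaf.stalk c) (FractionRing (C.presheaf.stalk c)))) ≫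
      C.fromSpecStalk c
  have hk₀ : ∀ y, k₀ y ⤳ c ∧ k₀ y ≠ c := fun y => by
    let y' : Spec (C.presheaf.stalk c) := Spec.map (CommRingCat.ofHom (algebraMap (C.presheaf.stalk c)
      (FractionRing (C.presheaf.stalk c)))) y
    have h0 : k₀ y = C.fromSpecStalk c y' := Scheme.Hom.comp_apply _ _ _
    have hcp : C.fromSpecStalk c (IsLocalRing.closedPoint _) = c := Scheme.fromSpecStalk_closedPoint
    refine ⟨?_, fun he => ?_⟩
    · conv_rhs => rw [← hcp]
      rw [h0]
      exact (IsLocalRing.specializes_closedPoint y').map (C.fromSpecStalk c).continuous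
    · have hy' : y' = IsLocalRing.closedPoint _ :=
        (C.fromSpecStalk c).isEmbedding.injective (by rw [← h0, he, hcp])
      haveI : IsFractionRing (C.presheaf.stalk c) (FractionRing (C.presheaf.stalk c)) := inferInstance
      have hbot : (IsLocalRing.maximalIdeal (C.presheaf.stalk c)) = ⊥ := by
        have h1 : y'.asIdeal = ⊥ := by
          show Ideal.comap (algebraMap (C.presheaf.stalk c) (FractionRing (C.presheaf.stalk c))) _ = ⊥
          rw [Ideal.eq_bot_of_prime y.asIdeal, ← RingHom.ker_eq_comap_bot,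
            (RingHom.injective_iff_ker_eq_bot _).mp (IsFractionRing.injective _ _)]
        rw [← h1, hy']; rfl
      have hfld : IsField (C.presheaf.stalk c) := IsLocalRing.isField_iff_maximalIdeal_eq.mpr hbot
      rw [ringKrullDim_eq_zero_of_isField hfld] at hdim
      exact zero_ne_one hdim
  let k := IsOpenImmersion.lift U.ι k₀ (by
    rw [Scheme.Opens.range_ι]; rintro _ ⟨y, rfl⟩; exact (hk₀ y).2)
  have hk : k ≫ U.ι = k₀ := IsOpenImmersion.lift_fac _ _ _
  obtain ⟨l, hl, hlk⟩ := H C ((ιg ≫ j ≫ w) ≫ q) hnormal c hclosed hdim U rfl (uP ≫ pullback.fst f w)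
    (ιg ≫ j ≫ w) rfl (by rw [Category.assoc, pullback.condition, ← Category.assoc, huP]; simp) k hk
  let Lft : _ ⟶ pullback f w := pullback.lift l (C.fromSpecStalk c ≫ ιg ≫ j) (by rw [hl]; simp)
  let gen := Spec.map (CommRingCat.ofHom (algebraMap (C.presheaf.stalk c) (FractionRing (C.presheaf.stalk c))))
  have hgen : gen ≫ Lft = k ≫ uP := by
    apply pullback.hom_ext
    · rw [Category.assoc, pullback.lift_fst, Category.assoc]; exact hlk
    · rw [Category.assoc, pullback.lift_snd, Category.assoc, huP, ← Category.assoc k, hk]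
      exact (Category.assoc _ _ _).symm
  let y₀ : Spec (CommRingCat.of (FractionRing (C.presheaf.stalk c))) :=
    IsLocalRing.closedPoint (FractionRing (C.presheaf.stalk c))
  have hy₀ : (IsOpenImmersion.lift U₀.ι (U.ι ≫ ιg) hU) (k y₀) =
      U₀.fromSpecStalkOfMem η₀ hη₀ (IsLocalRing.closedPoint _) := by
    refine U₀.ι.isOpenEmbedding.injective ?_
    rw [← Scheme.Hom.comp_apply, IsOpenImmersion.lift_fac, ← Scheme.Hom.comp_apply, ← Category.assoc, hk,
      ← Scheme.Hom.comp_apply, Scheme.Opens.fromSpecStalkOfMem_ι, Scheme.fromSpecStalk_closedPoint,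
      Scheme.Hom.comp_apply]
    have h1 : (ιg (k₀ y₀)).asIdeal ≤ M := by
      have := (PrimeSpectrum.le_iff_specializes _ _).mpr ((hk₀ y₀).1.map ιg.continuous)
      rwa [hc] at this
    have h2 : (ιg (k₀ y₀)).asIdeal ≠ M := fun he => (hk₀ y₀).2 (hιinj ((PrimeSpectrum.ext he).trans hc.symm))
    exact PrimeSpectrum.ext (hM1 _ (ιg (k₀ y₀)).isPrime (lt_of_le_of_ne h1 h2))
  have hinZ : Lft (gen y₀) ∈ Z := by
    rw [← Scheme.Hom.comp_apply, hgen, Scheme.Hom.comp_apply, Scheme.Hom.comp_apply, hy₀,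
      ← Scheme.Hom.comp_apply, ← hfU]
    exact hΦZ ⟨_, (Scheme.Hom.comp_apply _ _ _).symm⟩
  refine hm ⟨Lft (IsLocalRing.closedPoint (C.presheaf.stalk c)),
    ((IsLocalRing.specializes_closedPoint (gen y₀)).map Lft.continuous).mem_closed hZ hinZ, ?_⟩
  rw [← Scheme.Hom.comp_apply, pullback.lift_snd, Scheme.Hom.comp_apply, Scheme.fromSpecStalk_closedPoint,
    Scheme.Hom.comp_apply, hc, Scheme.Hom.comp_apply]
  congr 1
  exact PrimeSpectrum.ext hβM

lemma isLocallyNoetherian_of_nagata {S : Scheme.{u}} (hS : ∀ W : S.affineOpens, CAlg.IsNagata Γ(S, W)) :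
    IsLocallyNoetherian S := ⟨fun W => (hS W).1⟩

set_option maxHeartbeats 1000000 in
/-- A quasi-compact morphism over a Nagata base is universally closed when it has the lifting
property for germs of normal curves. -/
theorem universallyClosed_of_curves (S : Scheme.{u}) (hS : ∀ W : S.affineOpens, CAlg.IsNagata Γ(S, W))
    {X Y : Scheme.{u}} (q : Y ⟶ S) [LocallyOfFiniteType q] (f : X ⟶ Y) [LocallyOfFiniteType f] [QuasiCompact f]
    (H : ∀ (C : Scheme.{u}) (r : C ⟶ S) [IsIntegral C] [LocallyOfFiniteType r] [QuasiCompact r],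
      (∀ x : C, IsIntegrallyClosed (C.presheaf.stalk x)) →
      ∀ (c : C), IsClosed ({c} : Set C) → ringKrullDim (C.presheaf.stalk c) = 1 →
      ∀ (U : C.Opens), (U : Set C) = {c}ᶜ →
      ∀ (u : (U : Scheme.{u}) ⟶ X) (g : C ⟶ Y), g ≫ q = r → u ≫ f = U.ι ≫ g →
      ∀ (k : Spec (CommRingCat.of (FractionRing (C.presheaf.stalk c))) ⟶ (U : Scheme.{u})),
        k ≫ U.ι = Spec.map (CommRingCat.ofHom (algebraMap (C.presheaf.stalk c)
          (FractionRing (C.presheaf.stalk c)))) ≫ C.fromSpecStalk c →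
      ∃ l : Spec (C.presheaf.stalk c) ⟶ X, l ≫ f = C.fromSpecStalk c ≫ g ∧
        Spec.map (CommRingCat.ofHom (algebraMap (C.presheaf.stalk c) (FractionRing (C.presheaf.stalk c)))) ≫ l =
          k ≫ u) :
    UniversallyClosed f := by
  haveI := isLocallyNoetherian_of_nagata hS
  haveI : IsLocallyNoetherian Y := LocallyOfFiniteType.isLocallyNoetherian q
  refine EGA73.universallyClosed_of_forall_finiteType f fun U₁ hU₁ A' _ _ _ => ?_
  let w := Spec.map (CommRingCat.ofHom (algebraMap Γ(Y, U₁) A')) ≫ hU₁.fromSpec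
  haveI : LocallyOfFiniteType (Spec.map (CommRingCat.ofHom (algebraMap Γ(Y, U₁) A'))) :=
    (HasRingHomProperty.Spec_iff (P := @LocallyOfFiniteType)).mpr
      (RingHom.finiteType_algebraMap.mpr inferInstance)
  haveI : LocallyOfFiniteType w := inferInstance
  show IsClosedMap (pullback.snd f w)
  intro Z hZ
  haveI : IsLocallyNoetherian (Spec (CommRingCat.of A')) := LocallyOfFiniteType.isLocallyNoetherian (w ≫ q)
  haveI : IsNoetherian (Spec (CommRingCat.of A')) := ⟨⟩
  haveI : IsLocallyNoetherian (pullback f w) :=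
    LocallyOfFiniteType.isLocallyNoetherian (pullback.snd f w)
  haveI : CompactSpace ↥(pullback f w) := QuasiCompact.compactSpace_of_compactSpace (pullback.snd f w)
  haveI : IsNoetherian (pullback f w) := ⟨⟩
  haveI : LocallyOfFinitePresentation (pullback.snd f w) := inferInstance
  have hE : Topology.IsConstructible (pullback.snd f w '' Z) :=
    (pullback.snd f w).isConstructible_image (ConstrTop58.isConstructible_of_isClosed hZ)
  refine isClosed_of_closure_subset fun t' ht' => ?_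
  by_contra ht'E
  obtain ⟨Y₁, hY₁, hYi, htY, U₀, hU₀, hne, hU₀E⟩ := ConstrTop58.exists_irreducible_of_mem_closure hE ht'
  obtain ⟨W, hW, htW, hWsub⟩ := Var76.FibreBound.exists_nhd_inter_closure t' hE
  have hWE : W ∩ closure {t'} ⊆ (pullback.snd f w '' Z)ᶜ :=
    hWsub.resolve_left fun h => ht'E (h ⟨htW, subset_closure rfl⟩)
  obtain ⟨_, ⟨(S₀ : S.Opens), (hS₀ : IsAffineOpen S₀), rfl⟩, (hsS₀ : (w ≫ q) t' ∈ S₀), -⟩ :=
    S.isBasis_affineOpens.exists_subset_of_mem_open (Set.mem_univ ((w ≫ q) t')) isOpen_univ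
  obtain ⟨_, ⟨(V : (Spec (CommRingCat.of A')).Opens), (hV : IsAffineOpen V), rfl⟩, (htV : t' ∈ V), hVsub⟩ :=
    (Spec (CommRingCat.of A')).isBasis_affineOpens.exists_subset_of_mem_open
      (show t' ∈ W ∩ ((w ≫ q) ⁻¹ᵁ S₀ : (Spec (CommRingCat.of A')).Opens) from ⟨htW, hsS₀⟩)
      (hW.inter ((w ≫ q) ⁻¹ᵁ S₀).2)
  have hVle : V ≤ (w ≫ q) ⁻¹ᵁ S₀ := fun x hx => (hVsub hx).2
  have hN : CAlg.IsNagata Γ(Spec (CommRingCat.of A'), V) := by
    let φ := ((w ≫ q).appLE S₀ V hVle).hom
    letI : Algebra Γ(S, S₀) Γ(Spec (CommRingCat.of A'), V) := φ.toAlgebra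
    haveI : Algebra.FiniteType Γ(S, S₀) Γ(Spec (CommRingCat.of A'), V) :=
      (w ≫ q).finiteType_appLE hS₀ hV hVle
    exact CAlg1.Nag.isNagata_of_finiteType (hS ⟨S₀, hS₀⟩)
  haveI : IsNoetherianRing Γ(Spec (CommRingCat.of A'), V) := hN.1
  let e := hV.fromSpec
  have hre : Set.range e = V := hV.range_fromSpec
  -- a closed point of `V` in the closure of `t'`
  obtain ⟨pt, hpt⟩ := hre.ge htV
  obtain ⟨m, hmC, hm⟩ := (isClosed_closure.preimage e.continuous).exists_closed_singleton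
    (S := e ⁻¹' closure {t'}) ⟨pt, show e pt ∈ closure {t'} from hpt ▸ subset_closure rfl⟩
  haveI hmmax : (PrimeSpectrum.asIdeal m).IsMaximal := (PrimeSpectrum.isClosed_singleton_iff_isMaximal m).mp hm
  have hmE : e m ∉ pullback.snd f w '' Z := hWE ⟨(hVsub (hre.le ⟨m, rfl⟩)).1, hmC⟩
  have hg := hYi.isGenericPoint_genericPoint hY₁
  obtain ⟨q₀, hq₀⟩ := hre.ge ((hg.specializes htY).mem_open V.2 htV)
  have hηU : hYi.genericPoint ∈ U₀ := (hg.mem_open_set_iff hU₀).mpr (by rwa [Set.inter_comm] at hne)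
  obtain ⟨_, ⟨g, rfl⟩, hgq, hgU⟩ := PrimeSpectrum.isTopologicalBasis_basic_opens.exists_subset_of_mem_open
    (show q₀ ∈ e ⁻¹' U₀ from show e q₀ ∈ U₀ by rw [hq₀]; exact hηU) (hU₀.preimage e.continuous)
  have hq₀m : q₀.asIdeal ≤ m.asIdeal := by
    refine (PrimeSpectrum.le_iff_specializes q₀ m).mpr (e.isOpenEmbedding.isInducing.specializes_iff.mp ?_)
    rw [hq₀]
    exact hg.specializes (closure_minimal (Set.singleton_subset_iff.mpr htY) hY₁ hmC)
  have hDE : ∀ x : PrimeSpectrum Γ(Spec (CommRingCat.of A'), V), q₀.asIdeal ≤ x.asIdeal → g ∉ x.asIdeal →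
      e x ∈ pullback.snd f w '' Z := fun x hx hgx => hU₀E ⟨hgU hgx,
    ((PrimeSpectrum.le_iff_specializes q₀ x).mp hx).map e.continuous |>.mem_closed hY₁
      (by rw [hq₀]; exact hg.mem)⟩
  have hgm : g ∈ m.asIdeal := by_contra fun h => hmE (hDE m hq₀m h)
  obtain ⟨p, hp, hqp, hgp, hpm, hbtw⟩ := exists_prime_coatom hq₀m hgq hgm
  haveI := hp
  let pp : PrimeSpectrum Γ(Spec (CommRingCat.of A'), V) := ⟨p, hp⟩
  obtain ⟨z₀, hz₀, hz₀p⟩ := hDE pp hqp hgp
  let ε : Spec (CommRingCat.of p.ResidueField) ⟶ Spec (CommRingCat.of A') :=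
    Spec.map (CommRingCat.ofHom (algebraMap Γ(Spec (CommRingCat.of A'), V) p.ResidueField)) ≫ e
  have hεp : ε (IsLocalRing.closedPoint p.ResidueField) = e pp := by
    rw [Scheme.Hom.comp_apply]
    congr 1
    refine PrimeSpectrum.ext ?_
    show Ideal.comap (algebraMap _ p.ResidueField) (IsLocalRing.maximalIdeal _) = p
    rw [IsLocalRing.maximalIdeal_eq_bot, ← RingHom.ker_eq_comap_bot, Ideal.ker_algebraMap_residueField]
  obtain ⟨a, ha, -⟩ := Scheme.Pullback.exists_preimage_pullback (f := pullback.snd f w) (g := ε) z₀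
    (IsLocalRing.closedPoint p.ResidueField) (hz₀p.trans hεp.symm)
  haveI : CompactSpace ↥(pullback (pullback.snd f w) ε) :=
    QuasiCompact.compactSpace_of_compactSpace (pullback.snd (pullback.snd f w) ε)
  obtain ⟨x, hxZ, hx⟩ := (hZ.preimage (pullback.fst (pullback.snd f w) ε).continuous).exists_closed_singleton
    (S := pullback.fst (pullback.snd f w) ε ⁻¹' Z) ⟨a, show _ ∈ Z from ha ▸ hz₀⟩
  let F := pullback (pullback.snd f w) ε
  haveI : IsClosedImmersion (F.fromSpecResidueField x) := isClosed_singleton_iff_isClosedImmersion.mp hx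
  let θ := Spec.preimage (F.fromSpecResidueField x ≫ pullback.snd (pullback.snd f w) ε)
  have hθ : θ.hom.Finite := by
    refine RingHom.finite_iff_finiteType_of_isJacobsonRing.mpr
      ((HasRingHomProperty.Spec_iff (P := @LocallyOfFiniteType) (φ := θ)).mp ?_)
    rw [Spec.map_preimage]
    infer_instance
  refine false_of_specialisation q f H w Γ(Spec (CommRingCat.of A'), V) e hN (p := pp) (m := m) hpm hbtw
    (F.residueField x) (Field.toIsField _) θ hθ
    (F.fromSpecResidueField x ≫ pullback.fst (pullback.snd f w) ε) ?_ Z hZ ?_ hmE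
  · rw [Category.assoc, pullback.condition, ← Category.assoc, Spec.map_preimage]
  · rintro _ ⟨y, rfl⟩
    rw [Scheme.Hom.comp_apply]
    have : F.fromSpecResidueField x y = x := Scheme.fromSpecResidueField_apply _ _
    rw [this]
    exact hxZ

/-- A morphism over a Nagata base is separated when lifts of germs of normal curves are unique. -/
theorem isSeparated_of_curves (S : Scheme.{u}) (hS : ∀ W : S.affineOpens, CAlg.IsNagata Γ(S, W))
    {X Y : Scheme.{u}} (q : Y ⟶ S) [LocallyOfFiniteType q] (f : X ⟶ Y) [LocallyOfFiniteType f]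
    (H : ∀ (C : Scheme.{u}) (r : C ⟶ S) [IsIntegral C] [LocallyOfFiniteType r] [QuasiCompact r],
      (∀ x : C, IsIntegrallyClosed (C.presheaf.stalk x)) →
      ∀ (c : C), IsClosed ({c} : Set C) → ringKrullDim (C.presheaf.stalk c) = 1 →
      ∀ (U : C.Opens), (U : Set C) = {c}ᶜ →
      ∀ (u : (U : Scheme.{u}) ⟶ X) (g : C ⟶ Y), g ≫ q = r → u ≫ f = U.ι ≫ g →
      ∀ (k : Spec (CommRingCat.of (FractionRing (C.presheaf.stalk c))) ⟶ (U : Scheme.{u})),
        k ≫ U.ι = Spec.map (CommRingCat.ofHom (algebraMap (C.presheaf.stalk c)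
          (FractionRing (C.presheaf.stalk c)))) ≫ C.fromSpecStalk c →
      ∀ l l' : Spec (C.presheaf.stalk c) ⟶ X,
        l ≫ f = C.fromSpecStalk c ≫ g →
        Spec.map (CommRingCat.ofHom (algebraMap (C.presheaf.stalk c) (FractionRing (C.presheaf.stalk c)))) ≫ l =
          k ≫ u →
        l' ≫ f = C.fromSpecStalk c ≫ g →
        Spec.map (CommRingCat.ofHom (algebraMap (C.presheaf.stalk c) (FractionRing (C.presheaf.stalk c)))) ≫ l' =
          k ≫ u → l = l') :
    IsSeparated f := by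
  haveI := isLocallyNoetherian_of_nagata hS
  haveI : IsLocallyNoetherian X := LocallyOfFiniteType.isLocallyNoetherian (f ≫ q)
  haveI : QuasiSeparated f := QuasiSeparated.of_quasiSeparatedSpace f
  haveI : UniversallyClosed (pullback.diagonal f) := by
    refine universallyClosed_of_curves S hS ((pullback.fst f f ≫ f) ≫ q) (pullback.diagonal f)
      fun C r _ _ _ hn c hc hd U hU u g hg hu k hk => ?_
    have h1 : u = U.ι ≫ g ≫ pullback.fst f f := by
      have := congrArg (· ≫ pullback.fst f f) hu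
      simpa using this
    have h2 : u = U.ι ≫ g ≫ pullback.snd f f := by
      have := congrArg (· ≫ pullback.snd f f) hu
      simpa using this
    let l := C.fromSpecStalk c ≫ g ≫ pullback.fst f f
    let l' := C.fromSpecStalk c ≫ g ≫ pullback.snd f f
    have he : l = l' := H C r hn c hc hd U hU u (g ≫ pullback.fst f f ≫ f)
      (by rw [← hg]; simp) (by rw [h1]; simp) k hk l l'
      (by simp [l]) (by rw [h1, reassoc_of% hk]) (by simp [l', pullback.condition])
      (by rw [h2, reassoc_of% hk])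
    refine ⟨l, ?_, by rw [h1, reassoc_of% hk]⟩
    apply pullback.hom_ext
    · simp [l]
    · simpa [l, l'] using he
  exact ⟨IsClosedImmersion.of_isPreimmersion _ (pullback.diagonal f).isClosedMap.isClosed_range⟩

lemma isDiscreteValuationRing_stalk {S C : Scheme.{u}} [IsLocallyNoetherian S] (r : C ⟶ S)
    [LocallyOfFiniteType r] [IsIntegral C] (c : C) (hn : IsIntegrallyClosed (C.presheaf.stalk c))
    (hd : ringKrullDim (C.presheaf.stalk c) = 1) : IsDiscreteValuationRing (C.presheaf.stalk c) := by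
  haveI : IsLocallyNoetherian C := LocallyOfFiniteType.isLocallyNoetherian r
  haveI : IsDomain (C.presheaf.stalk c) := inferInstance
  have hnf : ¬ IsField (C.presheaf.stalk c) := fun h => by
    rw [ringKrullDim_eq_zero_of_isField h] at hd; exact zero_ne_one hd
  haveI : Ring.KrullDimLE 1 (C.presheaf.stalk c) := Ring.krullDimLE_iff.mpr hd.le
  have h03 : IsDiscreteValuationRing (C.presheaf.stalk c) ↔ IsIntegrallyClosed (C.presheaf.stalk c) ∧
      ∃! P : Ideal (C.presheaf.stalk c), P ≠ ⊥ ∧ P.IsPrime :=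
    (IsDiscreteValuationRing.TFAE (C.presheaf.stalk c) hnf).out 0 3
  refine h03.mpr
    ⟨hn, IsLocalRing.maximalIdeal (C.presheaf.stalk c),
      ⟨fun h => hnf (IsLocalRing.isField_iff_maximalIdeal_eq.mpr h), inferInstance⟩, fun P hP => ?_⟩
  exact IsLocalRing.eq_maximalIdeal (Ring.krullDimLE_one_iff_of_noZeroDivisors.mp inferInstance P hP.1 hP.2)

end Groth.Agent.Approx60.NagCurve
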