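import Mathlib.AlgebraicGeometry.Morphisms.QuasiSeparated
import Mathlib.AlgebraicGeometry.Morphisms.IsIso

set_option autoImplicit false
set_option backward.isDefEq.respectTransparency false
set_option backward.defeqAttrib.useBackward true

/-! Open immersions of quasi-compact quasi-separated schemes into affine schemes, read off from
global sections. -/

universe u

open CategoryTheory CategoryTheory.Limits AlgebraicGeometry Opposite

namespace Groth.Agent.Approx60

variable {E Y : Scheme.{u}}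

lemma res_appTop_eq (q : E ⟶ Y) (h : Γ(Y, ⊤)) (c : Γ(Y, ⊤)) :
    E.presheaf.map (homOfLE (E.basicOpen_le (q.appTop h))).op (q.appTop c) =
      E.presheaf.map (eqToHom (Scheme.preimage_basicOpen_top q h).symm).op
        (q.app (Y.basicOpen h) (Y.presheaf.map (homOfLE (Y.basicOpen_le h)).op c)) := by
  simp only [← CommRingCat.comp_apply]
  rw [Scheme.Hom.naturality, Category.assoc, ← Functor.map_comp]
  rfl

theorem isIso_app_basicOpen [IsAffine Y] [CompactSpace E] [QuasiSeparatedSpace E] (q : E ⟶ Y) (h : Γ(Y, ⊤))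
    (inj : ∀ c, q.appTop c = 0 → ∃ N : ℕ, h ^ N * c = 0)
    (surj : ∀ x, ∃ (N : ℕ) (c : Γ(Y, ⊤)), q.appTop c = q.appTop h ^ N * x) :
    IsIso (q.app (Y.basicOpen h)) := by
  let f := q.appTop h
  have hY : IsLocalization.Away h Γ(Y, Y.basicOpen h) := (isAffineOpen_top Y).isLocalization_basicOpen h
  have hE : IsLocalization.Away f Γ(E, E.basicOpen f) :=
    isLocalization_basicOpen_of_qcqs (U := (⊤ : E.Opens)) isCompact_univ isQuasiSeparated_univ f
  refine @IsIso.of_isIso_comp_right _ _ _ _ _ _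
    (E.presheaf.map (eqToHom (Scheme.preimage_basicOpen_top q h).symm).op) _ ?_
  rw [ConcreteCategory.isIso_iff_bijective]
  let ψ := q.app (Y.basicOpen h) ≫ E.presheaf.map (eqToHom (Scheme.preimage_basicOpen_top q h).symm).op
  have key : ∀ c : Γ(Y, ⊤), ψ (algebraMap Γ(Y, ⊤) Γ(Y, Y.basicOpen h) c) =
      algebraMap Γ(E, ⊤) Γ(E, E.basicOpen f) (q.appTop c) := fun c => (res_appTop_eq q h c).symm
  have hu : ∀ N : ℕ, IsUnit (algebraMap Γ(E, ⊤) Γ(E, E.basicOpen f) (f ^ N)) := fun N =>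
    IsLocalization.map_units (M := Submonoid.powers f) _ ⟨f ^ N, N, rfl⟩
  constructor
  · show Function.Injective ψ.hom
    rw [injective_iff_map_eq_zero]
    intro z hz
    obtain ⟨⟨c, _, n, rfl⟩, hc⟩ := IsLocalization.surj (M := Submonoid.powers h) z
    have h1 : algebraMap Γ(E, ⊤) Γ(E, E.basicOpen f) (q.appTop c) = 0 := by
      rw [← key, ← hc]; simp [hz]
    obtain ⟨⟨_, m, rfl⟩, hm⟩ :=
      (IsLocalization.map_eq_zero_iff (Submonoid.powers f) Γ(E, E.basicOpen f) _).mp h1
    obtain ⟨N, hN⟩ := inj (h ^ m * c) (by simpa [f] using hm)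
    have h2 : algebraMap Γ(Y, ⊤) Γ(Y, Y.basicOpen h) c = 0 :=
      (IsLocalization.map_eq_zero_iff (Submonoid.powers h) _ _).mpr
        ⟨⟨h ^ (N + m), N + m, rfl⟩, by simpa [pow_add, mul_assoc] using hN⟩
    rw [h2] at hc
    exact (IsLocalization.map_units (M := Submonoid.powers h) Γ(Y, Y.basicOpen h)
      ⟨h ^ n, n, rfl⟩).mul_left_eq_zero.mp hc
  · intro y
    obtain ⟨⟨x, _, n, rfl⟩, hx⟩ := IsLocalization.surj (M := Submonoid.powers f) y
    obtain ⟨N, c, hc⟩ := surj x
    refine ⟨IsLocalization.mk' Γ(Y, Y.basicOpen h) c (⟨h ^ (N + n), N + n, rfl⟩ : Submonoid.powers h), ?_⟩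
    show ψ _ = y
    refine (hu (N + n)).mul_right_cancel ?_
    have e := congrArg ψ (IsLocalization.mk'_spec Γ(Y, Y.basicOpen h) c
      (⟨h ^ (N + n), N + n, rfl⟩ : Submonoid.powers h))
    rw [map_mul, key, key] at e
    simp only [map_pow] at e hc
    simp only [map_pow] at hx ⊢
    simp only [f] at e hx hc ⊢
    rw [e, hc, map_mul, ← hx, map_pow, pow_add]
    ring

theorem isOpenImmersion_of_sections [IsAffine Y] [CompactSpace E] [QuasiSeparatedSpace E] (q : E ⟶ Y)
    {ι : Type*} (h : ι → Γ(Y, ⊤)) (hcov : ⨆ k, E.basicOpen (q.appTop (h k)) = ⊤)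
    (haff : ∀ k, IsAffineOpen (E.basicOpen (q.appTop (h k))))
    (inj : ∀ k c, q.appTop c = 0 → ∃ N : ℕ, h k ^ N * c = 0)
    (surj : ∀ k x, ∃ (N : ℕ) (c : Γ(Y, ⊤)), q.appTop c = q.appTop (h k) ^ N * x) :
    IsOpenImmersion q ∧ Set.range q = ((⨆ k, Y.basicOpen (h k) : Y.Opens) : Set Y) := by
  let O : Y.Opens := ⨆ k, Y.basicOpen (h k)
  have hO : q ⁻¹ᵁ O = ⊤ := by
    simp only [O, Scheme.Hom.preimage_iSup, Scheme.preimage_basicOpen_top, hcov]
  have hk : ∀ k, IsIso (q ∣_ Y.basicOpen (h k)) := by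
    intro k
    have : IsAffine (Y.basicOpen (h k)) := (isAffineOpen_top Y).basicOpen (h k)
    have : IsAffine (q ⁻¹ᵁ Y.basicOpen (h k)) := by
      rw [Scheme.preimage_basicOpen_top]; exact haff k
    have : IsIso (q ∣_ Y.basicOpen (h k)).appTop := by
      rw [morphismRestrict_appTop]
      have : ∀ V : Y.Opens, V = Y.basicOpen (h k) → IsIso (q.app V) := by
        rintro V rfl; exact isIso_app_basicOpen q (h k) (inj k) (surj k)
      have := this _ (Scheme.Opens.ι_image_top _)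
      infer_instance
    exact (HasAffineProperty.iff_of_isAffine (P := MorphismProperty.isomorphisms Scheme.{u})
      (f := q ∣_ Y.basicOpen (h k))).mpr ⟨inferInstance, this⟩
  have : IsIso (q ∣_ O) := by
    refine IsZariskiLocalAtTarget.of_iSup_eq_top (P := MorphismProperty.isomorphisms Scheme.{u})
      (fun k => O.ι ⁻¹ᵁ Y.basicOpen (h k)) ?_ fun k => ?_
    · rw [← Scheme.Hom.preimage_iSup, Scheme.Opens.ι_preimage_self]
    · refine ((MorphismProperty.isomorphisms Scheme.{u}).arrow_mk_iso_iff (morphismRestrictRestrict q O _)).mpr ?_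
      have : O.ι ''ᵁ O.ι ⁻¹ᵁ Y.basicOpen (h k) = Y.basicOpen (h k) := by
        rw [Scheme.Hom.image_preimage_eq_opensRange_inf, Scheme.Opens.opensRange_ι, inf_eq_right]
        exact le_iSup (fun k => Y.basicOpen (h k)) k
      rw [this]
      exact hk k
  have : IsIso (q ⁻¹ᵁ O).ι := by rw [hO, ← Scheme.topIso_hom]; infer_instance
  have e : q = inv (q ⁻¹ᵁ O).ι ≫ (q ∣_ O) ≫ O.ι := by simp
  refine ⟨?_, ?_⟩
  · rw [e]; infer_instance
  · rw [e, ← Category.assoc, Scheme.Hom.comp_base, TopCat.coe_comp,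
      Function.Surjective.range_comp (show Function.Surjective (inv (q ⁻¹ᵁ O).ι ≫ q ∣_ O) from
        (Scheme.Hom.homeomorph (inv (q ⁻¹ᵁ O).ι ≫ q ∣_ O)).surjective),
      Scheme.Opens.range_ι]

theorem exists_pow_mul_eq_zero_of_range {W V : Scheme.{u}} [IsAffine V] (w : W ⟶ V) [IsOpenImmersion w]
    (g : Γ(V, ⊤)) (hg : V.basicOpen g ≤ w.opensRange) (b : Γ(V, ⊤)) (hb : w.appTop b = 0) :
    ∃ N : ℕ, g ^ N * b = 0 := by
  have := w.isIso_app _ hg
  have h0 : b |_ V.basicOpen g = 0 := by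
    apply (ConcreteCategory.bijective_of_isIso (w.app (V.basicOpen g))).injective
    have := res_appTop_eq w g b
    rw [hb, map_zero] at this
    rw [map_zero]
    exact (ConcreteCategory.bijective_of_isIso
      (W.presheaf.map (eqToHom (Scheme.preimage_basicOpen_top w g).symm).op)).injective
        (this.symm.trans (map_zero _).symm)
  exact exists_of_res_zero_of_qcqs_of_top h0

theorem exists_eq_pow_mul_of_range {W V : Scheme.{u}} [IsAffine V] [CompactSpace W] (w : W ⟶ V)
    [IsOpenImmersion w] (g : Γ(V, ⊤)) (hg : V.basicOpen g ≤ w.opensRange) (x : Γ(W, ⊤)) :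
    ∃ (N : ℕ) (b : Γ(V, ⊤)), w.appTop b = w.appTop g ^ N * x := by
  have : QuasiSeparatedSpace W := quasiSeparatedSpace_of_quasiSeparated w
  have := w.isIso_app _ hg
  have hV : IsLocalization.Away g Γ(V, V.basicOpen g) := (isAffineOpen_top V).isLocalization_basicOpen g
  let ψ := w.app (V.basicOpen g) ≫ W.presheaf.map (eqToHom (Scheme.preimage_basicOpen_top w g).symm).op
  obtain ⟨z, hz⟩ := (ConcreteCategory.bijective_of_isIso ψ).surjective
    (x |_ W.basicOpen (w.appTop g))
  obtain ⟨⟨b, _, n, rfl⟩, hb⟩ := IsLocalization.surj (M := Submonoid.powers g) z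
  have e := congrArg ψ hb
  rw [map_mul, hz] at e
  have e' : (w.appTop b) |_ W.basicOpen (w.appTop g) = (w.appTop g ^ n * x) |_ W.basicOpen (w.appTop g) := by
    refine (res_appTop_eq w g b).trans (e.symm.trans ?_)
    rw [show ψ (algebraMap Γ(V, ⊤) Γ(V, V.basicOpen g) (g ^ n)) = _ from (res_appTop_eq w g (g ^ n)).symm]
    dsimp only [TopCat.Presheaf.restrictOpen, TopCat.Presheaf.restrict]
    rw [map_mul (W.presheaf.map (homOfLE (W.basicOpen_le (w.appTop g))).op).hom, map_pow w.appTop.hom]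
    exact mul_comm _ _
  obtain ⟨m, hm⟩ := exists_of_res_eq_of_qcqs_of_top e'
  exact ⟨m + n, g ^ m * b, by rw [map_mul, map_pow, hm, pow_add, mul_assoc]⟩

end Groth.Agent.Approx60
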