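import Groth.Agent.Approx60.ChowMain
import Groth.Agent.LimDesc62.ClosedImm
import Groth.Agent.LimDesc62.Wrap

/-! Properness descends along limits. -/

set_option autoImplicit false

universe u

open CategoryTheory CategoryTheory.Limits AlgebraicGeometry Opposite TopologicalSpace

noncomputable section

set_option backward.isDefEq.respectTransparency false
set_option backward.defeqAttrib.useBackward true

namespace Groth.Agent.Approx60

open LimDesc62

theorem descProp_isProper : DescProp.{u} @LocallyOfFiniteType @IsProper := by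
  have := respectsIso_lft.{u}
  have := isStableUnderBaseChange_lft.{u}
  constructor
  intro I _ _ D c hc _ i _ _ T a _ _ ha h
  have : LocallyOfFiniteType a := ha
  obtain ⟨j, φ, hsep⟩ := descProp_isSeparated_top.desc D c hc i a trivial h.toIsSeparated
  let b := pullback.snd a (D.map φ)
  have : IsSeparated b := hsep
  have : CompactSpace (D.obj j) := QuasiCompact.compactSpace_of_compactSpace (D.map φ)
  have : QuasiSeparatedSpace (D.obj j) := quasiSeparatedSpace_of_quasiSeparated (D.map φ)
  obtain ⟨n, X', π, J, hJ, hJt, hπ, hsurj⟩ := Chow.chow_qcqs b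
  -- over the limit the immersion is closed
  let T' := pullback b (c.π.app j)
  have hT' : IsPullback (pullback.fst b (c.π.app j) ≫ pullback.fst a (D.map φ)) (pullback.snd b (c.π.app j)) a
      (c.π.app i) := by
    have := (IsPullback.of_hasPullback b (c.π.app j)).paste_horiz (IsPullback.of_hasPullback a (D.map φ))
    rwa [c.w] at this
  have hbp : IsProper (pullback.snd b (c.π.app j)) := (prop_iff_of_isPullback hT').2 h
  let P := CohB1.ProjSpaceOver n (D.obj j)
  let q : P ⟶ D.obj j := CohB1.ProjSpaceOver.toBase n (D.obj j)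
  have hq := Segre.isProper_toBase n (D.obj j)
  have : CompactSpace P := QuasiCompact.compactSpace_of_compactSpace q
  have : QuasiSeparatedSpace P := quasiSeparatedSpace_of_quasiSeparated q
  have hJc : IsClosedImmersion (pullback.snd J (pullback.fst q (c.π.app j))) := by
    let J' := pullback.snd J (pullback.fst q (c.π.app j))
    have hJ' : IsImmersion J' := MorphismProperty.pullback_snd _ _ hJ
    have hpb : IsPullback (pullback.fst J (pullback.fst q (c.π.app j))) (J' ≫ pullback.snd q (c.π.app j))
        (π ≫ b) (c.π.app j) := by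
      rw [← hJt]
      exact (IsPullback.of_hasPullback J (pullback.fst q (c.π.app j))).paste_vert (IsPullback.of_hasPullback q (c.π.app j))
    let m : pullback J (pullback.fst q (c.π.app j)) ⟶ T' :=
      pullback.lift (pullback.fst _ _ ≫ π) (J' ≫ pullback.snd q (c.π.app j))
        (by rw [Category.assoc]; exact hpb.w)
    have hm : IsPullback (pullback.fst J (pullback.fst q (c.π.app j))) m π (pullback.fst b (c.π.app j)) :=
      IsPullback.of_bot (by rw [pullback.lift_snd]; exact hpb) (pullback.lift_fst _ _ _).symm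
        (IsPullback.of_hasPullback b (c.π.app j))
    have : IsProper m := MorphismProperty.of_isPullback hm hπ
    have : IsProper (J' ≫ pullback.snd q (c.π.app j)) := by
      rw [show J' ≫ pullback.snd q (c.π.app j) = m ≫ pullback.snd b (c.π.app j) from (pullback.lift_snd _ _ _).symm]
      infer_instance
    have : UniversallyClosed J' := UniversallyClosed.of_comp_of_isSeparated J' (pullback.snd q (c.π.app j))
    exact IsClosedImmersion.of_isPreimmersion J' J'.isClosedMap.isClosed_range
  have : QuasiCompact J := by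
    have : QuasiCompact (J ≫ q) := by rw [hJt]; infer_instance
    exact QuasiCompact.of_comp J q
  have : QuasiSeparated J := inferInstance
  have := respectsIso_isClosedImmersion.{u}
  obtain ⟨k, ψ, hk⟩ := descProp_isClosedImmersion.rel D c hc j q J (inferInstance : LocallyOfFiniteType J) hJc
  refine ⟨k, ψ ≫ φ, ?_⟩
  let Tk := pullback b (D.map ψ)
  have hTk : IsPullback (pullback.fst b (D.map ψ) ≫ pullback.fst a (D.map φ)) (pullback.snd b (D.map ψ)) a
      (D.map (ψ ≫ φ)) := by
    rw [D.map_comp]
    exact (IsPullback.of_hasPullback b (D.map ψ)).paste_horiz (IsPullback.of_hasPullback a (D.map φ))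
  refine (prop_iff_of_isPullback hTk).1 ?_
  let J' := pullback.snd J (pullback.fst q (D.map ψ))
  have : IsClosedImmersion J' := hk
  let m : pullback J (pullback.fst q (D.map ψ)) ⟶ Tk :=
    pullback.lift (pullback.fst _ _ ≫ π) (J' ≫ pullback.snd q (D.map ψ))
      (by rw [Category.assoc, Category.assoc, ← hJt, pullback.condition_assoc, pullback.condition])
  have hpb : IsPullback (pullback.fst J (pullback.fst q (D.map ψ))) (J' ≫ pullback.snd q (D.map ψ))
      (π ≫ b) (D.map ψ) := by
    rw [← hJt]
    exact (IsPullback.of_hasPullback J (pullback.fst q (D.map ψ))).paste_vert (IsPullback.of_hasPullback q (D.map ψ))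
  have hm : IsPullback (pullback.fst J (pullback.fst q (D.map ψ))) m π (pullback.fst b (D.map ψ)) :=
    IsPullback.of_bot (by rw [pullback.lift_snd]; exact hpb) (pullback.lift_fst _ _ _).symm
      (IsPullback.of_hasPullback b (D.map ψ))
  have : Surjective m := MorphismProperty.of_isPullback hm hsurj
  have : UniversallyClosed (m ≫ pullback.snd b (D.map ψ)) := by
    rw [pullback.lift_snd]; infer_instance
  have : UniversallyClosed (pullback.snd b (D.map ψ)) :=
    UniversallyClosed.of_comp_surjective m (pullback.snd b (D.map ψ))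
  exact {}

theorem S2074 {I : Type u} [SmallCategory I] [IsCofiltered I]
    (D : I ⥤ Scheme.{u}) (c : Limits.Cone D) (hc : Limits.IsLimit c)
    [∀ (i j : I) (f : i ⟶ j), IsAffineHom (D.map f)] (i₀ : I) [CompactSpace (D.obj i₀)]
    [QuasiSeparatedSpace (D.obj i₀)] {X₀ Y₀ : Scheme.{u}} (f₀ : X₀ ⟶ Y₀) (g₀ : Y₀ ⟶ D.obj i₀)
    [CompactSpace X₀] [QuasiSeparatedSpace X₀] [CompactSpace Y₀] [QuasiSeparatedSpace Y₀]
    {X Y : Scheme.{u}} (f : X ⟶ Y) (g : Y ⟶ c.pt) (qY : Y ⟶ Y₀) (qX : X ⟶ X₀)
    (hY : IsPullback qY g g₀ (c.π.app i₀)) (hX : IsPullback qX f f₀ qY) [LocallyOfFiniteType f₀] [IsProper f] :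
    ∃ (i : I) (φ : i ⟶ i₀) (Xi Yi : Scheme.{u}) (fi : Xi ⟶ Yi) (gi : Yi ⟶ D.obj i) (pY : Yi ⟶ Y₀)
      (pX : Xi ⟶ X₀), IsPullback pY gi g₀ (D.map φ) ∧ IsPullback pX fi f₀ pY ∧ IsProper fi := by
  have := respectsIso_lft.{u}
  exact descProp_isProper.wrap D c hc i₀ f₀ g₀ ‹_› f g qY qX hY hX ‹_›

end Groth.Agent.Approx60
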