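import Groth.Agent.Approx60.ProperDesc
import Groth.Agent.Lim60.EvSep
import Groth.Agent.LimTop61.Points

/-! Proper schemes are limits of proper schemes of finite presentation. -/

set_option autoImplicit false

universe u

open CategoryTheory CategoryTheory.Limits AlgebraicGeometry Opposite TopologicalSpace

noncomputable section

set_option backward.isDefEq.respectTransparency false
set_option backward.defeqAttrib.useBackward true

namespace Groth.Agent.Approx60

theorem exists_subset_range_stage {I : Type u} [SmallCategory I] [IsCofiltered I]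
    (D : I ⥤ Scheme.{u}) (c : Cone D) (hc : IsLimit c)
    [∀ (i j : I) (a : i ⟶ j), IsClosedImmersion (D.map a)] (i₀ : I)
    {X' P : Scheme.{u}} (π : X' ⟶ D.obj i₀) (J : X' ⟶ P) [IsImmersion J] [QuasiCompact J] [CompactSpace P]
    (hT : IsClosed (J '' (π ⁻¹' Set.range (c.π.app i₀)))) :
    ∃ (i : I) (φ : i ⟶ i₀), IsClosed (J '' (π ⁻¹' Set.range (D.map φ))) := by
  let T := π ⁻¹' Set.range (c.π.app i₀)
  let Z : Over i₀ → Set X' := fun j => π ⁻¹' Set.range (D.map j.hom)
  have hZ : ∀ j, IsClosed (Z j) := fun j =>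
    ((D.map j.hom).isClosedEmbedding.isClosed_range).preimage π.continuous
  have hmono : ∀ {j k : Over i₀} (_ : j ⟶ k), Z j ⊆ Z k := fun {j k} a x ⟨y, hy⟩ =>
    ⟨D.map a.left y, by rw [← Scheme.Hom.comp_apply, ← D.map_comp, Over.w a]; exact hy⟩
  have hdir : ∀ j k : Over i₀, ∃ l, Z l ⊆ Z j ∧ Z l ⊆ Z k := fun j k =>
    ⟨_, hmono (IsCofiltered.minToLeft j k), hmono (IsCofiltered.minToRight j k)⟩
  have hinter : ∀ x, (∀ j, x ∈ Z j) → x ∈ T := fun x hx => by
    show π x ∈ Set.range (c.π.app i₀)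
    rw [LimTop61.range_π_eq D c hc i₀]
    exact Set.mem_iInter₂.2 fun j φ => hx (Over.mk φ)
  let F := (coborder (Set.range J))ᶜ
  have hF : IsClosed F := (J.isLocallyClosed_range.isOpen_coborder).isClosed_compl
  have hempty : F ∩ ⋂ j, closure (J '' Z j) = ∅ := by
    refine Set.eq_empty_iff_forall_notMem.2 fun p hp => ?_
    obtain ⟨hpF, hp⟩ := hp
    rw [Set.mem_iInter] at hp
    have hpT : p ∉ J '' T := by
      rintro ⟨x, -, rfl⟩
      exact hpF (subset_coborder ⟨x, rfl⟩)
    obtain ⟨_, ⟨V, hV, rfl⟩, hpV, hVT⟩ :=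
      P.isBasis_affineOpens.exists_subset_of_mem_open (show p ∈ (J '' T)ᶜ from hpT) hT.isOpen_compl
    have hc' : IsCompact (J ⁻¹' (V : Set P)) := J.isCompact_preimage hV.isCompact
    have : Nonempty (Over i₀) := ⟨Over.mk (𝟙 i₀)⟩
    obtain ⟨j, hj⟩ := hc'.elim_directed_family_closed Z hZ
      (Set.eq_empty_iff_forall_notMem.2 fun x ⟨hxV, hx⟩ => hVT hxV ⟨x, hinter x (Set.mem_iInter.1 hx), rfl⟩)
      (fun j k => hdir j k)
    obtain ⟨_, hqV, x, hx, rfl⟩ := mem_closure_iff.1 (hp j) V V.2 hpV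
    exact (Set.eq_empty_iff_forall_notMem.1 hj x) ⟨hqV, hx⟩
  have : Nonempty (Over i₀) := ⟨Over.mk (𝟙 i₀)⟩
  obtain ⟨j, hj⟩ := hF.isCompact.elim_directed_family_closed _ (fun j => isClosed_closure) hempty
    (fun j k => by
      obtain ⟨l, h1, h2⟩ := hdir j k
      exact ⟨l, closure_mono (Set.image_mono h1), closure_mono (Set.image_mono h2)⟩)
  refine ⟨j.left, j.hom, isClosed_of_closure_subset fun p hp => ?_⟩
  have hpr : p ∈ Set.range J := by
    by_contra hne
    refine (Set.eq_empty_iff_forall_notMem.1 hj p) ⟨?_, hp⟩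
    rw [Set.mem_compl_iff, coborder, Set.mem_compl_iff, not_not]
    exact ⟨closure_mono (Set.image_subset_range _ _) hp, hne⟩
  obtain ⟨x, rfl⟩ := hpr
  refine ⟨x, ?_, rfl⟩
  show x ∈ Z j
  rw [← (hZ j).closure_eq, J.isEmbedding.closure_eq_preimage_closure_image]
  exact hp

/-- A limit of closed immersions which is proper has proper stages. -/
theorem exists_isProper_structureMap {I : Type u} [SmallCategory I] [IsCofiltered I] (S : Scheme.{u})
    [CompactSpace S] [QuasiSeparatedSpace S] (D : I ⥤ Scheme.{u}) (t : D ⟶ (Functor.const I).obj S)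
    (c : Cone D) (hc : IsLimit c) [∀ (i j : I) (a : i ⟶ j), IsClosedImmersion (D.map a)]
    [∀ i, CompactSpace (D.obj i)] [∀ i, QuasiSeparatedSpace (D.obj i)] [∀ i, LocallyOfFiniteType (t.app i)]
    (i₀ : I) [IsProper (c.π.app i₀ ≫ t.app i₀)] :
    ∃ i₁ : I, ∀ (i : I) (_ : i ⟶ i₁), IsProper (t.app i) := by
  obtain ⟨i₂, h₂⟩ := Lim60.exists_isSeparated_structureMap S D t c hc i₀
  obtain ⟨k, a, b, -⟩ : ∃ (k : I) (_ : k ⟶ i₀) (_ : k ⟶ i₂), True :=
    ⟨_, IsCofiltered.minToLeft i₀ i₂, IsCofiltered.minToRight i₀ i₂, trivial⟩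
  let tk : D.obj k ⟶ S := t.app k
  have : IsSeparated tk := h₂ k b
  have hnat : ∀ {i j : I} (φ : i ⟶ j), D.map φ ≫ t.app j = t.app i := fun φ => by simp
  let g : c.pt ⟶ D.obj k := c.π.app k
  have : IsProper (g ≫ tk) := by
    rw [show g ≫ tk = c.π.app i₀ ≫ t.app i₀ by simp only [g, tk, ← hnat a, ← Category.assoc, c.w]]
    assumption
  have : QuasiCompact tk := inferInstance
  obtain ⟨n, X', π, J, hJ, hJt, hπ, hsurj⟩ := Chow.chow_qcqs tk
  have hP := Segre.isProper_toBase n S
  have : CompactSpace (CohB1.ProjSpaceOver n S) :=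
    QuasiCompact.compactSpace_of_compactSpace (CohB1.ProjSpaceOver.toBase n S)
  have : QuasiCompact J := by
    have : QuasiCompact (J ≫ CohB1.ProjSpaceOver.toBase n S) := by rw [hJt]; infer_instance
    exact QuasiCompact.of_comp J (CohB1.ProjSpaceOver.toBase n S)
  have hT : IsClosed (J '' (π ⁻¹' Set.range g)) := by
    let q := pullback.fst π g ≫ J
    have hrange : Set.range q = J '' (π ⁻¹' Set.range g) := by
      rw [Scheme.Hom.comp_base, TopCat.coe_comp, Set.range_comp, Scheme.Pullback.range_fst]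
    have : IsProper (q ≫ CohB1.ProjSpaceOver.toBase n S) := by
      rw [Category.assoc, hJt, pullback.condition_assoc]
      infer_instance
    have : UniversallyClosed q := UniversallyClosed.of_comp_of_isSeparated q (CohB1.ProjSpaceOver.toBase n S)
    rw [← hrange]
    exact q.isClosedMap.isClosed_range
  obtain ⟨l, φ, hl⟩ := exists_subset_range_stage D c hc k π J hT
  refine ⟨l, fun i ψ => ?_⟩
  have hl' : IsProper (t.app l) := by
    let q := pullback.fst π (D.map φ) ≫ J
    have : IsImmersion q := inferInstance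
    have : IsClosedImmersion q := by
      refine IsClosedImmersion.of_isPreimmersion q ?_
      rw [Scheme.Hom.comp_base, TopCat.coe_comp, Set.range_comp, Scheme.Pullback.range_fst]
      exact hl
    have he : pullback.snd π (D.map φ) ≫ t.app l = q ≫ CohB1.ProjSpaceOver.toBase n S := by
      rw [Category.assoc, hJt, ← hnat φ, ← pullback.condition_assoc]
    have : UniversallyClosed (pullback.snd π (D.map φ) ≫ t.app l) := by rw [he]; infer_instance
    have : UniversallyClosed (t.app l) := UniversallyClosed.of_comp_surjective (pullback.snd π (D.map φ)) (t.app l)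
    have : IsSeparated (t.app l) := h₂ l (φ ≫ b)
    exact {}
  rw [← hnat ψ]
  infer_instance

theorem exists_proper_fp_closed_limit {X S : Scheme.{u}} (f : X ⟶ S) [IsProper f] [CompactSpace S]
    [QuasiSeparatedSpace S] :
    ∃ (I : Type u) (_ : SmallCategory I) (_ : IsCofiltered I) (D : I ⥤ Over S) (c : Limits.Cone D)
      (_ : Limits.IsLimit c) (_e : c.pt ≅ Over.mk f),
      (∀ (i j : I) (a : i ⟶ j), IsClosedImmersion (D.map a).left) ∧
      (∀ i, IsClosedImmersion (c.π.app i).left ∧ IsProper (D.obj i).hom ∧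
        LocallyOfFinitePresentation (D.obj i).hom) := by
  have : CompactSpace X := QuasiCompact.compactSpace_of_compactSpace f
  have : QuasiSeparatedSpace X := quasiSeparatedSpace_of_quasiSeparated f
  obtain ⟨α, _, _, _, D, π, ⟨hl⟩, hobj, hmap, hπ⟩ := exists_fp_closed_limit f
  have : IsConnected αᵒᵖ := IsCofiltered.isConnected _
  obtain ⟨i₀⟩ := IsCofiltered.nonempty (C := αᵒᵖ)
  let E := D ⋙ Over.forget S
  let t : E ⟶ (Functor.const αᵒᵖ).obj S :=
    { app := fun i => (D.obj i).hom, naturality := fun i j a => by simp [E] }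
  have : ∀ (i j : αᵒᵖ) (a : i ⟶ j), IsClosedImmersion (E.map a) := hmap
  have : ∀ i, CompactSpace (E.obj i) := fun i => (hobj i).2.2.2.1
  have : ∀ i, QuasiSeparatedSpace (E.obj i) := fun i => (hobj i).2.2.2.2
  have : ∀ i, LocallyOfFiniteType (t.app i) := fun i => by
    have := (hobj i).1
    exact inferInstanceAs (LocallyOfFiniteType (D.obj i).hom)
  let c := (Over.forget S).mapCone (Cone.mk (Over.mk f) π)
  have hc : IsLimit c := isLimitOfPreserves _ hl
  have e : c.π.app i₀ ≫ t.app i₀ = f := Over.w (π.app i₀)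
  have : IsProper (c.π.app i₀ ≫ t.app i₀) := by rw [e]; infer_instance
  obtain ⟨i₁, h₁⟩ := exists_isProper_structureMap S E t c hc i₀
  have : IsConnected (Over i₁) := CategoryTheory.isConnected_of_hasTerminal (Over i₁)
  exact ⟨Over i₁, inferInstance, inferInstance, Over.forget i₁ ⋙ D, (Cone.mk (Over.mk f) π).whisker (Over.forget i₁),
    (Functor.Initial.isLimitWhiskerEquiv (Over.forget i₁) _).symm hl, Iso.refl _,
    fun i j a => hmap _ _ _, fun i => ⟨hπ _, h₁ i.left i.hom, (hobj _).1⟩⟩

end Groth.Agent.Approx60
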