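import Groth.Agent.Approx60.ProperLimit
import Groth.Agent.Approx60.ClosedLimit
import Groth.Agent.Approx60.LimitExists
import Groth.Agent.Lim60.ClosedImmStage

/-! Properness to a stage, and proper morphisms as limits of proper morphisms of finite type over the integers. -/

set_option autoImplicit false

universe u

open CategoryTheory CategoryTheory.Limits AlgebraicGeometry Opposite TopologicalSpace

noncomputable section

set_option backward.isDefEq.respectTransparency false
set_option backward.defeqAttrib.useBackward true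

namespace Groth.Agent.Approx60

theorem S9202 {I : Type u} [SmallCategory I] [IsCofiltered I] (S : Scheme.{u})
    (D : I ⥤ Scheme.{u}) (t : D ⟶ (Functor.const I).obj S) (c : Limits.Cone D) (hc : Limits.IsLimit c)
    [∀ (i j : I) (a : i ⟶ j), IsAffineHom (D.map a)]
    [∀ i, CompactSpace (D.obj i)] [∀ i, QuasiSeparatedSpace (D.obj i)] (i₀ : I)
    {Y : Scheme.{u}} (h : Y ⟶ c.pt) [IsProper h] [LocallyOfFiniteType (h ≫ c.π.app i₀ ≫ t.app i₀)] :
    ∃ i₁ : I, ∀ (i : I) (_ : i ⟶ i₁), IsProper (h ≫ c.π.app i) := by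
  have hnat : ∀ {i j : I} (φ : i ⟶ j), D.map φ ≫ t.app j = t.app i := fun φ => by simp
  have : IsAffineHom (c.π.app i₀) := isAffineHom_π_app D c hc i₀
  let a := h ≫ c.π.app i₀
  have : LocallyOfFiniteType (a ≫ t.app i₀) := by rwa [Category.assoc]
  have : LocallyOfFiniteType a := locallyOfFiniteType_of_comp a (t.app i₀)
  have : IsSeparated a := inferInstance
  have : QuasiCompact a := inferInstance
  obtain ⟨n, Y', π, J, hJ, hJt, hπ, hsurj⟩ := Chow.chow_qcqs a
  let q := CohB1.ProjSpaceOver.toBase n (D.obj i₀)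
  let P := CohB1.ProjSpaceOver n (D.obj i₀)
  have hq := Segre.isProper_toBase n (D.obj i₀)
  have : CompactSpace P := QuasiCompact.compactSpace_of_compactSpace q
  have : QuasiSeparatedSpace P := quasiSeparatedSpace_of_quasiSeparated q
  let Q := pullback q (c.π.app i₀)
  let cQ := LimTop61.bcCone D c q (pullback.fst q (c.π.app i₀)) (pullback.snd q (c.π.app i₀)) pullback.condition
  have hQ : IsLimit cQ := LimTop61.isLimitBcCone D c hc q _ _ (IsPullback.of_hasPullback q (c.π.app i₀))
  let K : Y' ⟶ Q := pullback.lift J (π ≫ h) (by rw [hJt, Category.assoc])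
  have hK : IsClosedImmersion K := by
    have : IsImmersion (K ≫ pullback.fst q (c.π.app i₀)) := by rw [pullback.lift_fst]; exact hJ
    have : IsImmersion K := IsImmersion.of_comp K (pullback.fst q (c.π.app i₀))
    have : IsProper (K ≫ pullback.snd q (c.π.app i₀)) := by rw [pullback.lift_snd]; infer_instance
    have : UniversallyClosed K := UniversallyClosed.of_comp_of_isSeparated K (pullback.snd q (c.π.app i₀))
    exact IsClosedImmersion.of_isPreimmersion K K.isClosedMap.isClosed_range
  let r : Over i₀ := Over.mk (𝟙 i₀)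
  let K' : Y' ⟶ cQ.pt := K
  have : IsClosedImmersion K' := hK
  have : ∀ j, CompactSpace ((LimTop61.bcDiagram D q).obj j) := fun j =>
    QuasiCompact.compactSpace_of_compactSpace (pullback.fst q (D.map j.hom))
  have : LocallyOfFiniteType (K' ≫ cQ.π.app r) := by
    have : LocallyOfFiniteType ((K' ≫ cQ.π.app r) ≫ pullback.fst q (D.map r.hom)) := by
      rw [show (K' ≫ cQ.π.app r) ≫ pullback.fst q (D.map r.hom) = J by
        simp [K', K, cQ, LimTop61.bcCone]]
      infer_instance
    exact locallyOfFiniteType_of_comp _ (pullback.fst q (D.map r.hom))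
  obtain ⟨j, -, hj⟩ := Lim60.exists_isClosedImmersion_stage (LimTop61.bcDiagram D q) cQ hQ r K'
  have haj : IsProper (h ≫ c.π.app j.left) := by
    have : IsAffineHom (c.π.app j.left) := isAffineHom_π_app D c hc j.left
    have : IsSeparated (h ≫ c.π.app j.left) := inferInstance
    have : LocallyOfFiniteType (h ≫ c.π.app j.left) := by
      have : LocallyOfFiniteType ((h ≫ c.π.app j.left) ≫ D.map j.hom) := by
        rw [Category.assoc, c.w]; exact ‹LocallyOfFiniteType a›
      exact locallyOfFiniteType_of_comp _ (D.map j.hom)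
    have e : π ≫ h ≫ c.π.app j.left = (K' ≫ cQ.π.app j) ≫ pullback.snd q (D.map j.hom) := by
      simp [K', K, cQ, LimTop61.bcCone]
    have : IsClosedImmersion (K' ≫ cQ.π.app j) := hj
    have : IsProper (pullback.snd q (D.map j.hom)) := MorphismProperty.pullback_snd _ _ hq
    have : IsProper ((K' ≫ cQ.π.app j) ≫ pullback.snd q (D.map j.hom)) :=
      MorphismProperty.comp_mem _ _ _ (inferInstance : IsProper (K' ≫ cQ.π.app j)) ‹_›
    have : UniversallyClosed (π ≫ h ≫ c.π.app j.left) := by
      rw [e]; exact (‹IsProper ((K' ≫ cQ.π.app j) ≫ pullback.snd q (D.map j.hom))›).toUniversallyClosed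
    have : UniversallyClosed (h ≫ c.π.app j.left) :=
      UniversallyClosed.of_comp_surjective π (h ≫ c.π.app j.left)
    exact {}
  refine ⟨j.left, fun i φ => ?_⟩
  have : IsProper ((h ≫ c.π.app i) ≫ D.map φ) := by rw [Category.assoc, c.w]; exact haj
  exact IsProper.of_comp (h ≫ c.π.app i) (D.map φ)

/-- A limit of closed subschemes through which `g` is schematically dominant is `g` itself. -/
theorem isIso_of_schDominant {I : Type u} [SmallCategory I] [IsCofiltered I] (D : I ⥤ Scheme.{u}) (c : Cone D)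
    (hc : IsLimit c) [∀ (i j : I) (a : i ⟶ j), IsAffineHom (D.map a)] {X : Scheme.{u}} (g : X ⟶ c.pt)
    [IsClosedImmersion g] (hg : ∀ i, IsSchemeTheoreticallyDominant (g ≫ c.π.app i))
    [∀ i, QuasiCompact (g ≫ c.π.app i)] : IsIso g := by
  refine IsClosedImmersion.isIso_iff_ker_eq_bot.mpr ?_
  obtain ⟨i₀⟩ := IsCofiltered.nonempty (C := I)
  have : IsAffineHom (c.π.app i₀) := isAffineHom_π_app D c hc i₀
  refine Scheme.IdealSheafData.ext_of_iSup_eq_top
    (fun V : (D.obj i₀).affineOpens => ⟨c.π.app i₀ ⁻¹ᵁ V.1, V.2.preimage _⟩) ?_ fun V => ?_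
  · rw [← Scheme.Hom.preimage_iSup, iSup_affineOpens_eq_top, Scheme.Hom.preimage_top]
  rw [Scheme.Hom.ker_apply, Scheme.IdealSheafData.ideal_bot, Pi.bot_apply, eq_bot_iff]
  intro s hs
  obtain ⟨j, φ, s', rfl⟩ := exists_appLE_π_eq D c hc V.2 s
  have hle : g ⁻¹ᵁ (c.π.app i₀ ⁻¹ᵁ V.1) ≤ (g ≫ c.π.app j) ⁻¹ᵁ (D.map φ ⁻¹ᵁ V.1) := by
    rw [← Scheme.Hom.comp_preimage, ← Scheme.Hom.comp_preimage, Category.assoc, c.w]
  have h1 : (g ≫ c.π.app j).app (D.map φ ⁻¹ᵁ V.1) s' = 0 := by
    have e : (g ≫ c.π.app j) ⁻¹ᵁ (D.map φ ⁻¹ᵁ V.1) = g ⁻¹ᵁ (c.π.app i₀ ⁻¹ᵁ V.1) := by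
      rw [← Scheme.Hom.comp_preimage, ← Scheme.Hom.comp_preimage, Category.assoc, c.w]
    refine (ConcreteCategory.bijective_of_isIso (X.presheaf.map (eqToHom e.symm).op)).1 ?_
    rw [map_zero]
    refine Eq.trans ?_ hs
    show ((g ≫ c.π.app j).app _ ≫ X.presheaf.map (eqToHom e.symm).op).hom s' =
      ((c.π.app j).appLE (D.map φ ⁻¹ᵁ V.1) (c.π.app i₀ ⁻¹ᵁ V.1) _ ≫ g.app _).hom s'
    refine RingHom.congr_fun (congrArg CommRingCat.Hom.hom ?_) s'
    rw [Scheme.Hom.app_eq_appLE, Scheme.Hom.appLE_map, Scheme.Hom.app_eq_appLE, Scheme.Hom.appLE_comp_appLE]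
  have h2 := Scheme.Hom.app_injective (g ≫ c.π.app j) (D.map φ ⁻¹ᵁ V.1) (h1.trans (map_zero _).symm)
  rw [h2, map_zero]
  exact Ideal.zero_mem _

/-- The diagram of scheme-theoretic images of a compatible family of morphisms. -/
def imageDiagram {I : Type u} [SmallCategory I] (D : I ⥤ Scheme.{u}) {X : Scheme.{u}}
    (g : (Functor.const I).obj X ⟶ D) : I ⥤ Scheme.{u} where
  obj i := Scheme.Hom.image (g.app i : X ⟶ D.obj i)
  map {i j} a := IsClosedImmersion.lift (Scheme.Hom.imageι (g.app j : X ⟶ D.obj j))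
    (Scheme.Hom.imageι (g.app i : X ⟶ D.obj i) ≫ D.map a) (by
      have e : (g.app i : X ⟶ D.obj i) ≫ D.map a = g.app j := by simpa using (g.naturality a).symm
      rw [Scheme.Hom.ker_comp]
      simp only [Scheme.Hom.imageι, Scheme.IdealSheafData.ker_subschemeι]
      rw [← Scheme.Hom.ker_comp, e])
  map_id i := by
    rw [← cancel_mono (Scheme.Hom.imageι (g.app i : X ⟶ D.obj i)), IsClosedImmersion.lift_fac]
    simp
  map_comp {i j k} a b := by
    rw [← cancel_mono (Scheme.Hom.imageι (g.app k : X ⟶ D.obj k)), IsClosedImmersion.lift_fac,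
      Category.assoc, IsClosedImmersion.lift_fac, IsClosedImmersion.lift_fac_assoc]
    simp

/-- The inclusion of the diagram of images. -/
def imageInc {I : Type u} [SmallCategory I] (D : I ⥤ Scheme.{u}) {X : Scheme.{u}}
    (g : (Functor.const I).obj X ⟶ D) : imageDiagram D g ⟶ D where
  app i := Scheme.Hom.imageι (g.app i : X ⟶ D.obj i)
  naturality i j a := IsClosedImmersion.lift_fac _ _ _

theorem S2147 {X S : Scheme.{u}} (f : X ⟶ S) [IsProper f] [CompactSpace S]
    [QuasiSeparatedSpace S] :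
    ∃ (I : Type u) (_ : SmallCategory I) (_ : IsCofiltered I) (DX DS : I ⥤ Scheme.{u}) (φ : DX ⟶ DS)
      (cX : Limits.Cone DX) (cS : Limits.Cone DS) (_ : Limits.IsLimit cX) (_ : Limits.IsLimit cS)
      (eX : cX.pt ≅ X) (eS : cS.pt ≅ S),
      (∀ (i j : I) (a : i ⟶ j), IsAffineHom (DX.map a) ∧ IsAffineHom (DS.map a)) ∧
      (∀ i, IsProper (φ.app i) ∧ CompactSpace (DS.obj i) ∧
        LocallyOfFiniteType (Limits.IsTerminal.from specULiftZIsTerminal (DS.obj i))) ∧
      (∀ i, cX.π.app i ≫ φ.app i = eX.hom ≫ f ≫ eS.inv ≫ cS.π.app i) := by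
  obtain ⟨K, _, _, Dp, cp, -, ep, -, hp⟩ := exists_proper_fp_closed_limit f
  obtain ⟨k₀⟩ := IsCofiltered.nonempty (C := K)
  let f₁ : (Dp.obj k₀).left ⟶ S := (Dp.obj k₀).hom
  have : IsProper f₁ := (hp k₀).2.1
  have : LocallyOfFinitePresentation f₁ := (hp k₀).2.2
  let i₁ : X ⟶ (Dp.obj k₀).left := (ep.inv ≫ cp.π.app k₀).left
  have hi₁ : i₁ ≫ f₁ = f := Over.w (ep.inv ≫ cp.π.app k₀)
  have : IsClosedImmersion i₁ := by
    have := (hp k₀).1
    show IsClosedImmersion (ep.inv.left ≫ (cp.π.app k₀).left)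
    infer_instance
  obtain ⟨J, _, _, D, πS, hD, ⟨hl⟩⟩ := exists_approximation S
  have := hD.aff
  have := hD.compact
  have hlft := hD.lft
  have : ∀ k, QuasiSeparatedSpace (D.obj k) := fun k => by
    have := hlft k
    have : IsNoetherianRing (ULift.{u} ℤ) := isNoetherianRing_of_ringEquiv ℤ ULift.ringEquiv.symm
    have : IsLocallyNoetherian (D.obj k) := LocallyOfFiniteType.isLocallyNoetherian (toZ (D.obj k))
    infer_instance
  obtain ⟨k, Xk, fk, g, hk1, hk2, hk3, hpb⟩ := S0591 D (Cone.mk S πS) hl _ f₁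
  obtain ⟨l, ψ, hl'⟩ := descProp_isProper.desc D (Cone.mk S πS) hl k fk
    (inferInstance : LocallyOfFiniteType fk) (by rw [← hpb.isoPullback_inv_snd]; infer_instance)
  let fl : pullback fk (D.map ψ) ⟶ D.obj l := pullback.snd fk (D.map ψ)
  have : IsProper fl := hl'
  let gl : (Dp.obj k₀).left ⟶ pullback fk (D.map ψ) := pullback.lift g (f₁ ≫ πS.app l) (by
    rw [hpb.w, Category.assoc]
    congr 1
    exact ((Cone.mk S πS).w ψ).symm)
  have hgl : IsPullback gl f₁ fl (πS.app l) := by
    refine IsPullback.of_right ?_ (pullback.lift_snd _ _ _) (IsPullback.of_hasPullback fk (D.map ψ))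
    have e : πS.app l ≫ D.map ψ = πS.app k := (Cone.mk S πS).w ψ
    rw [pullback.lift_fst, e]
    exact hpb
  have : IsConnected (Over l) := CategoryTheory.isConnected_of_hasTerminal (Over l)
  let E := LimTop61.bcDiagram D fl
  let cE := LimTop61.bcCone D (Cone.mk S πS) fl gl f₁ hgl.w
  have hE : IsLimit cE := LimTop61.isLimitBcCone D _ hl fl gl f₁ hgl
  let gX : (Functor.const (Over l)).obj X ⟶ E :=
    { app := fun j => i₁ ≫ cE.π.app j
      naturality := fun a b m => by
        simp only [Functor.const_obj_map, Category.id_comp, Category.assoc]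
        rw [cE.w m]
        exact Category.id_comp _ }
  let Z := imageDiagram E gX
  let ι := imageInc E gX
  have hZaff : ∀ (a b : Over l) (m : a ⟶ b), IsAffineHom (Z.map m) := fun a b m => by
    have h1 : IsAffineHom (Z.map m ≫ ι.app b) := by
      rw [ι.naturality m]
      have : IsClosedImmersion (ι.app a) :=
        inferInstanceAs (IsClosedImmersion (Scheme.Hom.imageι (gX.app a : X ⟶ E.obj a)))
      infer_instance
    have : IsClosedImmersion (ι.app b) :=
      inferInstanceAs (IsClosedImmersion (Scheme.Hom.imageι (gX.app b : X ⟶ E.obj b)))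
    have hs : IsSeparated (ι.app b) := inferInstance
    exact MorphismProperty.of_postcomp (W := @IsAffineHom) (Z.map m) (ι.app b) hs h1
  have := hZaff
  have : HasLimit Z := hasLimit_of_isAffineHom Z
  have : CompactSpace X := QuasiCompact.compactSpace_of_compactSpace f
  let t : Cone Z :=
    { pt := X
      π :=
        { app := fun j => Scheme.Hom.toImage (gX.app j : X ⟶ E.obj j)
          naturality := fun a b m => by
            have : IsClosedImmersion (ι.app b) :=
              inferInstanceAs (IsClosedImmersion (Scheme.Hom.imageι (gX.app b : X ⟶ E.obj b)))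
            rw [← cancel_mono (ι.app b)]
            show (𝟙 X ≫ Scheme.Hom.toImage _) ≫ Scheme.Hom.imageι _ = (Scheme.Hom.toImage _ ≫ Z.map m) ≫ ι.app b
            rw [Category.id_comp, Scheme.Hom.toImage_imageι, Category.assoc, ι.naturality m]
            show _ = Scheme.Hom.toImage _ ≫ Scheme.Hom.imageι _ ≫ E.map m
            rw [Scheme.Hom.toImage_imageι_assoc]
            simpa using gX.naturality m } }
  let gL : X ⟶ (limit.cone Z).pt := limit.lift Z t
  let eL : (limit.cone Z).pt ⟶ cE.pt := hE.lift ((Cones.postcompose ι).obj (limit.cone Z))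
  have hgeL : gL ≫ eL = i₁ := hE.hom_ext fun j => by
    rw [Category.assoc, hE.fac]
    show limit.lift Z t ≫ limit.π Z j ≫ ι.app j = _
    rw [limit.lift_π_assoc]
    exact Scheme.Hom.toImage_imageι _
  have hE' : ∀ (a b : Over l) (m : a ⟶ b), IsAffineHom (E.map m) := fun a b m => inferInstance
  obtain ⟨j₀⟩ := IsCofiltered.nonempty (C := Over l)
  have : IsSeparated eL := by
    have : IsAffineHom (limit.π Z j₀) := isAffineHom_π_app Z (limit.cone Z) (limit.isLimit Z) j₀
    have : IsClosedImmersion (ι.app j₀) :=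
      inferInstanceAs (IsClosedImmersion (Scheme.Hom.imageι (gX.app j₀ : X ⟶ E.obj j₀)))
    have e : eL ≫ cE.π.app j₀ = limit.π Z j₀ ≫ ι.app j₀ := hE.fac _ j₀
    have : IsSeparated (eL ≫ cE.π.app j₀) := by rw [e]; infer_instance
    exact IsSeparated.of_comp eL (cE.π.app j₀)
  have : IsClosedImmersion gL := by
    have : IsClosedImmersion (gL ≫ eL) := by rw [hgeL]; infer_instance
    exact IsClosedImmersion.of_comp gL eL
  have hqc : ∀ j, QuasiCompact (gX.app j : X ⟶ E.obj j) := fun j => by
    have : IsAffineHom (cE.π.app j) := isAffineHom_π_app E cE hE j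
    exact inferInstanceAs (QuasiCompact (i₁ ≫ cE.π.app j))
  have hfac : ∀ j, gL ≫ (limit.cone Z).π.app j = Scheme.Hom.toImage (gX.app j : X ⟶ E.obj j) := fun j =>
    limit.lift_π t j
  have : ∀ j, QuasiCompact (gL ≫ (limit.cone Z).π.app j) := fun j => by
    have := hqc j; rw [hfac]; infer_instance
  have hiso : IsIso gL := isIso_of_schDominant Z (limit.cone Z) (limit.isLimit Z) gL fun j => by
    have := hqc j; rw [hfac]; exact MP99.dominant_toImage _
  have : (Over.forget l).Initial := inferInstance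
  refine ⟨Over l, inferInstance, inferInstance, Z, Over.forget l ⋙ D, ι ≫ LimTop61.bcSnd D fl, limit.cone Z,
    (Cone.mk S πS).whisker (Over.forget l), limit.isLimit Z,
    (Functor.Initial.isLimitWhiskerEquiv (Over.forget l) _).symm hl, (asIso gL).symm, Iso.refl _,
    fun a b m => ⟨hZaff a b m, hD.aff _ _ _⟩, fun j => ⟨?_, hD.compact _, hD.lft _⟩, fun j => ?_⟩
  · have : IsClosedImmersion (ι.app j) :=
      inferInstanceAs (IsClosedImmersion (Scheme.Hom.imageι (gX.app j : X ⟶ E.obj j)))
    have : IsProper ((LimTop61.bcSnd D fl).app j) := MorphismProperty.pullback_snd _ _ ‹IsProper fl›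
    exact MorphismProperty.comp_mem _ _ _ (inferInstance : IsProper (ι.app j)) ‹_›
  · rw [← cancel_epi gL]
    show gL ≫ limit.π Z j ≫ ι.app j ≫ (LimTop61.bcSnd D fl).app j = gL ≫ inv gL ≫ f ≫ 𝟙 S ≫ πS.app j.left
    rw [IsIso.hom_inv_id_assoc, Category.id_comp, limit.lift_π_assoc]
    show Scheme.Hom.toImage _ ≫ Scheme.Hom.imageι _ ≫ pullback.snd fl (D.map j.hom) = _
    rw [Scheme.Hom.toImage_imageι_assoc, ← hi₁, Category.assoc]
    simp [gX, cE, LimTop61.bcCone]

end Groth.Agent.Approx60
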