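import Groth.Agent.Approx60.OpenImmToAffine
import Mathlib.Algebra.Category.Ring.Limits
import Mathlib.CategoryTheory.Limits.Types.Pullbacks

set_option autoImplicit false
set_option backward.isDefEq.respectTransparency false
set_option backward.defeqAttrib.useBackward true

/-! An open immersion into the spectrum of a fibre product of rings. -/

universe u

open CategoryTheory CategoryTheory.Limits AlgebraicGeometry Opposite

namespace Groth.Agent.Approx60

theorem isOpenImmersion_ring_square {B B' R R' : Type u} [CommRing B] [CommRing B']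
    [CommRing R] [CommRing R'] (s : B →+* R) (t : R' →+* R) (p : B' →+* B) (q : B' →+* R')
    (hsq : IsPullback (CommRingCat.ofHom p) (CommRingCat.ofHom q) (CommRingCat.ofHom s) (CommRingCat.ofHom t))
    {n : ℕ} (f : Fin n → R') (g : Fin n → B) (hfg : ∀ i, t (f i) = s (g i))
    (hiso : ∀ i, Function.Bijective (Localization.awayMap s (g i))) :
    IsOpenImmersion (Scheme.Opens.ι (X := Spec (CommRingCat.of R')) (⨆ i, PrimeSpectrum.basicOpen (f i)) ≫
      Spec.map (CommRingCat.ofHom q)) := by
  obtain ⟨hw, huniq, hex⟩ :=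
    (Types.isPullback_iff _ _ _ _).mp (hsq.map (forget CommRingCat.{u}))
  have hw' : ∀ c, s (p c) = t (q c) := fun c => congrArg (fun z => z c) hsq.w |>.trans rfl
  have ex : ∀ b r, s b = t r → ∃ c, p c = b ∧ q c = r := fun b r e => hex b r e
  have uniq : ∀ c, p c = 0 → q c = 0 → c = 0 := fun c e1 e2 =>
    huniq _ _ ⟨e1.trans (map_zero p).symm, e2.trans (map_zero q).symm⟩
  choose h hp hq using fun i => ex (g i) (f i) (hfg i).symm
  let U : (Spec (CommRingCat.of R')).Opens := ⨆ i, PrimeSpectrum.basicOpen (f i)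
  let F := U.ι ≫ Spec.map (CommRingCat.ofHom q)
  let eB := Scheme.ΓSpecIso (CommRingCat.of B')
  let eR := Scheme.ΓSpecIso (CommRingCat.of R')
  have hF : ∀ c : Γ(Spec (CommRingCat.of B'), ⊤), F.appTop c = U.ι.appTop (eR.inv (q (eB.hom c))) := by
    intro c
    simp only [F, Scheme.Hom.comp_appTop, CommRingCat.comp_apply]
    congr 1
    have e := congr($(Scheme.ΓSpecIso_inv_naturality (CommRingCat.ofHom q)) (eB.hom c))
    refine ((e.trans ?_)).symm
    show (Spec.map (CommRingCat.ofHom q)).appTop (eB.inv (eB.hom c)) = _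
    rw [Iso.hom_inv_id_apply eB c]
  have hU : IsCompact (U : Set (Spec (CommRingCat.of R'))) := by
    simp only [U, TopologicalSpace.Opens.coe_iSup]
    exact isCompact_iUnion fun i => PrimeSpectrum.isCompact_basicOpen (f i)
  have : CompactSpace (U : Scheme.{u}) := isCompact_iff_compactSpace.mp hU
  have : QuasiSeparatedSpace (U : Scheme.{u}) := quasiSeparatedSpace_of_quasiSeparated U.ι
  have hle : ∀ i, (Spec (CommRingCat.of R')).basicOpen (eR.inv (f i)) ≤ U.ι.opensRange := fun i => by
    rw [Scheme.Opens.opensRange_ι, basicOpen_eq_of_affine]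
    exact le_iSup (fun i => PrimeSpectrum.basicOpen (f i)) i
  have hbo : ∀ i, (U : Scheme.{u}).basicOpen (F.appTop (eB.inv (h i))) = U.ι ⁻¹ᵁ PrimeSpectrum.basicOpen (f i) := by
    intro i
    rw [hF, Iso.inv_hom_id_apply, hq, ← Scheme.preimage_basicOpen_top, basicOpen_eq_of_affine]
  refine (isOpenImmersion_of_sections F (fun i => eB.inv (h i)) ?_ ?_ ?_ ?_).1
  · simp only [hbo, ← Scheme.Hom.preimage_iSup]
    exact Scheme.Opens.ι_preimage_self U
  · intro i
    rw [hbo]
    refine IsAffineOpen.preimage_of_isOpenImmersion ?_ U.ι ?_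
    · exact basicOpen_eq_of_affine (R := CommRingCat.of R') (f i) ▸ (isAffineOpen_top _).basicOpen _
    · exact basicOpen_eq_of_affine (R := CommRingCat.of R') (f i) ▸ hle i
  · intro i c hc
    rw [hF] at hc
    obtain ⟨N, hN⟩ := exists_pow_mul_eq_zero_of_range U.ι (eR.inv (f i)) (hle i) _ hc
    have hN' : f i ^ N * q (eB.hom c) = 0 := by
      simpa using congrArg eR.hom hN
    have hs : s (g i ^ N * p (eB.hom c)) = 0 := by
      rw [map_mul, map_pow, hw', ← hfg, ← map_pow, ← map_mul, hN', map_zero]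
    obtain ⟨L, hL⟩ := Localization.awayMap_injective_iff.mp (hiso i).1 _ hs
    refine ⟨L + N, ?_⟩
    apply (ConcreteCategory.bijective_of_isIso eB.hom).injective
    rw [map_zero, map_mul, map_pow, Iso.inv_hom_id_apply]
    refine uniq _ ?_ ?_
    · rw [map_mul, map_pow, hp, pow_add, mul_assoc, hL]
    · rw [map_mul, map_pow, hq, pow_add, mul_assoc, hN', mul_zero]
  · intro i x
    obtain ⟨N, r₀, hr⟩ := exists_eq_pow_mul_of_range U.ι (eR.inv (f i)) (hle i) x
    let r := eR.hom r₀
    obtain ⟨b, m, hb⟩ := Localization.awayMap_surjective_iff.mp (hiso i).2 (t r)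
    obtain ⟨c, -, hc⟩ := ex b (f i ^ m * r) (by rw [hb, map_mul, map_pow, hfg])
    refine ⟨m + N, eB.inv c, ?_⟩
    rw [hF, Iso.inv_hom_id_apply, hc, hF, Iso.inv_hom_id_apply, hq, map_mul, map_pow, map_mul, map_pow,
      show eR.inv r = r₀ from Iso.hom_inv_id_apply eR r₀, hr, pow_add, mul_assoc]

end Groth.Agent.Approx60
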