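import Groth.Agent.Lim60.RingBridge
import Groth.Agent.RelGCI94.ColimSynt
import Groth.Agent.RelGCI94.SyntProperty
import Groth.Agent.FlatMor68.CIFibres
import Groth.Agent.LimDesc62.Wrap

/-! Syntomic morphisms descend along limits. -/

set_option autoImplicit false
set_option backward.isDefEq.respectTransparency.types false

universe u

open CategoryTheory CategoryTheory.Limits AlgebraicGeometry TensorProduct

noncomputable section

namespace Groth.Agent.Approx60

open LimDesc62 RelGCI94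

theorem descProp_syntomic_aff :
    DescProp.{u} ((@LocallyOfFinitePresentation ⊓ @IsAffineHom) ⊓ targetAff) syntomicProp := by
  refine Lim60.descProp_of_ring (fun {R S} _ _ f => f.FinitePresentation)
    (fun {R S} _ _ f => SyntomicHom f) syntomicHom_isLocal.respectsIso ?_ ?_ ?_
  · intro X Y f _ _ hf
    exact (HasRingHomProperty.iff_of_isAffine (P := @LocallyOfFinitePresentation)).1 hf
  · intro X Y f _ _
    exact HasRingHomProperty.iff_of_isAffine (P := syntomicProp.{u})
  · intro R _ ι G _ _ A _ _ g hs C _ _ hC hA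
    have : Algebra.FinitePresentation R C := RingHom.finitePresentation_algebraMap.1 hC
    obtain ⟨l, hl⟩ := exists_syntomic_stage C hs (syntomicHom_algebraMap.1 hA)
    exact ⟨l, syntomicHom_algebraMap.2 hl⟩

theorem descProp_syntomic : DescProp.{u} @LocallyOfFinitePresentation syntomicProp := by
  have := FlatMor68.CIFibres.syntomicProp_stable.{u}
  have := isStableUnderBaseChange_lfp.{u}
  have : IsZariskiLocalAtTarget (syntomicProp.{u}) := inferInstance
  have : IsZariskiLocalAtSource (syntomicProp.{u}) := inferInstance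
  exact DescProp.of_affine (Lim60.descProp_of_source
    (fun j f _ hf => by have : LocallyOfFinitePresentation f := hf; infer_instance) descProp_syntomic_aff)

theorem S9198 {I : Type u} [SmallCategory I] [IsCofiltered I]
    (D : I ⥤ Scheme.{u}) (c : Limits.Cone D) (hc : Limits.IsLimit c)
    [∀ (i j : I) (f : i ⟶ j), IsAffineHom (D.map f)] (i₀ : I) [CompactSpace (D.obj i₀)]
    [QuasiSeparatedSpace (D.obj i₀)] {X₀ Y₀ : Scheme.{u}} (f₀ : X₀ ⟶ Y₀) (g₀ : Y₀ ⟶ D.obj i₀)
    [CompactSpace X₀] [QuasiSeparatedSpace X₀] [CompactSpace Y₀] [QuasiSeparatedSpace Y₀]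
    [LocallyOfFinitePresentation f₀]
    {X Y : Scheme.{u}} (f : X ⟶ Y) (g : Y ⟶ c.pt) (qY : Y ⟶ Y₀) (qX : X ⟶ X₀)
    (hY : IsPullback qY g g₀ (c.π.app i₀)) (hX : IsPullback qX f f₀ qY) (hf : Synt.IsSyntomicMor f) :
    ∃ (i : I) (φ : i ⟶ i₀) (Xi Yi : Scheme.{u}) (fi : Xi ⟶ Yi) (gi : Yi ⟶ D.obj i) (pY : Yi ⟶ Y₀)
      (pX : Xi ⟶ X₀), IsPullback pY gi g₀ (D.map φ) ∧ IsPullback pX fi f₀ pY ∧ Synt.IsSyntomicMor fi := by
  have := respectsIso_lfp.{u}
  have := FlatMor68.CIFibres.syntomicProp_stable.{u}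
  obtain ⟨j, φ, Xi, Yi, fi, gi, pY, pX, h1, h2, h3⟩ :=
    descProp_syntomic.wrap D c hc i₀ f₀ g₀ ‹_› f g qY qX hY hX ((isSyntomicMor_iff f).1 hf)
  exact ⟨j, φ, Xi, Yi, fi, gi, pY, pX, h1, h2, (isSyntomicMor_iff fi).2 h3⟩

end Groth.Agent.Approx60
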